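import Cfsg.Agent.FT.Main
import Cfsg.Agent.FT.Rank
import Mathlib.LinearAlgebra.Matrix.ProjectiveSpecialLinearGroup
import Mathlib.GroupTheory.SpecificGroups.Alternating

/-! Simple groups all of whose Sylow subgroups are abelian: definitions
(see `notes/s2554_plan.md`). -/

set_option autoImplicit false
set_option linter.unusedSectionVars false

namespace Cfsg.Agent.AG

open Subgroup Cfsg.Agent.FT
open scoped commutatorElement

universe u

/-- all Sylow subgroups are abelian -/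
def IsA (G : Type*) [Group G] : Prop :=
  ∀ (p : ℕ), p.Prime → ∀ (P : Sylow p G), IsMulCommutative ↥P

/-- an involution has centralizer `2 × A₅` -/
def JT (G : Type*) [Group G] : Prop :=
  ∃ t : G, orderOf t = 2 ∧ Nonempty (centralizer ({t} : Set G) ≃*
    Multiplicative (ZMod 2) × alternatingGroup (Fin 5))

/-- the linear groups of the list -/
def LT (G : Type*) [Group G] : Prop :=
  ∃ (F : Type) (_ : Field F) (_ : Fintype F), 3 < Fintype.card F ∧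
    (Fintype.card F % 8 = 0 ∨ Fintype.card F % 8 = 3 ∨ Fintype.card F % 8 = 5) ∧
    Nonempty (G ≃* Matrix.ProjectiveSpecialLinearGroup (Fin 2) F)

/-- the conclusion of the classification -/
def Kn (G : Type*) [Group G] : Prop := JT G ∨ LT G

/-- nonabelian simple group with abelian Sylow subgroups -/
structure Sim (G : Type*) [Group G] : Prop where
  simple : IsSimpleGroup G
  na : ¬ IsMulCommutative G
  isA : IsA G

/-- the inductive situation -/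
structure Min (G : Type u) [Group G] [Finite G] : Prop where
  sim : Sim G
  ih : ∀ (K : Type u) [Group K] [Finite K], Sim K → Nat.card K < Nat.card G → Kn K

section
variable {G : Type u} [Group G] [Finite G]

/-- `O(X)` -/
abbrev Oo (X : Subgroup G) : Subgroup G := core {2}ᶜ X

/-- a proper subgroup contains `N(S)` and the centralizers of the involutions of `S` -/
def SE (S : Subgroup G) : Prop :=
  ∃ M : Subgroup G, M ≠ ⊤ ∧ 𝐍(S) ≤ M ∧ ∀ a ∈ S, orderOf a = 2 → 𝐂[a] ≤ M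
end

/-- the properties of the known groups that come from their explicit description -/
structure Good0 (K : Type u) [Group K] [Finite K] : Prop where
  elem : ∀ S : Subgroup K, Syl 2 S ⊤ → Abelem 2 S
  four : ∀ S : Subgroup K, Syl 2 S ⊤ → 4 ≤ ♯S
  selfc : ∀ S : Subgroup K, Syl 2 S ⊤ → 𝐂(S) ≤ S
  sing : ∀ S : Subgroup K, Syl 2 S ⊤ → ∃ τ ∈ 𝐍(S), τ ^ (♯S - 1) = 1 ∧
    ∀ x ∈ S, x ≠ 1 → ∀ y ∈ S, y ≠ 1 → ∃ i : ℕ, τ ^ i * x * (τ ^ i)⁻¹ = y
  cyc : ∀ k : K, orderOf k = 2 → IsCyclic (Oo 𝐂[k])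
  inv : ∀ k s : K, orderOf k = 2 → orderOf s = 2 → s ≠ k → s * k = k * s →
    ∀ x ∈ Oo 𝐂[k], s * x * s⁻¹ = x⁻¹
  big : ∀ S : Subgroup K, Syl 2 S ⊤ → 4 < ♯S → ∀ k : K, orderOf k = 2 → Oo 𝐂[k] = ⊥
  ti : ∀ k : K, orderOf k = 2 → ∀ x ∈ Oo 𝐂[k], x ≠ 1 → 𝐂[x] ≤ 𝐂[k]
  cnt : ∀ S : Subgroup K, Syl 2 S ⊤ → ♯S = 4 → ∀ k : K, orderOf k = 2 →
    (4 * ♯(Oo 𝐂[k]) - 1) * (2 * ♯(Oo 𝐂[k]) - 1) ≤ Nat.card {x : K // orderOf x = 2}

/-- all the properties of the known groups used in the proof -/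
structure Good (K : Type u) [Group K] [Finite K] : Prop extends Good0 K where
  gen : ∀ (S : Subgroup K) (k : K), Syl 2 S ⊤ → k ∈ S → orderOf k = 2 → Oo 𝐂[k] ≠ ⊥ →
    𝐍(S) ⊔ 𝐂[k] = ⊤
  aut : ∀ (α : MulAut K) (k : K), orderOf k = 2 → Odd (orderOf α) → (∀ x ∈ 𝐂[k], α x = x) →
    α = 1

variable {G : Type u} [Group G] [Finite G]

/-- `L / O(X)` is a (simple) component of `X / O(X)` -/
structure Cmp (X L : Subgroup G) : Prop where
  le : L ≤ X
  ge : Oo X ≤ L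
  sn : SN X L
  simple : IsSimpleGroup (bar (Oo X) L)
  na : ¬ IsMulCommutative (bar (Oo X) L)

/-- the elements of `X` centralizing `L / O(X)` -/
def cm (X L : Subgroup G) : Subgroup G := X ⊓ unbar (Oo X) 𝐂(bar (Oo X) L)

/-- the largest perfect subgroup -/
def res (L : Subgroup G) : Subgroup G := sSup {K | K ≤ L ∧ ⁅K, K⁆ = K}

/-- the preimage of the layer of `X / O(X)` -/
def Lay (X : Subgroup G) : Subgroup G := Oo X ⊔ sSup {L | Cmp X L}

/-- "not of Bender type": `L / O(X)` is generated by a Sylow normalizer and an involution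
centralizer -/
def Nb (X S L : Subgroup G) : Prop :=
  ∀ (M : Subgroup G) (k : G), k ∈ S ⊓ L → k ≠ 1 → Oo X ≤ M → L ⊓ 𝐍(S) ≤ M →
    L ⊓ 𝐂(S ⊓ cm X L) ⊓ 𝐂[k] ≤ M → L ≤ M

/-- `τ` acts on `S = β × β'` as a Singer cycle on `β` and trivially on `β'` -/
structure Sing (S : Subgroup G) (τ : G) (β β' : Subgroup G) : Prop where
  nS : τ ∈ 𝐍(S)
  sup : β ⊔ β' = S
  inf : β ⊓ β' = ⊥
  elem : Abelem 2 β
  four : 4 ≤ ♯β
  nb : τ ∈ 𝐍(β)
  cen : β' ≤ 𝐂[τ]
  pow : τ ^ (♯β - 1) ∈ 𝐂(S)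
  tr : ∀ x ∈ β, x ≠ 1 → ∀ y ∈ β, y ≠ 1 → ∃ i : ℕ, τ ^ i * x * (τ ^ i)⁻¹ = y

/-- the preimage of `F(N(S) / C(S))` -/
def FF (S : Subgroup G) : Subgroup G := unbar 𝐂(S) (fit (bar 𝐂(S) 𝐍(S)))

/-- `(β, β')` comes from a component of an involution centralizer -/
def Blk (S β β' : Subgroup G) : Prop :=
  ∃ (a : G) (L : Subgroup G), a ∈ S ∧ orderOf a = 2 ∧ Cmp 𝐂[a] L ∧ β = S ⊓ L ∧
    β' = S ⊓ cm 𝐂[a] L

/-- a block whose Singer cycle lies in `F(N(S) / C(S))` -/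
def FBlk (S β β' : Subgroup G) : Prop := Blk S β β' ∧ ∃ τ ∈ FF S, Sing S τ β β'

/-- `K` is the perfect part of a component with block `(β, β')` -/
def KB (S β β' K : Subgroup G) : Prop :=
  ∃ (a : G) (L : Subgroup G), a ∈ S ∧ orderOf a = 2 ∧ Cmp 𝐂[a] L ∧ β = S ⊓ L ∧
    β' = S ⊓ cm 𝐂[a] L ∧ K = res L

/-- `Δ(E)`, the intersection of the `O(C(e))`, `1 ≠ e ∈ E` -/
def Del (E : Subgroup G) : Subgroup G := ⨅ e : {e : G // e ∈ E ∧ e ≠ 1}, Oo 𝐂[(e : G)]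

/-- `G` is balanced with respect to `S` -/
def Bal (S : Subgroup G) : Prop :=
  ∀ a ∈ S, ∀ e ∈ S, orderOf a = 2 → orderOf e = 2 → Oo 𝐂[a] ⊓ 𝐂[e] ≤ Oo 𝐂[e]

/-- the `Δ(F)` of four-groups are centralized by `Ω₁(S)` -/
def Triv (S : Subgroup G) : Prop :=
  ∀ F : Subgroup G, F ≤ om 2 S → ♯F = 4 → Del F ≤ 𝐂(om 2 S)

/-- 2-rank at least 3, not of Janko-Ree type -/
structure R3 (S : Subgroup G) : Prop where
  min : Min G
  syl : Syl 2 S ⊤
  rk : 8 ≤ ♯(om 2 S)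
  njr : ♯S = 8 → ∀ β β', ¬ Blk S β β'

/-- Klein four Sylow 2-subgroups, no strongly embedded subgroup -/
structure V4 (S : Subgroup G) (t s : G) : Prop where
  min : Min G
  syl : Syl 2 S ⊤
  card : ♯S = 4
  elem : Abelem 2 S
  nse : ¬ SE S
  tS : t ∈ S
  sS : s ∈ S
  t2 : orderOf t = 2
  s2 : orderOf s = 2
  ne : t ≠ s

end Cfsg.Agent.AG
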