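import Cfsg.Agent.AG.Defs
import Cfsg.Agent.H3.Misc

/-! Elementary properties of `O(X)` and `Δ(E)`. -/

set_option autoImplicit false
set_option linter.unusedSectionVars false

namespace Cfsg.Agent.AG

open Subgroup Cfsg.Agent.FT
open scoped commutatorElement

universe u
variable {G : Type u} [Group G] [Finite G] {E E' X D A K : Subgroup G}

theorem odd_iff_piG {H : Subgroup G} : Odd ♯H ↔ PiG {2}ᶜ H := by
  rw [piG_compl_singleton, ← Nat.not_even_iff_odd, even_iff_two_dvd]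

theorem odd_oo (X : Subgroup G) : Odd ♯(Oo X) := odd_iff_piG.2 (core_piG _ _)

theorem le_oo_of_nrm (h : D ⊴ X) (ho : Odd ♯D) : D ≤ Oo X := le_core h (odd_iff_piG.1 ho)

theorem solv_of_odd (ho : Odd ♯D) : Group.IsSolvable D := odd_order_solvable ho

theorem cop2 (hA : IsPGroup 2 A) (ho : Odd ♯D) : (♯A).Coprime ♯D :=
  coprime_of_isPGroup hA (odd_iff_piG.1 ho)

theorem cj_oo_cent (g a : G) : cj g (Oo 𝐂[a]) = Oo 𝐂[g * a * g⁻¹] := by rw [cj_core, cj_cent1]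

theorem mem_Del {x : G} : x ∈ Del E ↔ ∀ e ∈ E, e ≠ 1 → x ∈ Oo 𝐂[e] := by
  simp [Del, mem_iInf]

theorem Del_le {e : G} (he : e ∈ E) (h1 : e ≠ 1) : Del E ≤ Oo 𝐂[e] := fun _ hx => mem_Del.1 hx e he h1

theorem le_Del (h : ∀ e ∈ E, e ≠ 1 → D ≤ Oo 𝐂[e]) : D ≤ Del E :=
  fun _ hx => mem_Del.2 fun e he h1 => h e he h1 hx

theorem Del_anti (h : E ≤ E') : Del E' ≤ Del E := le_Del fun _ he h1 => Del_le (h he) h1

theorem Del_le_cent (E : Subgroup G) : Del E ≤ 𝐂(E) := fun x hx => mem_cent_iff.2 fun e he => by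
  by_cases h1 : e = 1
  · simp [h1]
  · exact (mem_cent1_iff.1 (core_le _ _ (mem_Del.1 hx e he h1))).symm

theorem odd_Del (h : E ≠ ⊥) : Odd ♯(Del E) :=
  let ⟨_, he, h1⟩ := exists_ne_one_of_ne_bot h; odd_of_le (Del_le he h1) (odd_oo _)

theorem cj_Del_le (g : G) (E : Subgroup G) : cj g (Del E) ≤ Del (cj g E) := le_Del fun e he h1 => by
  have h2 : g⁻¹ * e * g ≠ 1 := fun h => h1 (by
    have : e = g * (g⁻¹ * e * g) * g⁻¹ := by group
    rw [this, h]; group)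
  have := cj_mono g (Del_le (mem_cj.1 he) h2)
  rwa [cj_oo_cent, show g * (g⁻¹ * e * g) * g⁻¹ = e by group] at this

theorem cj_Del (g : G) (E : Subgroup G) : cj g (Del E) = Del (cj g E) := by
  refine le_antisymm (cj_Del_le g E) ?_
  have := cj_mono g (cj_Del_le g⁻¹ (cj g E))
  rwa [cj_inv_cj, cj_cj_inv] at this

theorem norm_le_norm_Del (E : Subgroup G) : 𝐍(E) ≤ 𝐍(Del E) := fun g hg => by
  rw [← cj_eq_iff_mem_normalizer, cj_Del, cj_eq_iff_mem_normalizer.2 hg]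

theorem cent_le_norm_Del (E : Subgroup G) : 𝐂(E) ≤ 𝐍(Del E) :=
  (cent_le_norm E).trans (norm_le_norm_Del E)

/-- `D = [D, A] C_D(A)` -/
theorem le_of_cop (hA : IsPGroup 2 A) (ho : Odd ♯D) (hn : A ≤ 𝐍(D)) (h1 : ⁅D, A⁆ ≤ K)
    (h2 : D ⊓ 𝐂(A) ≤ K) : D ≤ K := by
  rw [← H2.centralizer_sup_commutator hn (cop2 hA ho) (Or.inr (solv_of_odd ho))]
  exact sup_le h2 h1

/-- generation by centralizers of hyperplanes -/
theorem le_of_hyp (hA : Abelem 2 A) (h1 : A ≠ ⊥) (ho : Odd ♯D) (hn : A ≤ 𝐍(D))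
    (h : ∀ B ≤ A, ♯A = ♯B * 2 → D ⊓ 𝐂(B) ≤ K) : D ≤ K :=
  H2.le_of_forall_centralizer_hyperplane_le hA.1 hA.2 h1 hn (cop2 hA.isPGroup ho) h

/-- generation by centralizers of involutions -/
theorem le_of_four (hA : Abelem 2 A) (h4 : 4 ≤ ♯A) (ho : Odd ♯D) (hn : A ≤ 𝐍(D))
    (h : ∀ a ∈ A, a ≠ 1 → D ⊓ 𝐂[a] ≤ K) : D ≤ K := by
  refine H2.le_of_forall_centralizer_le hA.1 (fun hc => ?_) hn (cop2 hA.isPGroup ho) h
  have := card_le_of_abelem_of_isCyclic hA hc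
  omega

theorem card_fg (hA : Abelem 2 A) {a b : G} (ha : a ∈ A) (h1 : a ≠ 1) (hb : b ∈ A)
    (hab : b ∉ zpowers a) : ♯(zpowers a ⊔ zpowers b : Subgroup G) = 4 := by
  rw [H2.card_sup_zpowers_eq (p := 2) (cent_le_norm _ (cent_anti (zpowers_le.2 ha) (hA.le_cent hb))) hab
    (by rw [hA.2 b hb]; exact one_mem _), Nat.card_zpowers, hA.orderOf_eq ha h1]

/-- a four-group is generated by two of its involutions -/
theorem exists_fg (hA : Abelem 2 A) (h4 : ♯A = 4) : ∃ a ∈ A, ∃ b ∈ A, a ≠ 1 ∧ b ∉ zpowers a ∧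
    A = zpowers a ⊔ zpowers b := by
  obtain ⟨a, ha, h1⟩ := exists_ne_one_of_ne_bot (H := A) (by rintro rfl; simp at h4)
  have h2 : ¬ A ≤ zpowers a := fun hl => by
    have := card_le_of_le' hl
    rw [Nat.card_zpowers, hA.orderOf_eq ha h1, h4] at this
    omega
  obtain ⟨b, hb, hab⟩ := SetLike.not_le_iff_exists.1 h2
  refine ⟨a, ha, b, hb, h1, hab, (eq_of_le_of_card_le (sup_le (zpowers_le.2 ha) (zpowers_le.2 hb)) ?_).symm⟩
  rw [card_fg hA ha h1 hb hab, h4]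

theorem odd_of_no_inv {H : Subgroup G} (h : ∀ t ∈ H, orderOf t ≠ 2) : Odd ♯H := by
  by_contra ho
  rw [Nat.not_odd_iff_even, even_iff_two_dvd] at ho
  obtain ⟨t, ht, h2⟩ := exists_orderOf_eq_prime Nat.prime_two ho
  exact h t ht h2

theorem not_odd_of_inv {H : Subgroup G} {t : G} (ht : t ∈ H) (h2 : orderOf t = 2) : ¬ Odd ♯H :=
  fun ho => by
    have := ho.of_dvd_nat (orderOf_dvd_card' ht)
    rw [h2] at this
    exact absurd this (by decide)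

theorem orderOf_conj' (g x : G) : orderOf (g * x * g⁻¹) = orderOf x := by
  rw [← MulAut.conj_apply, MulEquiv.orderOf_eq]

theorem exists_conj_mem_syl {p : ℕ} [Fact p.Prime] {P X : Subgroup G} (hP : Syl p P X) {x : G}
    (hx : x ∈ X) (ho : orderOf x = p) : ∃ m ∈ X, m * x * m⁻¹ ∈ P := by
  obtain ⟨m, hm, h⟩ := hP.exists_cj_le (Q := zpowers x)
    (isPGroup_of_card_prime (by rw [Nat.card_zpowers, ho])) (zpowers_le.2 hx)
  exact ⟨m, hm, h (conj_mem_cj (mem_zpowers x))⟩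

theorem sq_of_two {t : G} (h : orderOf t = 2) : t * t = 1 := by
  rw [← pow_two, ← h, pow_orderOf_eq_one]

theorem ne_one_of_two' {a : G} (h : orderOf a = 2) : a ≠ 1 := by rintro rfl; simp at h

theorem isPGroup_zp {t : G} (h : orderOf t = 2) : IsPGroup 2 (zpowers t) :=
  isPGroup_of_card_prime (by rw [Nat.card_zpowers, h])

theorem inv_of_fpf {t : G} (ht : orderOf t = 2) (h1 : t ∈ 𝐍(K)) (h : K ⊓ 𝐂[t] = ⊥) :
    ∀ x ∈ K, t * x * t⁻¹ = x⁻¹ := fun _ hx => H3.inverts_of_fixedPointFree (sq_of_two ht) h1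
  (fun _ hn e => mem_bot.1 (h ▸ mem_inf.2 ⟨hn, mem_cent1_iff.2 e.symm⟩)) hx

theorem odd_orderOf (ho : Odd ♯K) {x : G} (hx : x ∈ K) : Odd (orderOf x) :=
  ho.of_dvd_nat (orderOf_dvd_card' hx)

theorem mem_of_sq_mem {x : G} (ho : Odd (orderOf x)) (h : x ^ 2 ∈ K) : x ∈ K := by
  obtain ⟨m, hm⟩ := ho
  have : x = (x ^ 2) ^ (m + 1) := by
    rw [← pow_mul, show 2 * (m + 1) = orderOf x + 1 by omega, pow_succ, pow_orderOf_eq_one, one_mul]
  rw [this]; exact pow_mem h _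

theorem mem_comm_of_inv {Y U : Subgroup G} {k t : G} (hk : k ∈ Y) (ht : t ∈ U)
    (ho : Odd (orderOf k)) (h : t * k * t⁻¹ = k⁻¹) : k ∈ ⁅Y, U⁆ := by
  refine mem_of_sq_mem ho ?_
  have := commutator_mem_commutator hk ht
  rwa [commutatorElement_def, show k * t * k⁻¹ * t⁻¹ = k * (t * k * t⁻¹)⁻¹ by group, h, inv_inv,
    ← pow_two] at this

theorem eq_one_of_inv_of_comm {x t : G} (ho : Odd (orderOf x)) (h : t * x * t⁻¹ = x⁻¹)
    (hc : x ∈ 𝐂[t]) : x = 1 := by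
  refine mem_bot.1 (mem_of_sq_mem ho (mem_bot.2 ?_))
  rw [← mem_cent1_iff.1 hc, mul_inv_cancel_right] at h
  rw [pow_two]; nth_rw 1 [h]; simp

/-- two subgroups inverted by the same element, one of odd order normalizing the other -/
theorem le_cent_of_inv {Z V : Subgroup G} {t : G} (hZ : Odd ♯Z) (hn : Z ≤ 𝐍(V))
    (h1 : ∀ x ∈ Z, t * x * t⁻¹ = x⁻¹) (h2 : ∀ x ∈ V, t * x * t⁻¹ = x⁻¹) : Z ≤ 𝐂(V) := fun z hz => by
  refine mem_of_sq_mem (odd_orderOf hZ hz) (mem_cent_iff.2 fun v hv => ?_)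
  have e1 := h2 _ (conj_mem_of_mem_normalizer (hn hz) (inv_mem hv))
  have e2 : t * (z * v⁻¹ * z⁻¹) * t⁻¹ = (t * z * t⁻¹) * (t * v * t⁻¹)⁻¹ * (t * z * t⁻¹)⁻¹ := by group
  rw [e2, h1 z hz, h2 v hv] at e1
  rw [pow_two]
  calc v * (z * z) = z * (z⁻¹ * v⁻¹⁻¹ * z⁻¹⁻¹) * z := by simp [mul_assoc]
    _ = z * z * v := by rw [e1]; simp [mul_assoc]

end Cfsg.Agent.AG
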