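import Cfsg.Agent.AG.IJb
import Cfsg.Agent.JR.Main
import Cfsg.Agent.MC.PFa

/-! Section J: the Janko-Ree case (see `notes/s2554_plan.md`). -/

set_option autoImplicit false
set_option linter.unusedSectionVars false

namespace Cfsg.Agent.AG

open Subgroup Cfsg.Agent.FT
open scoped commutatorElement

universe u
variable {G : Type u} [Group G] [Finite G]

theorem J8.jt {S : Subgroup G} (h : J8 S) (h1 : ∀ a ∈ S, a ≠ 1 → Oo 𝐂[a] = ⊥) : JT G := by
  obtain ⟨a, ha, a1⟩ := exists_ne_one_of_ne_bot (H := S) (one_lt_card.1 (by rw [h.card]; decide))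
  obtain ⟨L, c1, c2, c3, c4, -, c5⟩ := h.cmp ha a1
  have a2 : orderOf a = 2 := h.elem.orderOf_eq ha a1
  have hX := h.min.sim.cent_ne_top a1
  have hS := h.syl_of_le (X := 𝐂[a]) (le_cent1_iff.2 (h.elem.le_cent ha))
  have e := barEquivOfInf (H := L) (N := Oo 𝐂[a]) (c1.le.trans (core_nrm _ _).norm) (by rw [h1 a ha a1, inf_bot_eq])
  have n8 : ¬ 8 ∣ Nat.card (bar (Oo 𝐂[a]) L) := fun d => (c1.syl hS).not_dvd (by
    rw [← Nat.card_congr e.toEquiv, ← (c1.syl hS).card_mul_relIndex, c2] at d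
    exact Nat.dvd_of_mul_dvd_mul_left (show 0 < 4 by decide) d)
  rcases c1.kn h.min hX with ⟨t, -, ⟨f⟩⟩ | ⟨F, _, _, q3, q8, ⟨f⟩⟩
  · refine absurd (Dvd.dvd.trans ?_ (card_subgroup_dvd_card (centralizer {t}))) n8
    rw [Nat.card_congr f.toEquiv, Nat.card_prod, Nat.card_eq_fintype_card, Nat.card_eq_fintype_card,
      card_alternatingGroup]
    decide
  refine ⟨a, a2, JR.main (L := L) (F := F) ⟨h.min.sim.simple, h.min.sim.isA,
    fun H _ _ hH a b c => h.min.ih H ⟨hH, b, c⟩ a, a2, c4, ⟨e.trans f⟩, q3, q8.resolve_left fun d => n8 ?_, ?_, ?_⟩⟩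
  · have := MC.F0_card (F := F)
    rw [show Nat.gcd 2 (Fintype.card F - 1) = 1 from Nat.coprime_two_left.2 (Nat.odd_iff.2 (by omega)),
      one_mul] at this
    rw [Nat.card_congr f.toEquiv, this]
    exact (Nat.dvd_of_mod_eq_zero d).mul_right _
  · rw [h1 a ha a1, bot_sup_eq] at c5
    rw [← c5]
    ext x
    rw [mem_cm c1.le, h1 a ha a1, mem_inf, mem_cent_iff]
    refine and_congr_right fun _ => forall₂_congr fun l _ => ?_
    rw [mem_bot, mul_inv_eq_one, mul_inv_eq_iff_eq_mul, eq_comm]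
  · refine Nat.not_even_iff_odd.1 fun d => hS.not_dvd ((even_iff_two_dvd.1 d).trans (relIndex_dvd_of_le_left _ ?_))
    rw [← (c1.dec h.min hX hS).2.1, c3]
    exact sup_le (inf_le_right.trans le_sup_right) le_sup_left

theorem jr (hG : Min G) {S β β' : Subgroup G} (hS : Syl 2 S ⊤) (h8 : ♯S = 8) (he : Abelem 2 S)
    (hb : Blk S β β') : JT G ∨ SE S :=
  have h : J8 S := ⟨hG, hS, h8, he, β, β', hb⟩
  h.se_or.elim Or.inr fun h1 => Or.inl (h.jt h1)

end Cfsg.Agent.AG
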