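import Cfsg.Agent.AG.R31

/-! Section R3: the unbalanced case (see `notes/s2554_plan.md`). -/

set_option autoImplicit false
set_option linter.unusedSectionVars false

namespace Cfsg.Agent.AG

open Subgroup Cfsg.Agent.FT
open scoped commutatorElement

universe u
variable {G : Type u} [Group G] [Finite G]

variable {S β β' M : Subgroup G}

theorem R3.of_unbal (h : R3 S) (hb : ¬ Bal S) (hM : M ≠ ⊤) (h1 : 𝐍(S) ≤ M)
    (h2 : ∀ E : Subgroup G, E ≤ om 2 S → ♯E = 8 → 𝐍(E) ≤ M) : SE S :=
  h.of_unbal' hb hM h1 h2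

end Cfsg.Agent.AG
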