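import Cfsg.Agent.AG.IA
import Cfsg.Agent.FT.P.BG03a
import Cfsg.Agent.MC.QO1
import Cfsg.Agent.FT.Char1

/-! Section L: Singer cycles in `N(S) / C(S)` (see `notes/s2554_plan.md`). -/

set_option autoImplicit false
set_option linter.unusedSectionVars false

namespace Cfsg.Agent.AG

open Subgroup Cfsg.Agent.FT
open scoped commutatorElement

universe u
variable {G : Type u} [Group G] [Finite G]

variable {S β β' γ γ' : Subgroup G} {τ σ : G}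

theorem FF_nrm (S : Subgroup G) : FF S ⊴ 𝐍(S) :=
  nrm_unbar_of_nrm_bar ⟨cent_le_norm S, H1.normalizer_le_normalizer_centralizer S⟩ (fit_nrm _)

theorem FF_le (S : Subgroup G) : FF S ≤ 𝐍(S) := (FF_nrm S).le

theorem conj_mem_FF {n : G} (hn : n ∈ 𝐍(S)) (hτ : τ ∈ FF S) : n * τ * n⁻¹ ∈ FF S := 
  (FF_nrm S).conj_mem hn hτ

theorem Sing.cj (h : Sing S τ β β') (g : G) :
    Sing (cj g S) (g * τ * g⁻¹) (cj g β) (cj g β') := by
  refine ⟨cj_normalizer g S ▸ conj_mem_cj h.nS, by rw [← cj_sup, h.sup], by rw [← cj_inf, h.inf, cj_bot],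
    h.elem.cj g, (card_cj g β).symm ▸ h.four, cj_normalizer g β ▸ conj_mem_cj h.nb,
    cj_cent1 g τ ▸ cj_mono g h.cen, ?_, ?_⟩
  · rw [card_cj, conj_pow, ← cj_centralizer]; exact conj_mem_cj h.pow
  · rintro _ ⟨x, hx, rfl⟩ x1 _ ⟨y, hy, rfl⟩ y1
    obtain ⟨i, e⟩ := h.tr x hx (fun r => x1 (by rw [r, map_one])) y hy fun r => y1 (by rw [r, map_one])
    refine ⟨i, ?_⟩
    show _ * (g * x * g⁻¹) * _ = g * y * g⁻¹
    rw [conj_pow, ← e]; group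

theorem Sing.le (h : Sing S τ β β') : β ≤ S := h.sup ▸ le_sup_left
theorem Sing.le' (h : Sing S τ β β') : β' ≤ S := h.sup ▸ le_sup_right

theorem Sing.dec (h : Sing S τ β β') (hS : IsMulCommutative S) {x : G} (hx : x ∈ S) :
    ∃ b ∈ β, ∃ c ∈ β', b * c = x :=
  (mem_sup_of_le_normalizer' (h.le'.trans (nrm_of_comm hS h.le).norm)).1 (h.sup.ge hx)

theorem Sing.not_le (h : Sing S τ β β') : ¬ β ≤ β' := fun e => by
  have := h.four
  rw [← inf_eq_left.2 e, h.inf, card_bot] at this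
  omega

theorem Sing.fpf (h : Sing S τ β β') {b : G} (hb : b ∈ β) (e : b ∈ 𝐂[τ]) : b = 1 := by
  by_contra b1
  have k : β ≤ zpowers b := fun y hy => by
    by_cases y1 : y = 1
    · exact y1 ▸ one_mem _
    obtain ⟨i, r⟩ := h.tr b hb b1 y hy y1
    rw [← r, mem_cent1_iff.1 (pow_mem (mem_cent1_comm.1 e) i), mul_inv_cancel_right]
    exact mem_zpowers b
  have h1 := h.four.trans (card_le_of_le' k)
  have h2 := Nat.le_of_dvd two_pos (orderOf_dvd_of_pow_eq_one (h.elem.2 b hb))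
  rw [Nat.card_zpowers] at h1
  omega

theorem Sing.eq_cent (h : Sing S τ β β') (hS : IsMulCommutative S) : S ⊓ 𝐂[τ] = β' := by
  refine le_antisymm (fun x hx => ?_) (le_inf h.le' h.cen)
  obtain ⟨b, hb, c, hc, rfl⟩ := h.dec hS hx.1
  rwa [h.fpf hb ((mul_mem_cancel_right (h.cen hc)).1 hx.2), one_mul]

theorem Sing.comm_mem (h : Sing S τ β β') (hS : IsMulCommutative S) {t x : G} (ht : t ∈ zpowers τ)
    (hx : x ∈ S) : t * x * t⁻¹ * x⁻¹ ∈ β := by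
  obtain ⟨b, hb, c, hc, rfl⟩ := h.dec hS hx
  rw [show t * (b * c) * t⁻¹ * (b * c)⁻¹ = t * b * (c * t⁻¹) * c⁻¹ * b⁻¹ by group,
    mem_cent1_iff.1 (cent1_le_cent1_of_mem (inv_mem ht) (h.cen hc)), ← mul_assoc, mul_inv_cancel_right]
  exact mul_mem (H1.conj_mem_of_mem_normalizer (zpowers_le.2 h.nb ht) hb) (inv_mem hb)

/-- a subgroup of `S` normalized by `τ` contains `β` or lies in `β'` -/
theorem Sing.le_or (h : Sing S τ β β') (hS : IsMulCommutative S) {B : Subgroup G} (hB : B ≤ S)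
    (hn : τ ∈ 𝐍(B)) : β ≤ B ∨ B ≤ β' := by
  refine or_iff_not_imp_right.2 fun e y hy => ?_
  obtain ⟨x, hx, x1⟩ := SetLike.not_le_iff_exists.1 e
  by_cases y1 : y = 1
  · exact y1 ▸ one_mem _
  obtain ⟨i, r⟩ := h.tr _ (h.comm_mem hS (mem_zpowers τ) (hB hx)) (fun r => x1 ((h.eq_cent hS).le
    ⟨hB hx, mem_cent1_comm.1 (mem_cent1_iff.2
      (mul_inv_eq_iff_eq_mul.1 (mul_inv_eq_one.1 r)))⟩)) y hy y1
  exact r ▸ H1.conj_mem_of_mem_normalizer (pow_mem hn i)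
    (mul_mem (H1.conj_mem_of_mem_normalizer hn hx) (inv_mem hx))

/-- `Ω₁(S) = β × Ω₁(β')` -/
theorem Sing.card_om (hA : IsA G) (hS : IsPGroup 2 S) (h : Sing S τ β β') :
    β ⊔ om 2 β' = om 2 S ∧ ♯(om 2 S) = ♯β * ♯(om 2 β') := by
  have c := hA.comm hS
  have e : β ⊔ om 2 β' = om 2 S := le_antisymm (sup_le (h.elem.le_om h.le) (om_mono h.le'))
    (om_le_iff.2 fun x hx r => by
      obtain ⟨b, hb, d, hd, rfl⟩ := h.dec c hx
      rw [Commute.mul_pow (mem_cent_iff.1 (comm_iff_le_cent.1 c (h.le' hd)) b (h.le hb)),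
        h.elem.2 b hb, one_mul] at r
      exact mul_mem (mem_sup_left hb) (mem_sup_right (mem_om hd r)))
  exact ⟨e, e ▸ card_sup_of_inf_eq_bot (((om_le 2 β').trans h.le').trans (nrm_of_comm c h.le).norm)
    (eq_bot_iff.2 ((inf_le_inf_left β (om_le 2 β')).trans h.inf.le))⟩

theorem Sing.uniq (h : Sing S τ β β') (h' : Sing S σ γ γ') (hS : IsMulCommutative S)
    (e : τ⁻¹ * σ ∈ 𝐂(S)) : β = γ ∧ β' = γ' := by
  have k : ∀ {τ σ β β' γ γ'}, Sing S τ β β' → Sing S σ γ γ' → τ⁻¹ * σ ∈ 𝐂(S) → β' ≤ γ' :=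
    fun h h' e x hx => (h'.eq_cent hS).le ⟨h.le' hx, mem_cent1_comm.1 ((mul_mem_cancel_left
      (inv_mem (mem_cent1_comm.1 (h.cen hx)))).1 (cent_le_cent1 (h.le' hx) e))⟩
  have e' : σ⁻¹ * τ ∈ 𝐂(S) := by simpa using inv_mem e
  have e1 := (k h h' e).antisymm (k h' h e')
  have k' : ∀ {τ σ β β' γ}, Sing S τ β β' → Sing S σ γ β' → τ⁻¹ * σ ∈ 𝐂(S) → γ ≤ β :=
    fun h h' e => (h'.le_or hS h.le ((mul_mem_cancel_left (inv_mem h.nb)).1
      (cent_le_norm _ (cent_anti h.le e)))).resolve_right h.not_le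
  subst e1
  exact ⟨(k' h' h e').antisymm (k' h h' e), rfl⟩

theorem FF_comm (hA : IsA G) (hτ : τ ∈ FF S) (hσ : σ ∈ FF S) : σ⁻¹ * (τ * σ * τ⁻¹) ∈ 𝐂(S) := by
  have c := comm_iff_le_cent.1 ((hA.quo 𝐂(S)).comm_of_nil (fit_nil (bar 𝐂(S) 𝐍(S))))
  obtain ⟨t1, t2⟩ := mem_unbar.1 hτ
  obtain ⟨s1, s2⟩ := mem_unbar.1 hσ
  rw [← coset_eq_iff s1 (mul_mem (mul_mem t1 s1) (inv_mem t1)), coset_conj t1 s1,
    mem_cent_iff.1 (c s2) _ t2, mul_inv_cancel_right]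

theorem odd_mem (hS : Syl 2 S ⊤) {K : Subgroup G} (hK : S ≤ K) {n : G} (hn : n ∈ 𝐍(S))
    (h : n * n ∈ K) : n ∈ K := by
  obtain ⟨k, e⟩ := Nat.not_even_iff_odd.1 fun r =>
    (hS.of_le le_normalizer le_top).not_dvd (Even.two_dvd r)
  have := pow_card_eq_one'' (coset_mem_bar S hn)
  rw [card_bar le_rfl, ← coset_pow hn, coset_eq_one_iff (pow_mem hn _), e, pow_succ, pow_mul,
    pow_two] at this
  exact (mul_mem_cancel_left (pow_mem h k)).1 (hK this)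

theorem Sing.cyc (h : Sing S τ β β') {B : Subgroup G} {p : ℕ} [hp : Fact p.Prime] (hB : Abelem p B)
    (h0 : B ≠ ⊥) (hn : B ≤ 𝐍(β)) (hc : (♯B).Coprime ♯β) (hf : B ⊓ 𝐂(β) = ⊥) (hτ : τ ∈ 𝐍(B)) :
    ♯B = p := by
  have k1 : ∀ b ∈ β, b ≠ 1 → ∀ c ∈ β, c ≠ 1 → ♯(B ⊓ 𝐂[b] : Subgroup G) = ♯(B ⊓ 𝐂[c] : Subgroup G) :=
    fun b hb b1 c hc c1 => by
      obtain ⟨i, rfl⟩ := h.tr b hb b1 c hc c1
      rw [← cj_cent1, ← card_cj (τ ^ i), cj_inf, cj_eq_iff_mem_normalizer.2 (pow_mem hτ i)]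
  have k0 : ∀ Y ≤ B, (∀ c ∈ β, c ≠ 1 → Y ≤ 𝐂[c]) → Y = ⊥ := fun Y hY e =>
    eq_bot_iff.2 ((le_inf hY (cent_symm fun c hc => by
      by_cases c1 : c = 1
      · exact c1 ▸ one_mem _
      · exact le_cent1_iff.1 (e c hc c1))).trans hf.le)
  have k2 : ∀ b ∈ β, B ≤ 𝐂[b] → b = 1 := fun b hb e => by_contra fun b1 =>
    h0 (k0 B le_rfl fun c hc c1 => inf_eq_left.1 (eq_of_le_of_card_le inf_le_left
      (by rw [← k1 b hb b1 c hc c1, inf_eq_left.2 e])))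
  obtain ⟨Y, y1, y2, y3⟩ : ∃ Y ≤ B, ♯B = ♯Y * p ∧ β ⊓ 𝐂(Y) ≠ ⊥ := by
    by_contra! k
    exact h.not_le ((H2.le_of_forall_centralizer_hyperplane_le hB.1 hB.2 h0 hn hc
      fun Y a b => (k Y a b).le).trans bot_le)
  obtain ⟨b, hb, b1⟩ := exists_ne_one_of_ne_bot y3
  have k3 : ∀ K, Y ≤ K → K ≤ B → K = Y ∨ K = B := fun K a1 a2 => by
    have e1 := card_mul_relIndex y1
    have e2 : Y.relIndex B = p := Nat.eq_of_mul_eq_mul_left (card_pos' Y) (e1.trans y2)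
    have e3 := relIndex_mul_relIndex Y K B a1 a2
    rcases (Nat.dvd_prime hp.out).1 (e2 ▸ Dvd.intro _ e3) with r | r
    · exact .inl (((relIndex_eq_one.1 r).antisymm a1))
    · rw [r, e2, Nat.mul_eq_left hp.out.ne_zero] at e3
      exact .inr (a2.antisymm (relIndex_eq_one.1 e3))
  have k4 : B ⊓ 𝐂[b] = Y := (k3 _ (le_inf y1 (le_cent1_iff.2 hb.2)) inf_le_left).resolve_right
    fun e => b1 (k2 b hb.1 (inf_eq_left.1 e))
  have cB := comm_iff_le_cent.1 hB.1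
  have k5 : ∀ b : G, ∀ y ∈ B, B ⊓ 𝐂[b] ≤ 𝐂[y * b * y⁻¹] := fun b y hy => by
    rw [← cj_cent1, ← cj_eq_iff_mem_normalizer.2 ((nrm_of_comm hB.1 (inf_le_left (b := 𝐂[b]))).norm hy)]
    exact cj_mono y inf_le_right
  rw [y2, k0 Y y1 fun c hc c1 => ?_, card_bot, one_mul]
  suffices e : B ⊓ 𝐂[c] ≤ Y from
    (eq_of_le_of_card_le e (by rw [← k4, k1 b hb.1 b1 c hc c1])).ge.trans inf_le_right
  by_contra e
  have e1 := (k3 _ le_sup_right (sup_le (inf_le_left (b := 𝐂[c])) y1)).resolve_left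
    fun r => e (le_sup_left.trans r.le)
  have e2 : c * b ≠ 1 := fun r => e (by
    rw [eq_inv_of_mul_eq_one_left r, inv_eq_of_mul_eq_one_left ((pow_two b).symm.trans (h.elem.2 b hb.1)), k4])
  have e3 : B ⊓ 𝐂[c * b] ≤ B ⊓ 𝐂[c] ⊓ (B ⊓ 𝐂[b]) := fun y hy => by
    have r : c⁻¹ * (y * c * y⁻¹) = b * (y * b * y⁻¹)⁻¹ := by
      rw [eq_mul_inv_iff_mul_eq, mul_assoc, conj_mul, mem_cent1_iff.1 hy.2]; group
    have r1 := k2 _ (mul_mem (inv_mem hc) (H1.conj_mem_of_mem_normalizer (hn hy.1) hc))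
      (e1.ge.trans (sup_le (fun z hz => mem_cent1_comm.1 (mul_mem (inv_mem (mem_cent1_comm.1 hz.2))
        (mem_cent1_comm.1 (k5 c y hy.1 hz)))) fun z hz => r ▸ mem_cent1_comm.1 (mul_mem
          (mem_cent1_comm.1 (k4.ge hz).2) (inv_mem (mem_cent1_comm.1 (k5 b y hy.1 (k4.ge hz)))))))
    rw [r1, eq_comm, mul_inv_eq_one] at r
    exact ⟨⟨hy.1, mem_cent1_iff.2 (mul_inv_eq_iff_eq_mul.1 (inv_mul_eq_one.1 r1).symm)⟩,
      hy.1, mem_cent1_iff.2 (mul_inv_eq_iff_eq_mul.1 r.symm)⟩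
  have m := mul_mem hc hb.1
  rw [← eq_of_le_of_card_le (e3.trans inf_le_left) (k1 c hc c1 _ m e2).le] at e
  exact e ((e3.trans inf_le_right).trans k4.le)

theorem Sing.card_le (h : Sing S τ β β') : ♯β ≤ ♯(zpowers τ) + 1 := by
  obtain ⟨b, hb, b1⟩ := exists_ne_one_of_ne_bot (H := β) (one_lt_card.1 (by have := h.four; omega))
  rw [← ncard_sharp β, Nat.add_le_add_iff_right, ← Nat.card_coe_set_eq]
  refine Nat.card_le_card_of_surjective (fun t : zpowers τ => (⟨t * b * (t : G)⁻¹,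
    conj_mem_sharp (zpowers_le.2 h.nb t.2) ⟨hb, b1⟩⟩ : sharp β)) fun y => ?_
  obtain ⟨i, e⟩ := h.tr b hb b1 y y.2.1 y.2.2
  exact ⟨⟨_, npow_mem_zpowers τ i⟩, Subtype.ext e⟩

theorem tr_of_reg {V : Subgroup G} {ε : G} (hn : ε ∈ 𝐍(V)) (h : SemiReg V (zpowers ε))
    (hc : ♯V = ♯(zpowers ε) + 1) {x : G} (hx : x ∈ V) (x1 : x ≠ 1) {y : G} (hy : y ∈ V) (y1 : y ≠ 1) :
    ∃ i : ℕ, ε ^ i * x * (ε ^ i)⁻¹ = y := by
  obtain ⟨⟨t, ht⟩, e⟩ := ((Nat.bijective_iff_injective_and_card (fun t : zpowers ε => (⟨t * x * (t : G)⁻¹,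
    conj_mem_sharp (zpowers_le.2 hn t.2) ⟨hx, x1⟩⟩ : sharp V))).2 ⟨fun a b e => by
      have e1 : (a : G) * x * (a : G)⁻¹ = b * x * (b : G)⁻¹ := congrArg Subtype.val e
      refine Subtype.ext (inv_mul_eq_one.1 (by_contra fun r => x1 (mem_bot.1
        ((h _ (mul_mem (inv_mem a.2) b.2) r).le ⟨hx, mem_cent1_iff.2 ?_⟩))))
      calc _ = (a : G)⁻¹ * (a * x * (a : G)⁻¹) * b := by group
        _ = _ := by rw [e1]; group, by
      rw [← ncard_sharp V, Nat.add_right_cancel_iff] at hc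
      rw [← hc, Nat.card_coe_set_eq]⟩).2 ⟨y, hy, y1⟩
  obtain ⟨i, rfl⟩ := mem_powers_iff_mem_zpowers.2 ht
  exact ⟨i, congrArg Subtype.val e⟩

theorem Sing.la1 (hA : IsA G) {H : Subgroup G} (hS : IsPGroup 2 S) (ho : Odd ♯H) (hn : H ≤ 𝐍(S))
    (hf : H ⊓ 𝐂(S) = ⊥) (hτ : τ ∈ H) (h : Sing S τ β β') (h0 : τ ∉ fit H) :
    ♯β = 4 ∧ ∃ ε ∈ fit H, ∃ W W' : Subgroup G, Sing S ε W W' ∧ ♯W = 8 ∧ β ≤ W ∧ W' ≤ β' := by
  have cS := hA.comm hS
  have TH := zpowers_le.2 hτ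
  have f1 : ∀ t ∈ H, t ∈ 𝐂(S) → t = 1 := fun t a b => mem_bot.1 (hf.le ⟨a, b⟩)
  have co : ∀ X ≤ H, ∀ Y ≤ S, (♯X).Coprime ♯Y := fun X a Y b => by
    obtain ⟨n, e⟩ := IsPGroup.iff_card.1 (isPGroup_of_le b hS)
    exact e ▸ (odd_of_le a ho).coprime_two_right.pow_right n
  obtain ⟨p, _, hp⟩ : ∃ (p : ℕ) (_ : Fact p.Prime), ¬ core {p} H ≤ 𝐂[τ] := by
    by_contra! k
    exact h0 (cent_fit_le (odd_order_solvable ho) ⟨hτ, le_cent1_iff.1
      (fit_le_of_forall_pcore fun q _ => k q ‹_›)⟩)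
  have pP : IsPGroup p (core {p} H) := piG_singleton_iff.1 (core_piG _ H)
  have nP := (core_nrm {p} H).norm
  obtain ⟨E, ⟨e1, e2, e3, e4⟩, e5⟩ := wellFounded_lt.has_min {E : Subgroup G | E ≤ core {p} H ∧
      zpowers τ ≤ 𝐍(E) ∧ E ≠ ⊥ ∧ E ⊓ 𝐂[τ] = ⊥} (by
    obtain ⟨a, b, e, ha, hb, ⟨k, a1⟩, b1⟩ := H1.exists_pPart (p := p) τ
    have b2 := zpowers_le.2 hb
    obtain ⟨n, hn⟩ := IsPGroup.iff_card.1 pP
    have d := dp_of_coprime_comm ((b2.trans TH).trans nP)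
      (by rw [hn, Nat.card_zpowers]; exact b1.pow_right n) (hA.comm pP)
    refine ⟨⁅core {p} H, zpowers b⁆, d.le_right, le_normalizer_commutator (TH.trans nP)
      (nrm_of_comm inferInstance b2).norm, fun r => hp fun x hx => ?_, eq_bot_iff.2 (le_trans
        (le_inf (le_inf (inf_le_left.trans d.le_right) (inf_le_right.trans ?_)) inf_le_left) d.inf.le)⟩
    · have c := d.sup
      rw [r, sup_bot_eq] at c
      rw [e]
      exact mem_cent1_comm.1 (mul_mem (cent_le_cent1 hx (hA.le_cent (H1.isPGroup_zpowers a1) pP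
        ((zpowers_le.2 (TH ha)).trans nP) (mem_zpowers a)))
        (mem_cent1_comm.1 (cent_le_cent1 (mem_zpowers b) (c.ge hx).2)))
    · rw [cent_zpowers]; exact cent1_le_cent1_of_mem hb)
  have ir : ∀ X ≤ E, zpowers τ ≤ 𝐍(X) → X ≠ ⊥ → X = E := fun X a b c =>
    a.eq_or_lt.resolve_right (e5 X ⟨a.trans e1, b, c, eq_bot_iff.2 ((inf_le_inf_right _ a).trans e4.le)⟩)
  have EH := e1.trans (core_le _ H)
  have pE := isPGroup_of_le e1 pP
  have aE : Abelem p E := by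
    have := hA.abelem_om pE
    rwa [ir _ (om_le p E) (le_normalizer_om p e2) (om_ne_bot_of_isPGroup pE e3)] at this
  have cE : ⁅E, zpowers τ⁆ = E := ir _ (commutator_le_left' e2)
    (le_normalizer_commutator e2 le_normalizer) fun r => e3 (by
      rw [← le_cent_iff_commutator, cent_zpowers] at r
      rw [← inf_eq_left.2 r, e4])
  have ce : ∀ X : Subgroup G, E ≤ 𝐍(X) → X ≤ 𝐂[τ] → E ≤ 𝐂(X) := fun X a b => cE.ge.trans
    ((commutator_mono le_rfl ((zpowers_le.2 (le_cent1_iff.1 b)))).trans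
      (commutator_le_right' (le_normalizer_centralizer a)))
  have d := dp_of_coprime_comm (EH.trans hn) (co E EH S le_rfl) cS
  have nS := zpowers_le.2 h.nS
  have nV : zpowers τ ≤ 𝐍(⁅S, E⁆) := le_normalizer_commutator nS e2
  have nV' : E ≤ 𝐍(⁅S, E⁆) := right_le_normalizer_commutator S E
  have fV : ∀ x ∈ E, x ∈ 𝐂(⁅S, E⁆) → x = 1 := fun x a b => f1 x (EH a) (by
    rw [← d.sup, cent_sup]; exact ⟨le_cent1_iff.1 fun y hy => cent_le_cent1 a hy.2, b⟩)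
  have bV : β ≤ ⁅S, E⁆ := (h.le_or cS d.le_right (nV (mem_zpowers τ))).resolve_right fun r =>
    e3 (eq_bot_iff.2 fun x hx => fV x hx (ce _ nV' (r.trans h.cen) hx))
  have bC : S ⊓ 𝐂(E) ≤ β' := (h.le_or cS inf_le_left (le_normalizer_inf nS
    (le_normalizer_centralizer e2) (mem_zpowers τ))).resolve_left
      fun r => h.not_le ((le_inf r bV).trans (d.inf.le.trans bot_le))
  have reg : SemiReg β (zpowers τ) := fun t ht t1 => by
    by_contra r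
    obtain ⟨b, hb, b1⟩ := exists_ne_one_of_ne_bot r
    refine t1 (f1 t (TH ht) ?_)
    rw [← h.sup, cent_sup]
    refine ⟨le_cent1_iff.1 fun y hy => ?_, le_cent1_iff.1 (h.cen.trans (cent1_le_cent1_of_mem ht))⟩
    by_cases y1 : y = 1
    · exact y1 ▸ one_mem _
    obtain ⟨i, rfl⟩ := h.tr b hb.1 b1 y hy y1
    have := pow_mem (cent1_le_cent1_of_mem ht (mem_cent1_self τ)) i
    exact mul_mem (mul_mem this hb.2) (inv_mem this)
  have q4 := h.four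
  have cT : ♯(zpowers τ) + 1 = ♯β := by
    have := Nat.le_of_dvd (by omega) (reg.card_dvd (zpowers_le.2 h.nb))
    have := h.card_le
    omega
  by_cases A : ∃ t ∈ zpowers τ, t ≠ 1 ∧ E ≤ 𝐂[t]
  · exfalso
    obtain ⟨t, ht, t1, hE⟩ := A
    have t2 := zpowers_le.2 ht
    have a0 : ⁅S, zpowers t⁆ ≤ β := by
      rw [commutator_comm]
      exact commutator_le.2 fun u hu x hx => h.comm_mem cS (t2 hu) hx
    have a1 : ⁅S, zpowers t⁆ = β := a0.antisymm ((h.le_or cS (a0.trans h.le) (le_normalizer_commutator nS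
      (nrm_of_comm inferInstance t2).norm (mem_zpowers τ))).resolve_right fun r => t1 (f1 t (TH ht)
        (zpowers_le.1 (le_cent_iff_commutator'.2 (eq_bot_iff.2 ((le_inf a0 r).trans h.inf.le))))))
    have a2 : S ⊓ 𝐂[t] = β' := by
      refine le_antisymm (fun x hx => ?_) (le_inf h.le' (h.cen.trans (cent1_le_cent1_of_mem ht)))
      obtain ⟨b, hb, c, hc, rfl⟩ := h.dec cS hx.1
      rwa [mem_bot.1 ((reg t ht t1).le ⟨hb, (mul_mem_cancel_right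
        (cent1_le_cent1_of_mem ht (h.cen hc))).1 hx.2⟩), one_mul]
    have a3 : E ≤ 𝐍(β) := a1 ▸ le_normalizer_commutator (EH.trans hn)
      ((hE.trans (cent_zpowers t).ge).trans (cent_le_norm _))
    have a4 : E ≤ 𝐂(β') := ce _ (a2 ▸ le_normalizer_inf (EH.trans hn) (hE.trans le_normalizer)) h.cen
    have a5 : ∀ B ≤ H, B ≤ 𝐂(β') → B ⊓ 𝐂(β) = ⊥ := fun B a b => eq_bot_iff.2 fun x hx =>
      f1 x (a hx.1) (by rw [← h.sup, cent_sup]; exact ⟨hx.2, b hx.1⟩)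
    have a6 := h.cyc aE e3 a3 (co E EH β h.le) (a5 E EH a4) (e2 (mem_zpowers τ))
    have a7 := (semiReg_of_card_prime (K := β) (a6 ▸ Fact.out) (eq_bot_iff.2 fun x hx => by_contra
      fun x1 => e3 (eq_bot_iff.2 ((le_inf le_rfl (cent_symm fun y hy => ?_)).trans
        (a5 E EH a4).le)))).card_dvd a3
    swap
    · by_cases y1 : y = 1
      · exact y1 ▸ one_mem _
      obtain ⟨i, rfl⟩ := h.tr x hx.1 (mt mem_bot.2 x1) y hy y1
      exact H1.conj_mem_of_mem_normalizer (le_normalizer_centralizer e2 (npow_mem_zpowers τ i)) hx.2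
    obtain ⟨a, ha, a8⟩ := exists_orderOf_eq_prime (H := zpowers τ) (Fact.out : p.Prime)
      (by rwa [a6, ← cT, Nat.add_sub_cancel] at a7)
    have a9 := zpowers_le.2 ha
    have aa : Abelem p (zpowers a) := abelem_zpowers (a8 ▸ pow_orderOf_eq_one a)
    have b1 := h.cyc (aE.sup aa (hA.le_cent aa.isPGroup pE (a9.trans e2))) (ne_bot_of_le le_sup_left e3)
      (sup_le a3 (a9.trans (zpowers_le.2 h.nb))) (co _ (sup_le EH (a9.trans TH)) β h.le)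
      (a5 _ (sup_le EH (a9.trans TH)) (sup_le a4 (a9.trans (zpowers_le.2 (le_cent1_iff.1 h.cen)))))
      (le_normalizer_sup e2 (nrm_of_comm inferInstance a9).norm (mem_zpowers τ))
    have b2 := (eq_of_le_of_card_le (le_sup_left (b := zpowers a)) (b1.trans a6.symm).le).ge
      (mem_sup_right (mem_zpowers a))
    rw [mem_bot.1 (e4.le ⟨b2, mem_cent1_comm.1 (cent1_le_cent1_of_mem ha (mem_cent1_self τ))⟩),
      orderOf_one] at a8
    exact (Fact.out : p.Prime).ne_one a8.symm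
  have rE : SemiReg E (zpowers τ) := fun t ht t1 => by_contra fun r => A ⟨t, ht, t1, inf_eq_left.1
    (ir _ inf_le_left (le_normalizer_inf e2 ((zpowers_le.2
      (cent1_le_cent1_of_mem ht (mem_cent1_self τ))).trans le_normalizer)) r)⟩
  have w := (Frobenius_Wielandt_fixpoint (frob_of_semiReg rE e2 e3 (one_lt_card.1 (by omega)))
    (isSolvable_of_le (sup_le EH TH) (odd_order_solvable ho)) (sup_le nV' nV)
    (co _ (sup_le EH TH) _ d.le_right).symm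
    (isSolvable_of_isPGroup (isPGroup_of_le d.le_right hS))).2.2
    (eq_bot_iff.2 ((le_inf (inf_le_inf_right _ d.le_right |>.trans le_rfl) inf_le_left).trans d.inf.le))
  have v1 : ⁅S, E⁆ ⊓ 𝐂(zpowers τ) = ⁅S, E⁆ ⊓ β' := by
    rw [cent_zpowers, ← h.eq_cent cS, ← inf_assoc, inf_eq_left.2 d.le_right]
  have v2 : β ⊔ ⁅S, E⁆ ⊓ β' = ⁅S, E⁆ := by
    rw [← inf_sup_of_le bV (.inl (h.le.trans (nrm_of_comm cS h.le').norm)), h.sup,
      inf_eq_left.2 d.le_right]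
  have v3 := card_sup_of_inf_eq_bot ((inf_le_right.trans h.le').trans (nrm_of_comm cS h.le).norm)
    (eq_bot_iff.2 ((inf_le_inf_left β (inf_le_right (a := ⁅S, E⁆))).trans h.inf.le))
  rw [v2] at v3
  rw [v1] at w
  have v4 := card_pos' (⁅S, E⁆ ⊓ β')
  generalize ♯(⁅S, E⁆ ⊓ β' : Subgroup G) = c at w v3 v4
  obtain ⟨m, hm⟩ : ∃ m, ♯(zpowers τ) = m + 1 := ⟨♯(zpowers τ) - 1, by omega⟩
  rw [hm, v3, pow_succ, Nat.mul_left_inj v4.ne'] at w
  have c2 : 2 ≤ c := by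
    by_contra r
    rw [show c = 1 by omega, one_pow] at w
    omega
  have m2 : m = 2 := by
    by_contra r
    have a := (Nat.pow_le_pow_left c2 m).trans w.ge
    obtain ⟨k, rfl⟩ : ∃ k, m = k + 3 := ⟨m - 3, by omega⟩
    have := Nat.lt_two_pow_self (n := k)
    rw [pow_add] at a
    omega
  subst m2
  have c3 : c = 2 := by nlinarith
  have v8 : ♯(⁅S, E⁆ : Subgroup G) = 8 := by rw [v3, c3]; omega
  obtain ⟨ε, hε, ε1⟩ := exists_ne_one_of_ne_bot e3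
  have εp : ♯(zpowers ε) = p := by rw [Nat.card_zpowers, aE.orderOf_eq hε ε1]
  have ε2 := zpowers_le.2 hε
  have d' := dp_of_coprime_comm (ε2.trans nV') (co _ (ε2.trans EH) _ d.le_right)
    (isMulCommutative_of_le d.le_right cS)
  have r1 := semiReg_of_card_prime (K := ⁅⁅S, E⁆, zpowers ε⁆) (εp ▸ Fact.out) (eq_bot_iff.2
    ((le_inf (inf_le_inf_right _ d'.le_right) inf_le_left).trans d'.inf.le))
  have r2 := r1.card_dvd (right_le_normalizer_commutator _ _)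
  have r3 := v8 ▸ card_dvd_of_le' d'.le_right
  have r4 : ♯(⁅⁅S, E⁆, zpowers ε⁆ : Subgroup G) ≠ 1 := fun r =>
    ε1 (fV ε hε (zpowers_le.1 (le_cent_iff_commutator'.2 (card_eq_one_iff.1 r))))
  have p3 : p ≠ 3 := fun r => Nat.not_coprime_of_dvd_of_dvd (by decide : 1 < 3)
    (r ▸ dvd_card_of_isPGroup pE e3) (by rw [hm]) (rE.coprime e2)
  have r5 : ♯(⁅⁅S, E⁆, zpowers ε⁆ : Subgroup G) = 8 ∧ p = 7 := by
    rw [εp] at r2
    have pp : p.Prime := Fact.out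
    have := Nat.le_of_dvd (by decide) r3
    generalize ♯(⁅⁅S, E⁆, zpowers ε⁆ : Subgroup G) = n at *
    interval_cases n <;> first | omega | skip
    · exact absurd (Nat.dvd_one.1 r2) pp.ne_one
    · exact absurd ((Nat.prime_dvd_prime_iff_eq pp Nat.prime_three).1 r2) p3
    · exact ⟨rfl, (Nat.prime_dvd_prime_iff_eq pp (by decide)).1 r2⟩
  rw [eq_of_le_of_card_le d'.le_right (v8.trans r5.1.symm).le] at r1
  have tr := fun x hx x1 y hy y1 => tr_of_reg (nV' hε) r1 (by rw [v8, εp, r5.2]) (x := x) hx x1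
    (y := y) hy y1
  obtain ⟨b, hb, b1⟩ := exists_ne_one_of_ne_bot (H := β) (one_lt_card.1 (by omega))
  refine ⟨by omega, ε, pcore_le_fit H (e1 hε), ⁅S, E⁆, S ⊓ 𝐂(E), ⟨hn (EH hε), d.symm.sup, d.symm.inf,
    ⟨isMulCommutative_of_le d.le_right cS, fun y hy => ?_⟩, by omega, nV' hε,
    inf_le_right.trans (cent_le_cent1 hε), ?_, tr⟩, v8, bV, bC⟩
  · by_cases y1 : y = 1
    · rw [y1, one_pow]
    obtain ⟨i, rfl⟩ := tr b (bV hb) b1 y hy y1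
    rw [conj_pow, h.elem.2 b hb, mul_one, mul_inv_cancel]
  · rw [v8, show 8 - 1 = p from r5.2.symm, aE.2 ε hε]; exact one_mem _

theorem Sing.mod (h : Sing S τ β β') (hσ : σ ∈ 𝐍(S)) (e : τ⁻¹ * σ ∈ 𝐂(S)) : Sing S σ β β' := by
  have n := H1.normalizer_le_normalizer_centralizer S
  have k : ∀ i : ℕ, (τ ^ i)⁻¹ * σ ^ i ∈ 𝐂(S) := fun i => by
    rw [← coset_eq_iff (n (pow_mem h.nS i)) (n (pow_mem hσ i)), coset_pow (n h.nS), coset_pow (n hσ),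
      (coset_eq_iff (n h.nS) (n hσ)).2 e]
  refine ⟨hσ, h.sup, h.inf, h.elem, h.four,
    (mul_mem_cancel_left (inv_mem h.nb)).1 (cent_le_norm _ (cent_anti h.le e)),
    le_cent1_iff.2 ((mul_mem_cancel_left (inv_mem (le_cent1_iff.1 h.cen))).1 (cent_anti h.le' e)),
    (mul_mem_cancel_left (inv_mem h.pow)).1 (k _), fun x hx x1 y hy y1 => ?_⟩
  obtain ⟨i, r⟩ := h.tr x hx x1 y hy y1
  refine ⟨i, ?_⟩
  calc _ = τ ^ i * ((τ ^ i)⁻¹ * σ ^ i * x) * (σ ^ i)⁻¹ := by group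
    _ = _ := by rw [← mem_cent_iff.1 (k i) x (h.le hx), ← r]; group

section bar
variable {O : Subgroup G} (h1 : 𝐍(S) ≤ 𝐍(O)) (h2 : S ⊓ O = ⊥)
include h1 h2

theorem lb_inj {x y : G} (hx : x ∈ S) (hy : y ∈ S) (e : coset O x = coset O y) : x = y :=
  inv_mul_eq_one.1 (mem_bot.1 (h2.le ⟨S.mul_mem (S.inv_mem hx) hy,
    (coset_eq_iff (h1 (le_normalizer hx)) (h1 (le_normalizer hy))).1 e⟩))

theorem lb_mem (hβ : β ≤ S) {x : G} (hx : x ∈ S) (e : coset O x ∈ bar O β) : x ∈ β := by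
  obtain ⟨y, hy, -, r⟩ := mem_bar.1 e
  exact lb_inj h1 h2 (hβ hy) hx r ▸ hy

theorem lb_cen (hτ : τ ∈ 𝐍(S)) {x : G} (hx : x ∈ S) (e : coset O x ∈ 𝐂[coset O τ]) : x ∈ 𝐂[τ] :=
  mem_cent1_comm.1 (mem_cent1_iff.2 (mul_inv_eq_iff_eq_mul.1 (lb_inj h1 h2
    (H1.conj_mem_of_mem_normalizer hτ hx) hx (by
      rw [coset_conj (h1 hτ) (h1 (le_normalizer hx)), ← mem_cent1_iff.1 e, mul_inv_cancel_right]))))

theorem lb_card (hβ : β ≤ S) : ♯(bar O β) = ♯β := card_bar_of_inf (hβ.trans (le_normalizer.trans h1))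
  (eq_bot_iff.2 ((inf_le_inf_right O hβ).trans h2.le))

theorem Sing.bar (h : Sing S τ β β') : Sing (bar O S) (coset O τ) (bar O β) (bar O β') := by
  have n : S ≤ 𝐍(O) := le_normalizer.trans h1
  have t := h1 h.nS
  refine ⟨coset_mem_normalizer_bar t h.nS, by rw [← bar_sup (h.le.trans n) (h.le'.trans n), h.sup],
    eq_bot_iff.2 fun z hz => ?_, abelem_bar h.elem O, (lb_card h1 h2 h.le).symm ▸ h.four,
    coset_mem_normalizer_bar t h.nb, (bar_mono O h.cen).trans (bar_cent1_le t), ?_,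
    fun x hx x1 y hy y1 => ?_⟩
  · obtain ⟨y, hy, -, rfl⟩ := mem_bar.1 hz.1
    rw [mem_bot.1 (h.inf.le ⟨hy, lb_mem h1 h2 h.le' (h.le hy) hz.2⟩), coset_one]; exact one_mem _
  · rw [lb_card h1 h2 h.le, ← coset_pow t]; exact bar_cent_le O S (coset_mem_bar O h.pow)
  · obtain ⟨x, hx', a, rfl⟩ := mem_bar.1 hx
    obtain ⟨y, hy', -, rfl⟩ := mem_bar.1 hy
    obtain ⟨i, r⟩ := h.tr x hx' (fun r => x1 (r ▸ coset_one O)) y hy' fun r => y1 (r ▸ coset_one O)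
    exact ⟨i, by rw [← r, coset_conj (pow_mem t i) a, coset_pow t]⟩

theorem Sing.of_bar (hS : IsMulCommutative S) (hτ : τ ∈ 𝐍(S)) (hβ : β ≤ S) (hβ' : β' ≤ S)
    (h : Sing (FT.bar O S) (coset O τ) (FT.bar O β) (FT.bar O β')) : Sing S τ β β' := by
  have n : S ≤ 𝐍(O) := le_normalizer.trans h1
  have t := h1 hτ
  have o : ∀ x ∈ S, coset O x = 1 → x = 1 := fun x hx r =>
    lb_inj h1 h2 hx (one_mem S) (r.trans (coset_one O).symm)
  refine ⟨hτ, le_antisymm (sup_le hβ hβ') fun x hx => lb_mem h1 h2 (sup_le hβ hβ') hx (by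
      rw [bar_sup (hβ.trans n) (hβ'.trans n), h.sup]; exact coset_mem_bar O hx),
    eq_bot_iff.2 fun x hx => o x (hβ hx.1) (mem_bot.1 (h.inf.le ⟨coset_mem_bar O hx.1, coset_mem_bar O hx.2⟩)),
    ⟨isMulCommutative_of_le hβ hS, fun x hx => o _ (pow_mem (hβ hx) 2) (by
      rw [coset_pow (n (hβ hx))]; exact h.elem.2 _ (coset_mem_bar O hx))⟩,
    lb_card h1 h2 hβ ▸ h.four, H1.mem_normalizer_of_conj_mem fun x hx => lb_mem h1 h2 hβ
      (H1.conj_mem_of_mem_normalizer hτ (hβ hx)) (by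
        rw [coset_conj t (n (hβ hx))]; exact H1.conj_mem_of_mem_normalizer h.nb (coset_mem_bar O hx)),
    fun x hx => lb_cen h1 h2 hτ (hβ' hx) (h.cen (coset_mem_bar O hx)),
    le_cent1_iff.1 fun x hx => lb_cen h1 h2 (pow_mem hτ _) hx ?_, fun x hx x1 y hy y1 => ?_⟩
  · rw [coset_pow t, ← lb_card h1 h2 hβ]
    exact le_cent1_iff.2 h.pow (coset_mem_bar O hx)
  · obtain ⟨i, r⟩ := h.tr _ (coset_mem_bar O hx) (mt (o x (hβ hx)) x1) _ (coset_mem_bar O hy)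
      (mt (o y (hβ hy)) y1)
    exact ⟨i, lb_inj h1 h2 (H1.conj_mem_of_mem_normalizer (pow_mem hτ i) (hβ hx)) (hβ hy)
      (by rw [coset_conj (pow_mem t i) (n (hβ hx)), coset_pow t, r])⟩

end bar

/-- LA1 -/
theorem Sing.mem_FF_or (hA : IsA G) (hS : Syl 2 S ⊤) (h : Sing S τ β β') :
    τ ∈ FF S ∨ (♯β = 4 ∧ ∃ ε ∈ FF S, ∃ W W' : Subgroup G, Sing S ε W W' ∧ ♯W = 8 ∧ β ≤ W ∧
      W' ≤ β') := by
  have cS := hA.comm hS.isPGroup
  have s1 : Syl 2 S 𝐍(S) := hS.of_le le_normalizer le_top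
  obtain ⟨H, d⟩ := exists_sdp s1.hall.isHall le_rfl
  have ho : Odd ♯H := Nat.not_even_iff_odd.1 fun r => s1.not_dvd (d.relIndex_left ▸ r.two_dvd)
  have nC := H1.normalizer_le_normalizer_centralizer S
  have h1 : 𝐍(S) ≤ 𝐍(H ⊓ 𝐂(S)) := d.sup.ge.trans (sup_le ((cent_symm inf_le_right).trans (cent_le_norm _))
    (le_normalizer_inf le_normalizer (d.norm.trans nC)))
  have h2 : S ⊓ (H ⊓ 𝐂(S)) = ⊥ := eq_bot_iff.2 ((inf_le_inf_left S inf_le_left).trans d.inf.le)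
  have nH := d.norm.trans h1
  have k : ∀ x ∈ H, coset (H ⊓ 𝐂(S)) x ∈ fit (FT.bar (H ⊓ 𝐂(S)) H) → x ∈ FF S := fun x hx e => by
    have a1 := nrm_unbar_of_nrm_bar (N := H ⊓ 𝐂(S)) ⟨inf_le_left, nH⟩ (fit_nrm _)
    have a2 : FT.bar 𝐂(S) 𝐍(S) = FT.bar 𝐂(S) H := by
      conv_lhs => rw [← d.sup]
      exact bar_sup_of_le (d.norm.trans nC) (comm_iff_le_cent.1 cS)
    refine mem_unbar.2 ⟨nC (d.norm hx), le_fit (a2 ▸ a1.bar 𝐂(S)) (isNilpotent_bar_mono (unbar_le _)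
      (a1.le.trans (d.norm.trans nC)) (inf_le_right.trans inf_le_right) ?_)
      (coset_mem_bar _ (mem_unbar.2 ⟨nH hx, e⟩))⟩
    rw [bar_unbar]; exact fit_nil _
  obtain ⟨s, hs, t, ht, rfl⟩ := (mem_sup_of_le_normalizer' d.norm).1 (d.sup.ge h.nS)
  have h' := h.mod (d.norm ht) (by
    rw [mul_inv_rev]
    exact comm_iff_le_cent.1 cS (H1.conj_mem_of_mem_normalizer' (d.norm ht) (inv_mem hs)))
  refine or_iff_not_imp_left.2 fun e => ?_
  obtain ⟨a1, ε, a2, W, W', a3, a4, a5, a6⟩ := (h'.bar h1 h2).la1 (hA.quo _)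
    (isPGroup_bar hS.isPGroup _) (odd_bar ho _) (bar_le_normalizer _ d.norm)
    (eq_bot_iff.2 fun z hz => by
      obtain ⟨x, hx, -, rfl⟩ := mem_bar.1 hz.1
      exact coset_eq_one ⟨hx, le_cent1_iff.1 fun y hy => lb_cen h1 h2 (d.norm hx) hy
        (le_cent1_iff.2 hz.2 (coset_mem_bar _ hy))⟩)
    (coset_mem_bar _ ht) fun r => e (mul_mem (le_unbar _ (comm_iff_le_cent.1 cS hs)) (k t ht r))
  obtain ⟨ε, hε, -, rfl⟩ := mem_bar.1 (fit_le _ a2)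
  have b : ∀ X ≤ FT.bar (H ⊓ 𝐂(S)) S, FT.bar (H ⊓ 𝐂(S)) (S ⊓ unbar (H ⊓ 𝐂(S)) X) = X :=
    fun X r => by rw [bar_inf_unbar, inf_eq_right.2 r]
  refine ⟨lb_card h1 h2 h.le ▸ a1, ε, k ε hε a2, S ⊓ unbar _ W, S ⊓ unbar _ W',
    Sing.of_bar h1 h2 cS (d.norm hε) inf_le_left inf_le_left (by rwa [b W a3.le, b W' a3.le']),
    by rw [← lb_card h1 h2 inf_le_left, b W a3.le, a4],
    le_inf h.le ((bar_le_iff (h.le.trans (le_normalizer.trans h1))).1 a5),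
    fun x hx => lb_mem h1 h2 h.le' hx.1 (a6 (mem_unbar.1 hx.2).2)⟩

/-- LA2 -/
theorem Sing.eq_or (hA : IsA G) (hS : Syl 2 S ⊤) (h : Sing S τ β β') (h' : Sing S σ γ γ')
    (hτ : τ ∈ FF S) (hσ : σ ∈ FF S) : (β = γ ∧ β' = γ') ∨ (β ≤ γ' ∧ γ ≤ β') := by
  have c := hA.comm hS.isPGroup
  have k : ∀ {τ σ β β' γ γ'}, Sing S τ β β' → Sing S σ γ γ' → τ ∈ FF S → σ ∈ FF S →
      (β ≤ γ ∨ γ ≤ β') ∧ (β ≤ γ' ∨ γ' ≤ β') := fun {τ σ β β' γ γ'} h h' hτ hσ => by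
    have e := h'.cj τ
    rw [cj_eq_iff_mem_normalizer.2 h.nS] at e
    obtain ⟨e1, e2⟩ := h'.uniq e c (FF_comm hA hτ hσ)
    exact ⟨h.le_or c h'.le (cj_eq_iff_mem_normalizer.1 e1.symm),
      h.le_or c h'.le' (cj_eq_iff_mem_normalizer.1 e2.symm)⟩
  obtain ⟨a1, a2⟩ := k h h' hτ hσ
  obtain ⟨a3, a4⟩ := k h' h hσ hτ
  by_cases e : β ≤ γ'
  · exact .inr ⟨e, a1.resolve_left fun r => h.not_le ((le_inf r e).trans (h'.inf.le.trans bot_le))⟩
  have b1 := a3.resolve_right e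
  have b2 : ¬ γ ≤ β' := fun r => h'.not_le ((le_inf b1 r).trans (h.inf.le.trans bot_le))
  exact .inl ⟨(a1.resolve_right b2).antisymm b1, (a4.resolve_left b2).antisymm (a2.resolve_left e)⟩

theorem Sing.cj_or (hA : IsA G) (hS : Syl 2 S ⊤) (h : Sing S τ β β') (hτ : τ ∈ FF S) {n : G}
    (hn : n ∈ 𝐍(S)) : (β = H1.cj n β ∧ β' = H1.cj n β') ∨ (β ≤ H1.cj n β' ∧ H1.cj n β ≤ β') := by
  have e := h.cj n
  rw [cj_eq_iff_mem_normalizer.2 hn] at e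
  exact h.eq_or hA hS e hτ (conj_mem_FF hn hτ)

/-- LA3 -/
theorem Sing.four_le (hG : Sim G) (hS : Syl 2 S ⊤) (h : Sing S τ β β') (hτ : τ ∈ FF S)
    (h1 : β' ≠ ⊥) : 4 ≤ ♯(om 2 β') := by
  by_contra! k
  have p := isPGroup_of_le h.le' hS.isPGroup
  have o0 := om_ne_bot_of_isPGroup p h1
  obtain ⟨m, hm⟩ := IsPGroup.iff_card.1 (isPGroup_of_le (om_le 2 β') p)
  have c2 : ♯(om 2 β') = 2 := by
    rcases m with _ | _ | m
    · exact absurd (card_eq_one_iff.1 hm) o0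
    · exact hm
    · rw [hm, pow_succ, pow_succ] at k; have := Nat.two_pow_pos m; omega
  refine o0 (eq_bot_iff.2 ((le_inf ((om_le 2 β').trans h.le') (cent_symm fun n hn => ?_)).trans
    (hG.no_fix hS).le))
  have n1 : n ∈ 𝐍(β') := cj_eq_iff_mem_normalizer.1 ((h.cj_or hG.isA hS hτ hn).resolve_right fun r => by
    have := h.four.trans (card_le_of_le' (h.elem.le_om r.1))
    rw [← cj_om, card_cj] at this
    omega).2.symm
  have := relIndex_cent_dvd_of_card_prime c2 (le_normalizer_om 2 (zpowers_le.2 n1))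
  exact zpowers_le.1 (relIndex_eq_one.1 (Nat.dvd_one.1 this))

/-- LA5: a block that is not invariant has at least three conjugates -/
theorem Sing.three (hA : IsA G) (hS : Syl 2 S ⊤) (h : Sing S τ β β') (hn : ¬ 𝐍(S) ≤ 𝐍(β)) :
    ∃ n ∈ 𝐍(S), H1.cj n β ≠ β ∧ H1.cj n⁻¹ β ≠ β ∧ H1.cj n β ≠ H1.cj n⁻¹ β := by
  obtain ⟨n, h1, h2⟩ := SetLike.not_le_iff_exists.1 hn
  refine ⟨n, h1, mt cj_eq_iff_mem_normalizer.1 h2,
    fun e => h2 ((inv_mem_iff (x := n)).1 (cj_eq_iff_mem_normalizer.1 e)), fun e => h2 ?_⟩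
  refine odd_mem hS (nrm_of_comm (hA.comm hS.isPGroup) h.le).norm h1 (cj_eq_iff_mem_normalizer.1 ?_)
  rw [cj_mul, e, cj_cj_inv]

theorem Sing.norm_le (hA : IsA G) (hS : Syl 2 S ⊤) (h : Sing S τ β β') (hτ : τ ∈ FF S)
    {n : G} (hn : n ∈ 𝐍(S)) (hb : n ∈ 𝐍(β)) : n ∈ 𝐍(β') := 
  cj_eq_iff_mem_normalizer.1 ((h.cj_or hA hS hτ hn).resolve_right fun r =>
    h.not_le ((cj_eq_iff_mem_normalizer.2 hb).ge.trans r.2)).2.symm

/-- LA4 -/
theorem Sing.of_four (hG : Sim G) (hS : Syl 2 S ⊤) (h : Sing S τ β β') (hτ : τ ∈ FF S)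
    (h4 : ♯(om 2 β') = 4) : 𝐍(S) ≤ 𝐍(β) ∧ 𝐍(S) ≤ 𝐍(β') ∧
      ∀ x ∈ β', orderOf x = 2 → ∀ y ∈ β', orderOf y = 2 → ∃ n ∈ 𝐍(S), n * x * n⁻¹ = y := by
  have k1 : 𝐍(S) ≤ 𝐍(β) := by
    by_contra e
    obtain ⟨n, h1, h2, h3, h5⟩ := h.three hG.isA hS e
    have k : ∀ n ∈ 𝐍(S), H1.cj n β ≠ β → H1.cj n β = om 2 β' := fun n h1 h2 =>
      eq_of_le_of_card_le ((h.elem.cj n).le_om
        ((h.cj_or hG.isA hS hτ h1).resolve_left fun r => h2 r.1.symm).2)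
        (by rw [h4, card_cj]; exact h.four)
    exact h5 ((k n h1 h2).trans (k _ (inv_mem h1) h3).symm)
  have k2 : 𝐍(S) ≤ 𝐍(β') := fun n hn => h.norm_le hG.isA hS hτ hn (k1 hn)
  refine ⟨k1, k2, fun x hx x2 y hy y2 => ?_⟩
  have x1 : x ≠ 1 := fun r => by rw [r, orderOf_one] at x2; omega
  have y1 : y ≠ 1 := fun r => by rw [r, orderOf_one] at y2; omega
  obtain ⟨n, hn, n1⟩ := SetLike.not_le_iff_exists.1 fun e : 𝐍(S) ≤ 𝐂[x] =>
    x1 (mem_bot.1 ((hG.no_fix hS).le ⟨h.le' hx, le_cent1_iff.1 e⟩))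
  have x3 : x ∈ om 2 β' := mem_om hx (x2 ▸ pow_orderOf_eq_one x)
  have n2 := le_normalizer_om 2 k2 hn
  have u1 := H1.conj_mem_of_mem_normalizer n2 x3
  have u2 : x ≠ n * x * n⁻¹ := fun r => n1 (mem_cent1_iff.2 (mul_inv_eq_iff_eq_mul.1 r.symm))
  have q := MC.qo_four h4 (fun y hy => (pow_two y).symm.trans
    ((hG.isA.abelem_om (isPGroup_of_le h.le' hS.isPGroup)).2 y hy)) x3 u1 x1 (conj_ne_one x1) u2
  rcases q y (mem_om hy (y2 ▸ pow_orderOf_eq_one y)) with r | r | r | r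
  · exact absurd r y1
  · exact ⟨1, one_mem _, by rw [r, one_mul, inv_one, mul_one]⟩
  · exact ⟨n, hn, r.symm⟩
  refine ⟨n * n, mul_mem hn hn, ?_⟩
  have e : n * n * x * (n * n)⁻¹ = n * (n * x * n⁻¹) * n⁻¹ := by group
  rcases q _ (H1.conj_mem_of_mem_normalizer n2 u1) with s | s | s | s
  · exact absurd s (conj_ne_one (conj_ne_one x1))
  · exact absurd (odd_mem hS (le_cent1_iff.2 (comm_iff_le_cent.1 (hG.isA.comm hS.isPGroup) (h.le' hx)))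
      hn (mem_cent1_iff.2 (mul_inv_eq_iff_eq_mul.1 (e.trans s)))) n1
  · exact absurd (mul_left_cancel (mul_right_cancel s)).symm u2
  · rw [e, s, r]

end Cfsg.Agent.AG
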