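import Cfsg.Agent.AG.IS3
import Cfsg.Agent.AG.IL
import Cfsg.Agent.AG.Del
import Cfsg.Agent.S1911

/-! Section T: tight embedding (see `notes/s2554_plan.md`). -/

set_option autoImplicit false
set_option linter.unusedSectionVars false

namespace Cfsg.Agent.AG

open Subgroup Cfsg.Agent.FT
open scoped commutatorElement

universe u
variable {G : Type u} [Group G] [Finite G]

theorem te (hG : Min G) {S B M : Subgroup G} (hS : Syl 2 S ⊤) (hB : B ≤ om 2 S) (h1 : B ≠ ⊥)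
    (hn : 𝐍(S) ≤ 𝐍(B)) (hM : M ≠ ⊤) (hSM : 𝐍(S) ≤ M) (hc : ∀ b ∈ B, b ≠ 1 → 𝐂[b] ≤ M) :
    SE S := by
  have hA := hG.sim.isA
  have hab := hA.abelem_om hS.isPGroup
  have hBS := hB.trans (om_le 2 S)
  have hS' : Syl 2 S M := hS.of_le (le_normalizer.trans hSM) le_top
  have U : ∀ b ∈ B, b ≠ 1 → ∀ g : G, g * b * g⁻¹ ∈ M → g ∈ M := fun b hb hb1 g hg => by
    obtain ⟨m, hm, h2⟩ := exists_conj_mem_syl hS' hg
      (by rw [orderOf_conj', hab.orderOf_eq (hB hb) hb1])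
    obtain ⟨n, hn1, hn2⟩ := hA.fusion hS (hBS hb) (mem_top (m * g))
      (by convert h2 using 1; group)
    have h3 : n⁻¹ * (m * g) ∈ M := hc b hb hb1 (mem_cent1_iff.2 (by
      calc n⁻¹ * (m * g) * b = n⁻¹ * (m * g * b * (m * g)⁻¹) * (m * g) := by group
        _ = b * (n⁻¹ * (m * g)) := by rw [← hn2]; group))
    have : g = m⁻¹ * (n * (n⁻¹ * (m * g))) := by group
    rw [this]
    exact mul_mem (inv_mem hm) (mul_mem (hSM hn1.2) h3)
  let I : Set (Subgroup G) := {L | Cmp M L ∧ S ⊓ L ≤ B}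
  let E : Subgroup G := Oo M ⊔ sSup I
  let Q : Subgroup G := E ⊔ B
  have hEM : E ≤ M := sup_le (core_le _ _) (sSup_le fun L hL => hL.1.le)
  have hQM : Q ≤ M := sup_le hEM (hBS.trans hS'.le)
  have nE : M ⊓ 𝐍(S) ≤ 𝐍(E) := le_normalizer_sup (inf_le_left.trans (core_nrm _ _).norm)
    fun g hg => mem_normalizer_of_cj_le (cj_le_iff_le_cj_inv.2 (sSup_le fun L hL =>
      cj_le_iff_le_cj_inv.1 (le_sSup ⟨hL.1.cj_of_mem (le_normalizer hg.1), by
        have := cj_mono g hL.2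
        rwa [cj_inf, cj_eq_iff_mem_normalizer.2 hg.2, cj_eq_iff_mem_normalizer.2 (hn hg.2)] at this⟩)))
  have hOQ : Oo M ≤ Q := le_sup_left.trans le_sup_left
  have nQ : M ≤ 𝐍(Q) := by
    refine gen_le hG hM hS' (hOQ.trans le_normalizer) (fun L hL => ?_)
      (le_normalizer_sup nE (inf_le_right.trans hn))
    obtain ⟨τ, -, hτ⟩ := hL.sing hG hM hS'
    by_cases hI : L ∈ I
    · exact ((le_sSup hI).trans (le_sup_right.trans le_sup_left)).trans le_normalizer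
    have h2 := (hτ.le_or (hA.comm hS.isPGroup) hBS (hn hτ.nS)).resolve_left fun h => hI ⟨hL, h⟩
    have h3 : Q ≤ cm M L := sup_le (sup_le (oo_le_cm hL.le) (sSup_le fun L' hL' =>
      hL.le_cm hL'.1 (by rintro rfl; exact hI hL'))) (h2.trans inf_le_right)
    exact le_normalizer_of_commutator_le (((le_cm_iff hL.le).1 h3).2.trans hOQ)
  have hSQ : S ⊓ Q ≤ B := fun x hx => by
    obtain ⟨y, hy, b, hb, rfl⟩ := (mem_sup_of_le_normalizer'
      ((le_inf (hBS.trans hS'.le) (hBS.trans le_normalizer)).trans nE)).1 hx.2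
    have h2 : y ∈ S ⊓ E := ⟨by simpa using S.mul_mem hx.1 (S.inv_mem (hBS hb)), hy⟩
    rw [inf_sup_cmp hG hM hS' I fun L hL => hL.1] at h2
    exact mul_mem ((iSup₂_le fun L hL => hL.2 : (⨆ L ∈ I, S ⊓ L) ≤ B) h2) hb
  have hsq : Syl 2 (S ⊓ Q) Q := Syl.inf_of_nrm hS' ⟨hQM, nQ⟩
  have U' : ∀ u ∈ Q, orderOf u = 2 → ∀ g : G, g * u * g⁻¹ ∈ M → g ∈ M := fun u hu hu2 g hg => by
    obtain ⟨q, hq, h2⟩ := exists_conj_mem_syl hsq hu hu2
    have := U _ (hSQ h2) (by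
      intro e; have := orderOf_conj' q u; rw [e, hu2] at this; simp at this) (g * q⁻¹)
      (by convert hg using 1; group)
    simpa using mul_mem this (hQM hq)
  obtain ⟨b, hb, hb1⟩ := exists_ne_one_of_ne_bot h1
  have hb2 := hab.orderOf_eq (hB hb) hb1
  have hbQ : b ∈ Q := mem_sup_right hb
  have eN : 𝐍(Q) = M := le_antisymm
    (fun g hg => U b hb hb1 g (hQM (conj_mem_of_mem_normalizer hg hbQ))) nQ
  have hodd : ∀ g : G, g ∉ 𝐍(Q) → Odd ♯(cj g Q ⊓ 𝐍(Q) : Subgroup G) := fun g hg => by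
    rw [eN] at hg ⊢
    refine odd_of_no_inv fun v hv hv2 => hg (U' _ (mem_cj.1 hv.1) ?_ g ?_)
    · simpa using (orderOf_conj' g⁻¹ v).trans hv2
    · rw [show g * (g⁻¹ * v * g) * g⁻¹ = v by group]; exact hv.2
  rcases S1911.result Q ⟨Nat.not_odd_iff_even.1 (not_odd_of_inv hbQ hb2), fun g hg =>
    odd_of_le (le_inf inf_le_right (inf_le_left.trans le_normalizer)) (hodd g hg)⟩ hodd with h | h
  · exact absurd (eN ▸ normalizer_eq_top Q) hM
  haveI := hG.sim.simple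
  have hT : normalClosure (Q : Set G) = ⊤ := (normalClosure_normal.eq_bot_or_eq_top).resolve_left
    fun e => hb1 (mem_bot.1 (e ▸ subset_normalClosure hbQ))
  refine ⟨M, hM, hSM, fun a ha ha2 c hc' => ?_⟩
  by_contra hcM
  have h2 := h.2.2 ⟨c, hT ▸ mem_top c⟩ (by rw [mem_subgroupOf, eN]; exact hcM)
  have ha' : (⟨a, hT ▸ mem_top a⟩ : normalClosure (Q : Set G)) ∈
      (𝐍(Q)).subgroupOf (normalClosure (Q : Set G)) := by
    rw [mem_subgroupOf, eN]; exact hS'.le ha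
  refine not_odd_of_inv (t := ⟨a, hT ▸ mem_top a⟩)
    (mem_inf.2 ⟨ha', mem_map.2 ⟨_, ha', Subtype.ext ?_⟩⟩) ?_ h2
  · have := mem_cent1_iff.1 hc'
    simp [this]
  · rw [← ha2, ← Subgroup.orderOf_coe]

end Cfsg.Agent.AG
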