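import Cfsg.Agent.AG.IR1
import Cfsg.Agent.AG.IT

/-! Section R4: the case of a trivial functor (see `notes/s2554_plan.md`). -/

set_option autoImplicit false
set_option linter.unusedSectionVars false

namespace Cfsg.Agent.AG

open Subgroup Cfsg.Agent.FT
open scoped commutatorElement

universe u
variable {G : Type u} [Group G] [Finite G]

variable {S β β' γ γ' K K' : Subgroup G}

theorem R3.comm_oo (h : R3 S) (hb : FBlk S β β') {a e : G} (ha : a ∈ β') (ha2 : orderOf a = 2)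
    (he : e ∈ S) (he2 : orderOf e = 2) : ⁅Oo 𝐂[a] ⊓ 𝐂[e], β⁆ ≤ Oo 𝐂[e] := by
  obtain ⟨τ, -, hτ⟩ := hb.2
  have haS := hτ.le' ha
  have hX := h.min.sim.cent_ne_top (ne_one_of_two he2)
  refine comm_le_oo h.min hX (h.syl_cent he) inf_le_right (odd_of_le inf_le_left (odd_oo _))
    (le_normalizer_inf ((h.syl_cent haS).le.trans (core_nrm _ _).norm)
      ((h.syl_cent he).le.trans le_normalizer)) hτ.le fun L hL => ?_
  by_cases hc : Oo 𝐂[a] ⊓ 𝐂[e] ≤ cm 𝐂[e] L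
  · exact Or.inl hc
  have h1 := (h.min.unb_at h.syl hX (h.syl_cent he).le hL haS ha2 hc).1
  obtain ⟨W, W', hW, -, l2, -⟩ := h.cover ⟨e, L, he, he2, hL, rfl, rfl⟩
  rcases h.eq_or hb hW with ⟨-, e2⟩ | ⟨l3, -⟩
  · exact absurd (l2 (e2 ▸ ha)).2 h1
  · exact Or.inr ((l3.trans l2).trans inf_le_right)

theorem R3.le_cent_oo (h : R3 S) (ht : Triv S) (hb : FBlk S β β') {a : G} (ha : a ∈ β')
    (ha2 : orderOf a = 2) : β ≤ 𝐂(Oo 𝐂[a]) := by
  obtain ⟨τ, -, hτ⟩ := hb.2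
  have hA := h.omA
  have haS := hτ.le' ha
  have haA : a ∈ om 2 S := mem_om haS (ha2 ▸ pow_orderOf_eq_one a)
  have h1 := ne_one_of_two ha2
  have hβ : β ≤ om 2 S := hτ.elem.le_om hτ.le
  obtain ⟨U, -, hU1, hU2⟩ := H2.exists_complement_of_elementary (p := 2) (W := zpowers a)
    (U₀ := ⊥) hA.1 hA.2 (zpowers_le.2 haA) bot_le (bot_inf_eq _)
  have hUA : U ≤ om 2 S := hU2 ▸ le_sup_left
  have hU4 : 4 ≤ ♯U := by
    have := card_sup_of_inf_eq_bot (A := U) (B := zpowers a)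
      ((zpowers_le.2 haA).trans ((hA.le_cent.trans (cent_anti hUA)).trans (cent_le_norm U))) hU1
    rw [hU2, Nat.card_zpowers, ha2] at this
    have := h.rk
    omega
  have hSn : S ≤ 𝐍(Oo 𝐂[a]) := (h.syl_cent haS).le.trans (core_nrm _ _).norm
  refine cent_symm (le_of_four (hA.of_le hUA) hU4 (odd_oo _) ((hUA.trans (om_le 2 S)).trans hSn)
    fun b hb' hb1 => ?_)
  have hbA := hUA hb'
  have hab : b ∉ zpowers a := fun h2 => hb1 (mem_bot.1 (hU1 ▸ mem_inf.2 ⟨hb', h2⟩))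
  have hF : zpowers a ⊔ zpowers b ≤ om 2 S := sup_le (zpowers_le.2 haA) (zpowers_le.2 hbA)
  refine H2.le_centralizer_of_commutator_le_centralizer
    (hτ.le.trans (le_normalizer_inf hSn ((h.syl_cent (om_le 2 S hbA)).le.trans le_normalizer)))
    (cop2 hτ.elem.isPGroup (odd_of_le inf_le_left (odd_oo _))) ?_
  refine le_trans ?_ ((ht _ hF (card_fg hA haA h1 hbA hab)).trans (cent_anti hβ))
  refine le_Del fun f hf hf1 => le_trans (commutator_mono (le_inf inf_le_left ?_) le_rfl)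
    (h.comm_oo hb ha ha2 (om_le 2 S (hF hf)) (hA.orderOf_eq (hF hf) hf1))
  refine le_trans ?_ (cent_le_cent1 hf)
  rw [cent_sup, cent_zpowers, cent_zpowers]
  exact inf_le_inf_right _ (core_le _ _)

/-- the simple group of an `F`-block is a component of all `C(e)`, `e ∈ β'` -/
theorem R3.kb (h : R3 S) (ht : Triv S) (hb : FBlk S β β') (hK : KB S β β' K) :
    Sim K ∧ Syl 2 β K ∧ ∀ e ∈ β', orderOf e = 2 → K ≤ 𝐂(Oo 𝐂[e]) ∧
      ∃ L, Cmp 𝐂[e] L ∧ β = S ⊓ L ∧ β' = S ⊓ cm 𝐂[e] L ∧ K = res L := by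
  obtain ⟨a, L, ha, ha2, hL, rfl, rfl, rfl⟩ := hK
  have hG := h.min
  have hA := hG.sim.isA
  have hXa := hG.sim.cent_ne_top (ne_one_of_two ha2)
  have hSa := h.syl_cent ha
  have ha' : a ∈ S ⊓ cm 𝐂[a] L := ⟨ha, self_mem_cm hL.le⟩
  obtain ⟨r1, -, -, r4⟩ := hL.res_sim hA hSa (h.le_cent_oo ht hb ha' ha2)
  have hsyl : Syl 2 (S ⊓ L) (res L) := (hL.syl hSa).of_le (hL.le_res hSa) (res_le L)
  refine ⟨r1, hsyl, fun e he he2 => ?_⟩
  have hX := hG.sim.cent_ne_top (ne_one_of_two he2)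
  have hS := h.syl_cent he.1
  have hKe : res L ≤ 𝐂[e] := le_cent1_iff.2 (r4 he.2)
  obtain ⟨τ, hτL, hτ⟩ := hL.sing hG hXa hSa
  have hex : ∃ L', Cmp 𝐂[e] L' ∧ ¬ S ⊓ L ≤ S ⊓ cm 𝐂[e] L' := by
    by_contra hh
    push Not at hh
    obtain ⟨k, hk, hk1⟩ := hτ.exists_ne
    exact hk1 (eq_one_of_lay hG hX hS hk.1 (le_lay hG hX hKe (res_perfect L) (hsyl.le hk))
      fun L' hL' => (hh L' hL' hk).2)
  obtain ⟨L', hL', hn⟩ := hex
  obtain ⟨W, W', hW, l1, l2, hcase⟩ := h.cover ⟨e, L', he.1, he2, hL', rfl, rfl⟩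
  obtain ⟨rfl, rfl⟩ := (h.eq_or hb hW).resolve_right fun hh => hn (hh.1.trans l2)
  rcases hcase with ⟨e1, e2⟩ | ⟨h4, h8, -⟩
  · obtain ⟨s1, s2, -, s4⟩ := hL'.res_sim hA hS (e1 ▸ h.le_cent_oo ht hb he he2)
    have hsyl' : Syl 2 (S ⊓ L') (res L') := (hL'.syl hS).of_le (hL'.le_res hS) (res_le L')
    have k1 : res L = res L' := le_antisymm
      (le_res (hL'.perfect_le hG hX hKe (res_perfect L) hsyl (e1 ▸ inf_le_right)) (res_perfect L))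
      (le_res (hL.perfect_le hG hXa (le_cent1_iff.2 (s4 (e2.ge ha').2)) (res_perfect L') hsyl'
        (e1.le.trans inf_le_right)) (res_perfect L'))
    exact ⟨k1 ▸ s2, L', hL', e1.symm, e2.symm, k1⟩
  · exfalso
    have hτe : τ ∈ 𝐂[e] := mem_cent1_comm.1 (hτ.cen he)
    have c1 := hL'.cj_of_mem (le_normalizer hτe)
    have l3 : cj τ (S ⊓ L') ≤ S ⊓ L := (cj_mono τ l1).trans (cj_eq_iff_mem_normalizer.2 hτ.nb).le
    have hne : (S ⊓ L') ⊓ cj τ (S ⊓ L') ≠ ⊥ := fun e => by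
      have := card_mul_le hτ.elem.1 l1 l3 e
      rw [card_cj, h4, h8] at this; omega
    obtain ⟨k, hk, hk1⟩ := exists_ne_one_of_ne_bot hne
    have e3 := hL'.eq_of_inf c1 hk.1.2 (cj_mono τ inf_le_right hk.2) (hτ.elem.orderOf_eq (l1 hk.1) hk1)
    rcases hτ.le_or h.comm (B := S ⊓ L') inf_le_left (inf_normalizer_le_normalizer_inf
      ⟨hτ.nS, cj_eq_iff_mem_normalizer.1 e3.symm⟩) with l4 | l4
    · have := card_le_of_le' l4; omega
    · exact hk1 (mem_bot.1 (hτ.inf ▸ mem_inf.2 ⟨l1 hk.1, l4 hk.1⟩))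

theorem R3.kb_unique (h : R3 S) (ht : Triv S) (hb : FBlk S β β') (hK : KB S β β' K)
    (hK' : KB S β β' K') : K = K' := by
  obtain ⟨a, L, ha, ha2, hL, e1, e2, rfl⟩ := hK'
  obtain ⟨-, L', hL', e3, -, rfl⟩ := (h.kb ht hb hK).2.2 a (e2 ▸ ⟨ha, self_mem_cm hL.le⟩) ha2
  obtain ⟨τ, -, hτ⟩ := hb.2
  obtain ⟨k, hk, hk1⟩ := hτ.exists_ne
  rw [hL'.eq_of_inf hL (e3.le hk).2 (e1.le hk).2 (hτ.elem.orderOf_eq hk hk1)]

theorem KB.cj (h : KB S β β' K) {n : G} (hn : n ∈ 𝐍(S)) : KB S (cj n β) (cj n β') (cj n K) := by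
  obtain ⟨a, L, ha, h2, hL, rfl, rfl, rfl⟩ := h
  have h1 := hL.cj n
  rw [cj_cent1] at h1
  refine ⟨n * a * n⁻¹, H1.cj n L, conj_mem_of_mem_normalizer hn ha, ?_, h1, ?_, ?_, cj_res n L⟩
  · rw [← h2, ← MulAut.conj_apply, MulEquiv.orderOf_eq]
  · rw [cj_inf, cj_eq_iff_mem_normalizer.2 hn]
  · rw [cj_inf, cj_eq_iff_mem_normalizer.2 hn, cj_cm hL.le, cj_cent1]

theorem Sim.ne_bot (h : Sim K) : K ≠ ⊥ := fun e => h.na (by rw [e]; infer_instance)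

theorem R3.kb_norm (h : R3 S) (ht : Triv S) (hb : FBlk S β β') (hK : KB S β β' K) : 𝐍(K) ≠ ⊤ := by
  refine h.min.sim.norm_ne_top (h.kb ht hb hK).1.ne_bot fun e => ?_
  obtain ⟨a, L, -, ha2, hL, -, -, rfl⟩ := hK
  exact h.min.sim.cent_ne_top (ne_one_of_two ha2) (top_le_iff.1 (e ▸ (res_le L).trans hL.le))

/-- the product of the simple groups of the blocks -/
def JJ (S : Subgroup G) : Subgroup G := ⨆ K : {K : Subgroup G // ∃ β β', FBlk S β β' ∧ KB S β β' K}, K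

theorem le_JJ (hb : FBlk S β β') (hK : KB S β β' K) : K ≤ JJ S :=
  le_iSup (fun K : {K : Subgroup G // ∃ β β', FBlk S β β' ∧ KB S β β' K} => (K : Subgroup G))
    ⟨K, β, β', hb, hK⟩

theorem mem_norm_JJ {g : G} (h : ∀ β β' K, FBlk S β β' → KB S β β' K → cj g K ≤ JJ S) :
    g ∈ 𝐍(JJ S) :=
  mem_normalizer_of_cj_le (cj_le_iff_le_cj_inv.2 (iSup_le fun K =>
    let ⟨_, _, h1, h2⟩ := K.2; cj_le_iff_le_cj_inv.1 (h _ _ _ h1 h2)))

theorem R3.of_triv (h : R3 S) (ht : Triv S) (hb : Blk S β β') : SE S := by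
  have hG := h.min
  have hA := h.omA
  obtain ⟨W, W', hW, -, -, -⟩ := h.cover hb
  obtain ⟨τ, hτF, hτ⟩ := hW.2
  have hex : ∀ {γ γ' : Subgroup G}, FBlk S γ γ' → ∃ K, KB S γ γ' K :=
    fun ⟨⟨a, L, h1, h2, h3, h4, h5⟩, _⟩ => ⟨_, a, L, h1, h2, h3, h4, h5, rfl⟩
  obtain ⟨K, hK⟩ := hex hW
  by_cases hn : 𝐍(S) ≤ 𝐍(W)
  · have hn' : 𝐍(S) ≤ 𝐍(W') := fun n h1 => hτ.norm_le hG.sim.isA h.syl hτF h1 (hn h1)
    have hNK : 𝐍(S) ≤ 𝐍(K) := fun n h1 => by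
      have := hK.cj h1
      rw [cj_eq_iff_mem_normalizer.2 (hn h1), cj_eq_iff_mem_normalizer.2 (hn' h1)] at this
      exact cj_eq_iff_mem_normalizer.1 (h.kb_unique ht hW this hK)
    have h4 := h.four_le' hW
    refine te hG h.syl (om_mono hτ.le') (by intro e; rw [e] at h4; simp at h4)
      (le_normalizer_om 2 hn') (h.kb_norm ht hW hK) hNK fun e he he1 => ?_
    have he2 := hA.orderOf_eq (om_mono hτ.le' he) he1
    obtain ⟨k1, L, hL, -, -, rfl⟩ := (h.kb ht hW hK).2.2 e (om_le _ _ he) he2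
    exact gen_le hG (hG.sim.cent_ne_top he1) (h.syl_cent (hτ.le' (om_le _ _ he)))
      ((cent_symm k1).trans (cent_le_norm _))
      (fun L' hL' => (hL.le_norm hL').trans (norm_le_norm_res L)) (inf_le_right.trans hNK)
  obtain ⟨n, hnS, n1, n2, n3⟩ := hτ.three hG.sim.isA h.syl hn
  have third : ∀ {γ γ' δ δ' : Subgroup G}, FBlk S γ γ' → FBlk S δ δ' →
      ∃ e ∈ γ' ⊓ δ', orderOf e = 2 := fun {γ γ' δ δ'} h1 h2 => by
    have aux : ∀ {ζ ζ' : Subgroup G}, FBlk S ζ ζ' → ζ ≠ γ → ζ ≠ δ → ∃ e ∈ γ' ⊓ δ', orderOf e = 2 :=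
      fun {ζ ζ'} h3 h4 h5 => by
        obtain ⟨σ, -, hσ⟩ := h3.2
        obtain ⟨k, hk, hk1⟩ := hσ.exists_ne
        exact ⟨k, ⟨((h.eq_or h3 h1).resolve_left fun e => h4 e.1).1 hk,
          ((h.eq_or h3 h2).resolve_left fun e => h5 e.1).1 hk⟩, hσ.elem.orderOf_eq hk hk1⟩
    by_cases c1 : W ≠ γ ∧ W ≠ δ
    · exact aux hW c1.1 c1.2
    by_cases c2 : cj n W ≠ γ ∧ cj n W ≠ δ
    · exact aux (hW.cj hnS) c2.1 c2.2
    refine aux (hW.cj (inv_mem hnS)) (fun e => ?_) (fun e => ?_)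
    · exact c2 ⟨fun e' => n3 (e'.trans e.symm), fun e' => c1 ⟨fun e'' => n2 (e.trans e''.symm),
        fun e'' => n1 (e'.trans e''.symm)⟩⟩
    · exact c2 ⟨fun e' => c1 ⟨fun e'' => n1 (e'.trans e''.symm), fun e'' => n2 (e.trans e''.symm)⟩,
        fun e' => n3 (e'.trans e.symm)⟩
  have hJK : JJ S ≤ 𝐍(K) := iSup_le fun K' => by
    obtain ⟨K', γ, γ', h1, h2⟩ := K'
    obtain ⟨e, he, he2⟩ := third hW h1
    obtain ⟨-, L, hL, -, -, rfl⟩ := (h.kb ht hW hK).2.2 e he.1 he2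
    obtain ⟨-, L', hL', -, -, rfl⟩ := (h.kb ht h1 h2).2.2 e he.2 he2
    exact (res_le L').trans ((hL.le_norm hL').trans (norm_le_norm_res L))
  have hN : 𝐍(S) ≤ 𝐍(JJ S) := fun g hg => mem_norm_JJ fun _ _ _ h1 h2 => le_JJ (h1.cj hg) (h2.cj hg)
  refine ⟨𝐍(JJ S), hG.sim.norm_ne_top (ne_bot_of_le (le_JJ hW hK) (h.kb ht hW hK).1.ne_bot)
    (fun e => h.kb_norm ht hW hK (top_le_iff.1 (e ▸ hJK))), hN, fun e he he2 => ?_⟩
  have hX := hG.sim.cent_ne_top (ne_one_of_two he2)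
  have hS := h.syl_cent he
  have hSn : S ≤ 𝐍(Oo 𝐂[e]) := hS.le.trans (core_nrm _ _).norm
  have hO : Oo 𝐂[e] ≤ 𝐍(JJ S) := by
    refine le_of_hyp hA (by intro e; have := h.rk; rw [e] at this; simp at this) (odd_oo _)
      ((om_le 2 S).trans hSn) fun H hH h2 g hg => mem_norm_JJ fun γ γ' K' h1 h3 => ?_
    obtain ⟨σ, -, hσ⟩ := h1.2
    have hne : H ⊓ om 2 γ' ≠ ⊥ := fun e => by
      have k1 := card_mul_le hA.1 hH (om_mono hσ.le') e
      have k2 := h.four_le' h1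
      have k3 := card_pos' H
      nlinarith
    obtain ⟨f, hf, hf1⟩ := exists_ne_one_of_ne_bot hne
    have hf2 := hA.orderOf_eq (hH hf.1) hf1
    obtain ⟨-, L, hL, -, -, rfl⟩ := (h.kb ht h1 h3).2.2 f (om_le _ _ hf.2) hf2
    have := hL.odd_le_norm hG (hG.sim.cent_ne_top hf1) (h.syl_cent (om_le 2 S (hH hf.1)))
      (D := Oo 𝐂[e] ⊓ 𝐂(H)) (inf_le_right.trans (cent_le_cent1 hf.1))
      (odd_of_le inf_le_left (odd_oo _)) (le_normalizer_inf hSn (le_normalizer_centralizer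
        (nrm_of_comm h.comm (hH.trans (om_le 2 S))).norm))
    rw [cj_eq_iff_mem_normalizer.2 (norm_le_norm_res L (this hg))]
    exact le_JJ h1 h3
  refine gen_le hG hX hS hO (fun L hL => ?_) (inf_le_right.trans hN)
  obtain ⟨V, V', hV, l1, l2, -⟩ := h.cover ⟨e, L, he, he2, hL, rfl, rfl⟩
  obtain ⟨K1, k1, k2, k3, k4⟩ := hL.cover_perfect hG hX hS
  obtain ⟨f, L', hf, hf2, hL', e1, e2⟩ := hV.1
  rw [← k3]
  refine sup_le (le_trans ?_ ((le_JJ hV ⟨f, L', hf, hf2, hL', e1, e2, rfl⟩).trans le_normalizer)) hO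
  exact le_res (hL'.perfect_le hG (hG.sim.cent_ne_top (ne_one_of_two hf2))
    ((k1.trans inf_le_right).trans (cent_le_cent1 (l2 (e2 ▸ ⟨hf, self_mem_cm hL'.le⟩)))) k2 k4
    (l1.trans (e1.le.trans inf_le_right))) k2

end Cfsg.Agent.AG
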