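import Cfsg.Agent.AG.IA
import Cfsg.Agent.AG.VC1b

/-! Section VC1: the principal 2-block (see `notes/s2554_plan.md`). -/

set_option autoImplicit false
set_option linter.unusedSectionVars false

namespace Cfsg.Agent.AG

open Subgroup Cfsg.Agent.FT
open scoped commutatorElement

universe u
variable {G : Type u} [Group G] [Finite G]

/-- the degrees in the principal block and the order of `G` -/
theorem vc_principal (hG : Sim G) {S : Subgroup G} {t s : G} (hS : Syl 2 S ⊤) (h4 : ♯S = 4)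
    (ht : t ∈ S) (hs : s ∈ S) (ht2 : orderOf t = 2) (hs2 : orderOf s = 2) (hne : t ≠ s)
    (hU : ¬ Oo 𝐂[t] ≤ 𝐂[s]) :
    ∃ y₁ y₂ y₃ : ℤ, y₁ % 4 = 1 ∧ y₂ % 4 = 1 ∧ y₃ % 4 = 1 ∧ 1 + y₁ + y₂ + y₃ = 0 ∧
      (y₁ ≤ -7 ∨ 5 ≤ y₁) ∧ (y₂ ≤ -7 ∨ 5 ≤ y₂) ∧ (y₃ ≤ -7 ∨ 5 ≤ y₃) ∧
      ((𝐂[t]).index : ℤ) * ((y₁ + 1) * (y₂ + 1) * (y₃ + 1)) =
        8 * ((𝐂[s]).relIndex (Oo 𝐂[t]) : ℤ) ^ 2 * (y₁ * y₂ * y₃) :=
  VB.principal ⟨hG, hS, h4, ht, hs, ht2, hs2, hne⟩ hU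

theorem vc_bound (hG : Sim G) {S : Subgroup G} {t s : G} (hS : Syl 2 S ⊤) (h4 : ♯S = 4)
    (ht : t ∈ S) (hs : s ∈ S) (ht2 : orderOf t = 2) (hs2 : orderOf s = 2) (hne : t ≠ s)
    (hU : ¬ Oo 𝐂[t] ≤ 𝐂[s]) :
    (𝐂[t]).index ≤ 15 * ((𝐂[s]).relIndex (Oo 𝐂[t])) ^ 2 := by
  obtain ⟨a, b, c, h1, h2, h3, e, ha, hb, hc, k⟩ := vc_principal hG hS h4 ht hs ht2 hs2 hne hU
  have v := (MC.bg_num1 (a := a) (b := b) (c := c) (by omega) (by omega) (by omega) (by omega) rfl).1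
  have a0 : (a : ℚ) ≠ 0 := by exact_mod_cast (show a ≠ 0 by omega)
  have b0 : (b : ℚ) ≠ 0 := by exact_mod_cast (show b ≠ 0 by omega)
  have c0 : (c : ℚ) ≠ 0 := by exact_mod_cast (show c ≠ 0 by omega)
  have e3 : (1 + a + b + c : ℚ) = 0 := by exact_mod_cast e
  have k' : ((𝐂[t]).index : ℚ) * ((a + 1) * (b + 1) * (c + 1)) =
      8 * ((𝐂[s]).relIndex (Oo 𝐂[t]) : ℚ) ^ 2 * (a * b * c) := by exact_mod_cast k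
  have k2 : ((𝐂[t]).index : ℚ) * (1 + 1 / a + 1 / b + 1 / c) = 8 * ((𝐂[s]).relIndex (Oo 𝐂[t]) : ℚ) ^ 2 := by
    field_simp
    linear_combination k' - ((𝐂[t]).index : ℚ) * e3
  have := mul_le_mul_of_nonneg_left v (Nat.cast_nonneg (α := ℚ) (𝐂[t]).index)
  exact_mod_cast (show ((𝐂[t]).index : ℚ) ≤ 15 * ((𝐂[s]).relIndex (Oo 𝐂[t]) : ℚ) ^ 2 by
    nlinarith [sq_nonneg ((𝐂[s]).relIndex (Oo 𝐂[t]) : ℚ)])

end Cfsg.Agent.AG
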