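import Cfsg.Agent.AG.IV0
import Cfsg.Agent.AG.IVC1
import Cfsg.Agent.AG.VC1c

/-! Section VC2: `O(C(S)) = 1` (see `notes/s2554_plan.md`). -/

set_option autoImplicit false
set_option linter.unusedSectionVars false

namespace Cfsg.Agent.AG

open Subgroup Cfsg.Agent.FT
open scoped commutatorElement

universe u
variable {G : Type u} [Group G] [Finite G]

variable {S : Subgroup G} {t s : G}

theorem V4.oo_bot (h : V4 S t s) (hi : ∀ x ∈ ⁅Oo 𝐂[t], zpowers s⁆, s * x * s⁻¹ = x⁻¹) : Oo 𝐂(S) = ⊥ :=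
  h.oo_centS.trans (VB.D_bot ⟨h.min.sim, h.syl, h.card, h.tS, h.sS, h.t2, h.s2, h.ne⟩ h.oo_not_le hi)

/-- a linear character of `D = O(C(S))` is `N(S)`-invariant -/
theorem V4.lin_inv (h : V4 S t s) (hc : IsMulCommutative ↥⁅Oo 𝐂[t], zpowers s⁆)
    (hi : ∀ x ∈ ⁅Oo 𝐂[t], zpowers s⁆, s * x * s⁻¹ = x⁻¹) :
    ⁅Oo 𝐂(S), 𝐍(S)⁆ ≤ ⁅Oo 𝐂(S), Oo 𝐂(S)⁆ := by
  rw [h.oo_bot hi, commutator_bot_left]
  exact bot_le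

/-- an invariant linear character of `D` is trivial -/
theorem V4.lin_triv (h : V4 S t s) (hc : IsMulCommutative ↥⁅Oo 𝐂[t], zpowers s⁆)
    (hi : ∀ x ∈ ⁅Oo 𝐂[t], zpowers s⁆, s * x * s⁻¹ = x⁻¹)
    (hn : ⁅Oo 𝐂(S), 𝐍(S)⁆ ≤ ⁅Oo 𝐂(S), Oo 𝐂(S)⁆) : Oo 𝐂(S) = ⊥ := h.oo_bot hi

end Cfsg.Agent.AG
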