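import Cfsg.Agent.AG.IV3
import Cfsg.Agent.AG.IVC2
import Cfsg.Agent.BW.Main

/-! Section V4: the Brauer-Suzuki-Wall hypothesis (see `notes/s2554_plan.md`). -/

set_option autoImplicit false
set_option linter.unusedSectionVars false

namespace Cfsg.Agent.AG

open Subgroup Cfsg.Agent.FT
open scoped commutatorElement

universe u
variable {G : Type u} [Group G] [Finite G]

variable {S : Subgroup G} {t s : G}

theorem mem_zp_two (h : orderOf t = 2) {a : G} (ha : a ∈ zpowers t) : a = 1 ∨ a = t := by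
  obtain ⟨n, rfl⟩ := ha
  have h1 : t ^ (2 : ℤ) = 1 := by rw [zpow_two]; exact sq_of_two h
  obtain ⟨k, rfl | rfl⟩ := Int.even_or_odd' n
  · left; simp only [zpow_mul, h1, one_zpow]
  · right; simp only [zpow_add, zpow_mul, h1, one_zpow, zpow_one, one_mul]

theorem V4.pm (h : V4 S t s) (p : ℕ) [Fact p.Prime] :
    core {p} (Oo 𝐂[t]) ≤ 𝐂[s] ∨ core {p} (Oo 𝐂[t]) ⊓ 𝐂[s] = ⊥ := by
  have hG := h.min.sim
  set Y := core {p} (Oo 𝐂[t]) with hY
  have nY : Y ⊴ 𝐂[t] := (core_nrm _ _).core _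
  have pY : IsPGroup p Y := core_isPGroup _
  refine or_iff_not_imp_right.2 fun h0 => ?_
  have h1 : Y ⊓ 𝐂[s] ≤ 𝐂(S) := by rw [h.centS]; exact inf_le_inf_right _ nY.le
  have h2 : 𝐍(Y ⊓ 𝐂[s]) ≠ ⊤ := hG.norm_ne_top h0 fun e =>
    hG.cent_ne_top (ne_one_of_two' h.s2) (top_le_iff.1 (e ▸ inf_le_right))
  obtain ⟨M, hM, h3⟩ := (eq_top_or_exists_le_coatom _).resolve_left h2
  have h4 : Y ≤ fit (Oo 𝐂[t]) := pcore_le_fit _
  have h5 : M = 𝐂[t] := by
    by_contra hne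
    refine h0 (le_bot_iff.1 (h.count hM hne (le_trans ?_ h3) (le_trans ?_ h3) ▸ inf_le_inf_right _ h4))
    · exact (nrm_of_comm (hG.isA.comm_of_nil (fit_nil _))
        (inf_le_left.trans (h4.trans h.fit_oo_le))).norm
    · rw [h.centS]
      exact le_normalizer_inf (inf_le_left.trans nY.norm) (inf_le_right.trans le_normalizer)
  obtain ⟨ρ, hρ, e, -⟩ := h.rho
  have h6 : H1.cj ρ (Y ⊓ 𝐂[s]) ≤ 𝐂[t] := by
    refine ((cj_mono ρ h1).trans (cj_eq_iff_mem_normalizer.2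
      (le_normalizer_centralizer le_rfl hρ)).le).trans ?_
    rw [h.centS]; exact inf_le_left
  have h7 := cent_symm (hG.isA.le_cent (isPGroup_cj ρ (isPGroup_of_le inf_le_left pY)) pY
    (h6.trans nY.norm))
  refine h7.trans ((cent_le_norm _).trans ?_)
  have h8 := cj_mono ρ (h3.trans h5.le)
  rwa [cj_cent1, e, cj_normalizer] at h8

theorem V4.inverts (h : V4 S t s) : IsMulCommutative ↥⁅Oo 𝐂[t], zpowers s⁆ ∧
    ∀ x ∈ ⁅Oo 𝐂[t], zpowers s⁆, s * x * s⁻¹ = x⁻¹ := by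
  have hst : s ∈ 𝐂[t] := mem_cent1_iff.2 h.comm.symm
  have nU : zpowers s ≤ 𝐍(Oo 𝐂[t]) := zpowers_le.2 ((core_nrm _ _).norm hst)
  have hW : ⁅Oo 𝐂[t], zpowers s⁆ ≤ Oo 𝐂[t] := commutator_le_left' nU
  have h1 : ⁅Oo 𝐂[t], zpowers s⁆ ≤ fit (Oo 𝐂[t]) := by
    refine le_trans (le_inf hW (cent_symm (fit_le_of_forall_pcore fun p _ => cent_symm ?_)))
      (cent_fit_le (solv_of_odd (odd_oo _)))
    have nY : core {p} (Oo 𝐂[t]) ⊴ 𝐂[t] := (core_nrm _ _).core _
    rcases h.pm p with h2 | h2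
    · exact (commutator_mono le_rfl (zpowers_le.2 (le_cent1_iff.1 h2))).trans
        (commutator_le_right' (le_normalizer_centralizer (core_nrm _ _).norm))
    have h3 := inv_of_fpf h.s2 (nY.norm hst) h2
    rw [commutator_le]
    intro u hu a ha
    rcases mem_zp_two h.s2 ha with rfl | rfl
    · simp
    refine mem_cent_iff.2 fun y hy => ?_
    have e1 := h3 _ (nY.conj_mem' (core_le _ _ hu) hy)
    have e2 := h3 y hy
    have e3 : u * a * u⁻¹ * y = y⁻¹ * (u * a * u⁻¹) := by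
      calc u * a * u⁻¹ * y = u * (a * (u⁻¹ * y * u) * a⁻¹) * a * u⁻¹ := by group
        _ = _ := by rw [e1]; group
    have e4 : a⁻¹ * y⁻¹ = y * a⁻¹ := by rw [← e2]; group
    have e5 : a⁻¹ * y = y⁻¹ * a⁻¹ := by
      calc a⁻¹ * y = y⁻¹ * (y * a⁻¹) * y := by group
        _ = y⁻¹ * (a⁻¹ * y⁻¹) * y := by rw [e4]
        _ = _ := by group
    have e6 : u * a * u⁻¹ * y⁻¹ = y * (u * a * u⁻¹) := by
      calc u * a * u⁻¹ * y⁻¹ = y * (y⁻¹ * (u * a * u⁻¹)) * y⁻¹ := by group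
        _ = y * (u * a * u⁻¹ * y) * y⁻¹ := by rw [e3]
        _ = _ := by group
    rw [commutatorElement_def]
    calc y * (u * a * u⁻¹ * a⁻¹) = (y * (u * a * u⁻¹)) * a⁻¹ := by group
      _ = u * a * u⁻¹ * (y⁻¹ * a⁻¹) := by rw [← e6]; group
      _ = _ := by rw [← e5]; group
  have h2 : IsMulCommutative ↥⁅Oo 𝐂[t], zpowers s⁆ :=
    isMulCommutative_of_le h1 (h.min.sim.isA.comm_of_nil (fit_nil _))
  have h3 := right_le_normalizer_commutator (Oo 𝐂[t]) (zpowers s)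
  refine ⟨h2, inv_of_fpf h.s2 (h3 (mem_zpowers s)) ?_⟩
  have h4 := H2.centralizer_inf_commutator_eq_bot h3
    (cop2 (isPGroup_zp h.s2) (odd_of_le hW (odd_oo _))) h2
  rwa [H2.commutator_commutator_eq nU (cop2 (isPGroup_zp h.s2) (odd_oo _)), cent_zpowers,
    inf_comm] at h4

theorem V4.lt (h : V4 S t s) : LT G := by
  obtain ⟨i1, i2⟩ := h.inverts
  have hD := h.lin_triv i1 i2 (h.lin_inv i1 i2)
  rw [h.oo_centS] at hD
  have hst : s ∈ 𝐂[t] := mem_cent1_iff.2 h.comm.symm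
  set U := Oo 𝐂[t] with hU
  have nU : U ⊴ 𝐂[t] := core_nrm _ _
  have inv := inv_of_fpf h.s2 (nU.norm hst) hD
  have cU : U ≤ 𝐂(U) := le_cent_of_inv (odd_oo _) le_normalizer inv inv
  have tU : zpowers t ≤ 𝐂(U) := zpowers_le.2 (le_cent1_iff.1 nU.le)
  have hm : ∀ x ∈ U ⊔ zpowers t, ∃ u ∈ U, x = u ∨ x = u * t := fun x hx => by
    obtain ⟨u, hu, a, ha, rfl⟩ := (mem_sup_of_le_normalizer' (tU.trans (cent_le_norm U))).1 hx
    rcases mem_zp_two h.t2 ha with rfl | rfl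
    exacts [⟨u, hu, Or.inl (mul_one u)⟩, ⟨u, hu, Or.inr rfl⟩]
  have tK : t ∈ U ⊔ zpowers t := mem_sup_right (mem_zpowers t)
  have hK : U ⊔ zpowers t ≤ 𝐂[t] := sup_le nU.le (zpowers_le.2 (mem_cent1_self t))
  have cK : U ⊔ zpowers t ≤ 𝐂(U ⊔ zpowers t) := by
    rw [cent_sup, cent_zpowers]; exact le_inf (sup_le cU tU) hK
  have uniq : ∀ u ∈ U ⊔ zpowers t, orderOf u = 2 → u = t := fun x hx h2 => by
    obtain ⟨u, hu, rfl | rfl⟩ := hm x hx
    · exact absurd (odd_oo _) (not_odd_of_inv hu h2)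
    · have e := mem_cent1_iff.1 (nU.le hu)
      have : u = 1 := mem_bot.1 (mem_of_sq_mem (odd_orderOf (odd_oo _) hu) (mem_bot.2 (by
        calc u ^ 2 = u * (t * t) * u := by rw [sq_of_two h.t2, mul_one, pow_two]
          _ = u * t * (t * u) := by group
          _ = u * t * (u * t) := by rw [← e]
          _ = 1 := sq_of_two h2)))
      rw [this, one_mul]
  have invK : ∀ x ∈ U ⊔ zpowers t, s * x * s⁻¹ = x⁻¹ := fun x hx => by
    obtain ⟨u, hu, rfl | rfl⟩ := hm x hx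
    · exact inv _ hu
    · have e := mem_cent1_iff.1 (nU.le (inv_mem hu))
      calc s * (u * t) * s⁻¹ = (s * u * s⁻¹) * (s * t) * s⁻¹ := by group
        _ = u⁻¹ * t := by rw [inv u hu, ← h.comm]; group
        _ = _ := by rw [e, mul_inv_rev, inv_eq_of_mul_eq_one_right (sq_of_two h.t2)]
  have hc : ∀ g ∈ 𝐂[t], g ∈ U ⊔ zpowers t ∨ g * s ∈ U ⊔ zpowers t := fun g hg => by
    rw [← h.cent_eq] at hg
    obtain ⟨u, hu, a, ha, rfl⟩ := (mem_sup_of_le_normalizer'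
      ((h.elem.le_cent.trans (cent_le_cent1 h.tS)).trans nU.norm)).1 hg
    have hu' : u ∈ U ⊔ zpowers t := mem_sup_left hu
    rcases h.mem.1 ha with rfl | rfl | rfl | rfl
    · exact Or.inl (by simpa using hu')
    · exact Or.inl (mul_mem hu' tK)
    · exact Or.inr (by rw [mul_assoc, sq_of_two h.s2, mul_one]; exact hu')
    · exact Or.inr (by rw [mul_assoc, mul_assoc, sq_of_two h.s2, mul_one]; exact mul_mem hu' tK)
  have hU1 : U ≠ ⊥ := fun e => h.oo_not_le (by rw [← hU, e]; exact bot_le)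
  have cardK : ♯(U ⊔ zpowers t : Subgroup G) = ♯U * 2 :=
    H2.card_sup_zpowers_eq (p := 2) (cent_le_norm U (tU (mem_zpowers t)))
      (fun hh => not_odd_of_inv hh h.t2 (odd_oo _)) (by rw [pow_two, sq_of_two h.t2]; exact one_mem _)
  have c1 := one_lt_card.2 hU1
  obtain ⟨m, hm'⟩ : Odd ♯U := odd_oo _
  obtain ⟨F, _, _, hF, e⟩ := BW.main (K := U ⊔ zpowers t) (t := t) (s := s)
    ⟨h.t2, fun u hu => h.isConj hu, tK, fun x hx y hy => (mem_cent_iff.1 (cK hy) x hx), uniq,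
      by rw [cardK]; omega, sq_of_two h.s2, fun hs => h.ne (uniq s hs h.s2).symm, invK,
      fun g => ⟨fun hg => hc g (mem_cent1_iff.2 hg), fun hg => mem_cent1_iff.1 (hg.elim (@hK g)
        fun h1 => by simpa using mul_mem (hK h1) (inv_mem hst))⟩, fun x hx hx1 g hg => by
      have hn : zpowers x ⊴ 𝐂[t] := ⟨zpowers_le.2 (hK hx), fun y hy => by
        have k1 : U ⊔ zpowers t ≤ 𝐍(zpowers x) :=
          (cK.trans (cent_anti (zpowers_le.2 hx))).trans (cent_le_norm _)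
        have k2 : s ∈ 𝐍(zpowers x) := by
          rw [← cj_eq_iff_mem_normalizer, cj_zpowers, invK x hx, zpowers_inv]
        rcases hc y hy with h1 | h1
        · exact k1 h1
        · simpa using mul_mem (k1 h1) (inv_mem k2)⟩
      refine mem_cent1_iff.1 ?_
      rw [← h.min.sim.norm_eq h.coatom (by simpa using hx1) hn]
      exact cent_le_norm _ (by rw [cent_zpowers]; exact mem_cent1_iff.2 hg)⟩
  rw [cardK] at hF
  exact ⟨F, inferInstance, inferInstance, by omega, by omega, e⟩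

end Cfsg.Agent.AG
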