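import Cfsg.Agent.AG.IR2
import Cfsg.Agent.AG.IR3
import Cfsg.Agent.AG.IR4
import Cfsg.Agent.AG.IJ
import Cfsg.Agent.AG.IV4

/-! The classification (see `notes/s2554_plan.md`). -/

set_option autoImplicit false
set_option linter.unusedSectionVars false

namespace Cfsg.Agent.AG

open Subgroup Cfsg.Agent.FT
open scoped commutatorElement

universe u
variable {G : Type u} [Group G] [Finite G]

theorem R3.se {S : Subgroup G} (h : R3 S) : SE S := by
  by_cases hb : Bal S
  · rcases h.of_bal hb with h1 | ⟨ht, β, β', h1⟩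
    · exact h1
    · exact h.of_triv ht h1
  · obtain ⟨e, L, he, he2, hL, -, -⟩ := h.unbal hb
    have h1 : Blk S _ _ := ⟨e, L, he, he2, hL, rfl, rfl⟩
    by_cases ht : Triv S
    · exact h.of_triv ht h1
    · obtain ⟨M, hM, h2, h3⟩ := h.functor (h.rk4 h1) ht
      exact h.of_unbal hb hM h2 h3

theorem Min.kn (hG : Min G) : Kn G := by
  obtain ⟨S, hS⟩ := exists_syl 2 (⊤ : Subgroup G)
  by_cases hse : SE S
  · exact Or.inr (hG.sim.se_lt hS hse)
  by_cases h8 : ♯(om 2 S) < 8
  · obtain ⟨h4, he⟩ := hG.sim.rk2 hS h8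
    obtain ⟨t, ht, ht1⟩ := exists_ne_one_of_ne_bot (H := S) (by
      rintro rfl; simp at h4)
    have h2 : ¬ S ≤ zpowers t := fun hl => by
      have := card_le_of_le' hl
      rw [Nat.card_zpowers, he.orderOf_eq ht ht1, h4] at this
      omega
    obtain ⟨s, hs, hst⟩ := SetLike.not_le_iff_exists.1 h2
    have hs1 : s ≠ 1 := by rintro rfl; exact hst (one_mem _)
    exact Or.inr (V4.lt (S := S) (t := t) (s := s) ⟨hG, hS, h4, he, hse, ht, hs,
      he.orderOf_eq ht ht1, he.orderOf_eq hs hs1, by rintro rfl; exact hst (mem_zpowers _)⟩)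
  by_cases hj : ♯S = 8 → ∀ β β', ¬ Blk S β β'
  · exact absurd (R3.se ⟨hG, hS, by omega, hj⟩) hse
  push Not at hj
  obtain ⟨h1, β, β', hb⟩ := hj
  have hle : om 2 S ≤ S := fun x hx => ((hG.sim.isA.mem_om hS.isPGroup).1 hx).1
  have he : om 2 S = S := eq_of_le_of_card_le hle (by omega)
  have ha := hG.sim.isA.abelem_om hS.isPGroup
  rw [he] at ha
  exact (jr hG hS h1 ha hb).elim Or.inl fun h => absurd h hse

theorem main_aux (n : ℕ) : ∀ (G : Type u) [Group G] [Finite G], Nat.card G = n → Sim G →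
    Kn G := by
  induction n using Nat.strong_induction_on with
  | _ n ih =>
    intro G _ _ hn h
    exact Min.kn ⟨h, fun K _ _ hK hl => ih _ (hn ▸ hl) K rfl hK⟩

theorem main (h : Sim G) : Kn G := main_aux _ G rfl h

end Cfsg.Agent.AG
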