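import Cfsg.Agent.AG.Defs
import Cfsg.Agent.JR.J0
import Cfsg.Agent.JR.B

/-! Sections G1, G2: the groups `PSL₂(q)`. -/

set_option autoImplicit false
set_option linter.unusedSectionVars false

namespace Cfsg.Agent.AG

open Subgroup Cfsg.Agent.FT Cfsg.Agent.JR

universe u
variable {G : Type u} [Group G] [Finite G]

theorem g12_idx (d : G) : (𝐂[d]).index ≤ Nat.card {x : G // orderOf x = orderOf d} := by
  refine Nat.card_le_card_of_injective (fun x : G ⧸ 𝐂[d] => ⟨x.out * d * x.out⁻¹, orderOf_cj _ _⟩)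
    fun x y e => ?_
  rw [← x.out_eq', ← y.out_eq', QuotientGroup.eq, mem_cent1_iff]
  have e1 : x.out * d * x.out⁻¹ = y.out * d * y.out⁻¹ := congrArg Subtype.val e
  calc _ = x.out⁻¹ * (y.out * d * y.out⁻¹) * y.out := by group
    _ = _ := by rw [← e1]; group

theorem Good0.of_equiv {K : Type*} [Group K] [Finite K] (e : G ≃* K) (h : Good0 K) : Good0 G := by
  have mem : ∀ (S : Subgroup G) (x : G), e x ∈ S.map e.toMonoidHom ↔ x ∈ S := fun S x =>
    mem_map_iff_mem e.injective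
  have sy : ∀ S : Subgroup G, Syl 2 S ⊤ → Syl 2 (S.map e.toMonoidHom) ⊤ := fun S hS =>
    map_top_of_surjective e.toMonoidHom e.surjective ▸ hS.map _
  have cd : ∀ S : Subgroup G, ♯(S.map e.toMonoidHom) = ♯S := fun S => card_map_of_injective e.injective
  have o : ∀ k : G, orderOf k = 2 → orderOf (e k) = 2 := fun k hk => (e.orderOf_eq k).trans hk
  have c1 : ∀ k x : G, e x ∈ 𝐂[e k] ↔ x ∈ 𝐂[k] := fun k x => by
    rw [mem_cent1_iff, mem_cent1_iff, ← map_mul, ← map_mul, e.injective.eq_iff]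
  have oo : ∀ k : G, (Oo 𝐂[k]).map e.toMonoidHom ≤ Oo 𝐂[e k] := fun k => by
    rw [show 𝐂[e k] = (𝐂[k]).map e.toMonoidHom from ext fun x => by
      obtain ⟨x, rfl⟩ := e.surjective x
      rw [c1, mem]]
    exact le_core ((core_nrm _ _).map _) ((core_piG _ _).map _)
  refine ⟨fun S hS => ⟨comm_iff_le_cent.2 fun a ha => mem_cent_iff.2 fun b hb => e.injective ?_,
      fun a ha => e.injective ?_⟩, fun S hS => cd S ▸ h.four _ (sy S hS), fun S hS x hx => ?_,
    fun S hS => ?_, fun k hk => ?_, fun k s hk hs ne c x hx => e.injective ?_,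
    fun S hS h4 k hk => ?_, fun k hk x hx x1 g hg => ?_, fun S hS h4 k hk => ?_⟩
  · rw [map_mul, map_mul]
    exact mem_cent_iff.1 ((h.elem _ (sy S hS)).le_cent ((mem S a).2 ha)) _ ((mem S b).2 hb)
  · rw [map_pow, map_one]; exact (h.elem _ (sy S hS)).2 _ ((mem S a).2 ha)
  · refine (mem S x).1 (h.selfc _ (sy S hS) (mem_cent_iff.2 ?_))
    rintro _ ⟨a, ha, rfl⟩
    exact (map_mul e a x).symm.trans ((congrArg e (mem_cent_iff.1 hx a ha)).trans (map_mul e x a))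
  · obtain ⟨τ, a1, a2, a3⟩ := h.sing _ (sy S hS)
    obtain ⟨τ, rfl⟩ := e.surjective τ
    refine ⟨τ, mem_normalizer_iff.2 fun x => ?_, e.injective (by rw [map_pow, ← cd, a2, map_one]),
      fun x hx x1 y hy y1 => ?_⟩
    · rw [← mem, mem_normalizer_iff.1 a1, ← mem, map_mul, map_mul, map_inv]
    · obtain ⟨i, hi⟩ := a3 _ ((mem S x).2 hx) (by simpa using x1) _ ((mem S y).2 hy) (by simpa using y1)
      exact ⟨i, e.injective (by simpa using hi)⟩
  · haveI := isCyclic_of_le' (oo k) (h.cyc _ (o k hk))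
    exact isCyclic_of_surjective _ (equivMapOfInjective _ e.toMonoidHom e.injective).symm.surjective
  · rw [map_mul, map_mul, map_inv, map_inv]
    exact h.inv _ _ (o k hk) (o s hs) (e.injective.ne ne) (by rw [← map_mul, c, map_mul]) _
      (oo k ((mem _ x).2 hx))
  · exact (map_eq_bot_iff_of_injective _ e.injective).1 (eq_bot_iff.2
      (h.big _ (sy S hS) (cd S ▸ h4) _ (o k hk) ▸ oo k))
  · exact (c1 k g).1 (h.ti _ (o k hk) _ (oo k ((mem _ x).2 hx)) (by simpa using x1) ((c1 x g).2 hg))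
  · have a := card_le_of_le' (oo k)
    rw [cd] at a
    refine le_trans (Nat.mul_le_mul (by omega) (by omega))
      ((h.cnt _ (sy S hS) (cd S ▸ h4) _ (o k hk)).trans_eq (Nat.card_congr
        (e.toEquiv.subtypeEquiv fun x => by rw [← e.orderOf_eq x]; rfl).symm))

variable {F : Type} [Field F] [Fintype F]

theorem g12_even (h8 : Fintype.card F % 8 = 0) : Good0 (L2 F) := by
  haveI : CharP F 2 := by
    obtain ⟨p, c, n, hp, e⟩ := FiniteField.card' F
    have : 2 ∣ p ^ (n : ℕ) := e ▸ by omega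
    exact (Nat.prime_dvd_prime_iff_eq Nat.prime_two hp).1 (Nat.prime_two.dvd_of_dvd_pow this) ▸ c
  have q8 : 8 ≤ Fintype.card F := by have := Fintype.card_pos (α := F); omega
  have key : ∀ S : Subgroup (L2 F), Syl 2 S ⊤ → ♯S = Fintype.card F ∧ (∀ x ∈ S, x ^ 2 = 1) ∧
      ∀ y ∈ S, y ≠ 1 → 𝐂[y] = S := fun S hS => by
    obtain ⟨θ, h1, h2, h3, -⟩ := MC.F4 hS.toSylowTop
    rw [hS.coe_toSylowTop] at h1 h2 h3
    have t1 : θ 1 = 0 := by simpa using h2 1 (one_mem _) 1 (one_mem _)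
    refine ⟨?_, fun x hx => h1.injOn (pow_mem hx 2) (one_mem _) ?_, h3⟩
    · rw [← Nat.card_eq_fintype_card]
      exact Nat.card_congr (h1.equiv.trans (Equiv.Set.univ F))
    · rw [sq, h2 x hx x hx, t1, CharTwo.add_self_eq_zero]
  have ex : ∀ S : Subgroup (L2 F), Syl 2 S ⊤ → ∃ y ∈ S, y ≠ 1 := fun S hS =>
    exists_ne_one_of_ne_bot (one_lt_card.1 (by rw [(key S hS).1]; omega))
  have oo : ∀ k : L2 F, orderOf k = 2 → Oo 𝐂[k] = ⊥ := fun k hk => by
    obtain ⟨S, hS, h1⟩ := exists_syl_ge (two_zpowers hk) le_top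
    rw [(key S hS).2.2 k (h1 (mem_zpowers k)) (ne_one_of_two hk)]
    exact core_eq_bot (by rw [compl_compl]; exact piG_singleton_iff.2 hS.isPGroup)
  refine ⟨fun S hS => ⟨comm_iff_le_cent.2 fun a ha => mem_cent_iff.2 fun b hb => ?_, (key S hS).2.1⟩,
    fun S hS => by rw [(key S hS).1]; omega, fun S hS => ?_, fun S hS => ?_,
    fun k hk => by rw [oo k hk]; infer_instance, fun k s hk _ _ _ x hx => ?_, fun _ _ _ => oo,
    fun k hk x hx x1 => ?_, fun S hS h4 => by rw [(key S hS).1] at h4; omega⟩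
  · by_cases a1 : a = 1
    · simp [a1]
    · exact mem_cent1_iff.1 (((key S hS).2.2 a ha a1).ge hb)
  · obtain ⟨y, hy, y1⟩ := ex S hS
    exact (cent_le_cent1 hy).trans ((key S hS).2.2 y hy y1).le
  · obtain ⟨k, w, a1, a2, -, a3, -⟩ := OC.F9 (by omega) hS.toSylowTop
    rw [hS.coe_toSylowTop] at a2 a3
    refine ⟨k, a2, by rw [(key S hS).1, ← a1, Nat.add_sub_cancel, pow_orderOf_eq_one],
      fun x hx x1 y hy y1 => ?_⟩
    obtain ⟨c, hc, e⟩ := a3 x hx y hy x1 y1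
    obtain ⟨i, rfl⟩ := mem_powers_iff_mem_zpowers.2 hc
    exact ⟨i, e⟩
  · rw [oo k hk, mem_bot] at hx; simp [hx]
  · rw [oo k hk, mem_bot] at hx; exact absurd hx x1

theorem g12_odd (h3 : 3 < Fintype.card F) (h8 : Fintype.card F % 8 = 3 ∨ Fintype.card F % 8 = 5) :
    Good0 (L2 F) := by
  obtain ⟨p, n, m, k, e, ha, hF⟩ := exAr h3 h8
  have ho := j0_odd ha hF
  have hc := j0_card ha hF
  have sy : ∀ S : Subgroup (L2 F), Syl 2 S ⊤ → ∃ u v τ : L2 F, FG u v ∧ orderOf τ = 3 ∧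
      τ * u * τ⁻¹ = v ∧ τ * v * τ⁻¹ = u * v ∧ S = JR.V4 u v := fun S hS => by
    obtain ⟨u, v, τ, a1, a2, a3, a4⟩ := j0_a4 ho
    obtain ⟨g, -, e1⟩ := hS.exists_cj_eq (Q := JR.V4 u v) ⟨le_top, V4_two a1, fun d => by
      have := card_mul_relIndex (le_top : JR.V4 u v ≤ ⊤)
      rw [card_V4 a1, card_top, hc, mul_assoc, mul_assoc, Nat.mul_left_cancel_iff (by decide)] at this
      exact ((hF ▸ ho).mul (ha.odd.mul ha.facts.1)).not_two_dvd_nat (this ▸ d)⟩
    exact ⟨_, _, g * τ * g⁻¹, a1.cj g, (orderOf_cj _ _).trans a2, by rw [← a3]; group,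
      by rw [conj_mul (a := u), ← a4]; group, by rw [← e1, cj_V4]⟩
  have key : ∀ j : L2 F, orderOf j = 2 → ∃ R : Subgroup (L2 F), IsCyclic R ∧ ♯R = m ∧ Oo 𝐂[j] ≤ R ∧
      (∀ g, g * j = j * g → g * g ∈ R) ∧
      ∀ s, orderOf s = 2 → s ≠ j → s * j = j * s → ∀ x ∈ R, s * x * s⁻¹ = x⁻¹ := fun j hj => by
    obtain ⟨R, s, a1, a2, a3, -, -, -, a4, a5, a6⟩ := j0_R ha hF hj
    refine ⟨R, a1, a2, fun x hx => mem_of_sq_mem' (Nat.not_even_iff_odd.1 fun e =>
      (piNum_compl_singleton Nat.prime_two).1 ((core_piG _ _).piE hx) e.two_dvd)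
      (a6 x (mem_cent1_iff.1 (core_le _ _ hx))), a6, fun t ht ne c x hx => ?_⟩
    obtain ⟨r, hr, w, hw, e1⟩ := a5 t c
    have b : ∀ y ∈ R, y * w = w * y := fun y hy => by rcases hw with rfl | rfl <;> simp [a3 y hy]
    rcases e1 with rfl | rfl
    · have b1 : w * w = 1 := by rcases hw with rfl | rfl <;> simp [sq_of_two hj]
      have b2 := sq_of_two ht
      rw [mul_assoc, ← mul_assoc w, ← b r hr, mul_assoc, b1, mul_one] at b2
      rw [eq_one_of_odd (JR.odd_orderOf (a2 ▸ ha.odd) hr) b2, one_mul] at ht ne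
      exact absurd (hw.resolve_left (ne_one_of_two ht)) ne
    · calc _ = r * (w * (s * x * s⁻¹) * w⁻¹) * r⁻¹ := by group
        _ = _ := by rw [a4 x hx, ← b _ (inv_mem hx), mul_inv_cancel_right, mem_cent_iff.1
          (comm_iff_le_cent.1 (comm_of_isCyclic a1) (inv_mem hx)) r hr, mul_inv_cancel_right]
  refine ⟨fun S hS => ?_, fun S hS => ?_, fun S hS g hg => ?_, fun S hS => ?_, fun j hj => ?_,
    fun j s hj hs ne c x hx => ?_, fun S hS h4 => ?_, fun j hj x hx x1 g hg => ?_, fun S _ _ j hj => ?_⟩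
  · obtain ⟨u, v, τ, a1, -, -, -, rfl⟩ := sy S hS
    exact ⟨comm_iff_le_cent.2 (V4_comm a1), fun a h => by rw [sq, V4_sq a1 h]⟩
  · obtain ⟨u, v, τ, a1, -, -, -, rfl⟩ := sy S hS
    exact (card_V4 a1).ge
  · refine hS.le_of_le_normalizer (Q := zpowers g) (isPGroup_of_le (Y := zpowers g) le_rfl ?_) le_top
      (zpowers_le.2 (cent_le_norm _ hg)) (mem_zpowers g)
    obtain ⟨u, v, τ, a1, -, -, -, rfl⟩ := sy S hS
    obtain ⟨R, -, b1, -, b2, b3⟩ := key u a1.t2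
    rw [cent_V4] at hg
    have b4 := b2 g (mem_cent1_iff.1 hg.1)
    have b5 := b3 v a1.u2 a1.ne.symm a1.comm.symm _ b4
    rw [← mem_cent1_iff.1 (mul_mem hg.2 hg.2), mul_inv_cancel_right, eq_inv_iff_mul_eq_one] at b5
    exact (abelem_zpowers (by rw [sq, eq_one_of_odd (JR.odd_orderOf (b1 ▸ ha.odd) b4) b5])).isPGroup
  · obtain ⟨u, v, τ, a1, a2, a3, a4, rfl⟩ := sy S hS
    have a5 : τ * (u * v) * τ⁻¹ = u := by
      rw [← conj_mul, a3, a4, a1.comm, ← mul_assoc, a1.uu, one_mul]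
    have a6 : ∀ x, τ ^ 2 * x * (τ ^ 2)⁻¹ = τ * (τ * x * τ⁻¹) * τ⁻¹ := fun x => by rw [sq]; group
    refine ⟨τ, by rw [← cj_eq_iff_mem_normalizer, cj_V4, a3, a4, V4_symm u v, a1.comm, V4_mul],
      by rw [card_V4 a1]; exact orderOf_dvd_iff_pow_eq_one.1 a2.dvd, fun x hx x1 y hy y1 => ?_⟩
    rcases ((mem_V4 a1).1 hx).resolve_left x1 with rfl | rfl | rfl <;>
      rcases ((mem_V4 a1).1 hy).resolve_left y1 with rfl | rfl | rfl <;>
      first
      | (refine ⟨0, ?_⟩; simp; done)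
      | (refine ⟨1, ?_⟩; rw [pow_one]; assumption)
      | (refine ⟨2, ?_⟩; rw [a6]; simp only [a3, a4, a5])
  · obtain ⟨R, b1, -, b2, -⟩ := key j hj
    exact isCyclic_of_le' b2 b1
  · obtain ⟨R, -, -, b1, -, b2⟩ := key j hj
    exact b2 s hs ne c x (b1 hx)
  · obtain ⟨u, v, τ, a1, -, -, -, rfl⟩ := sy S hS
    rw [card_V4 a1] at h4; omega
  · obtain ⟨R, -, b1, b2, -⟩ := key j hj
    exact mem_cent1_iff.2 (MC.F1 (fun e => x1 (eq_one_of_odd (JR.odd_orderOf (b1 ▸ ha.odd) (b2 hx)) e))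
      (mem_cent1_iff.1 hg) (mem_cent1_iff.1 (core_le _ _ hx)).symm)
  · obtain ⟨R, -, b1, b2, -⟩ := key j hj
    obtain ⟨K, s, c1, c2, jK, -, -, sK, iv, ce⟩ := j0_inv ho hj
    have c3 : ♯K = 2 * m := (j0_tor ha hF c2).resolve_right fun e =>
      not_mem_of_odd (e ▸ ha.facts.1) hj jK
    have c4 := card_two (X := 𝐂[j]) (le_cent1_iff.2 (comm_iff_le_cent.1 (comm_of_isCyclic c1) jK))
      (mem_cent1_iff.2 (mul_inv_eq_iff_eq_mul.1 ((iv j jK).trans (inv_of_two hj)))) sK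
      fun g hg => ce g (mem_cent1_iff.1 hg)
    have c5 := (𝐂[j]).card_mul_index
    rw [c4, c3, hc, show 4 * p ^ n * m * k = 2 * (2 * m) * (p ^ n * k) by ring,
      Nat.mul_left_cancel_iff (by have := ha.odd.pos; omega)] at c5
    have c6 := card_le_of_le' b2
    have c7 := ha.hq
    have c8 := ha.facts.2.2.1
    have c9 := g12_idx j
    rw [hj, c5] at c9
    refine le_trans (Nat.mul_le_mul ?_ ?_) c9 <;> rcases ha.he with rfl | rfl <;> omega

end Cfsg.Agent.AG
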