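import Cfsg.Agent.AG.Del
import Cfsg.Agent.S4418

/-! Section A: general facts on A-groups (see `notes/s2554_plan.md`). -/

set_option autoImplicit false
set_option linter.unusedSectionVars false

namespace Cfsg.Agent.AG

open Subgroup Cfsg.Agent.FT
open scoped commutatorElement

universe u
variable {G : Type u} [Group G] [Finite G]

/-- `p`-subgroups are abelian -/
theorem IsA.comm (h : IsA G) {p : ℕ} [Fact p.Prime] {P : Subgroup G} (hP : IsPGroup p P) :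
    IsMulCommutative P := by
  obtain ⟨Q, e⟩ := hP.exists_le_sylow
  exact comm_iff_le_cent.2 (e.trans ((comm_iff_le_cent.1 (h p Fact.out Q)).trans (cent_anti e)))

theorem IsA.sub (h : IsA G) (H : Subgroup G) : IsA H := fun r hr P => by
  haveI := Fact.mk hr
  have := comm_iff_le_cent.1 (h.comm (P.isPGroup'.map H.subtype))
  exact comm_iff_le_cent.2 fun x hx => mem_cent_iff.2 fun y hy =>
    Subtype.ext (mem_cent_iff.1 (this (mem_map_of_mem _ hx)) _ (mem_map_of_mem _ hy))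

theorem IsA.of_surj {K : Type*} [Group K] (h : IsA G) (f : G →* K) (hf : Function.Surjective f) :
    IsA K := fun r hr P => by
  haveI := Fact.mk hr
  haveI := Finite.of_surjective f hf
  obtain ⟨Q, rfl⟩ := Sylow.mapSurjective_surjective hf r P
  haveI := h r hr Q
  exact map_isMulCommutative (Q : Subgroup G) f

theorem IsA.bar (h : IsA G) (N H : Subgroup G) : IsA (bar N H) := ((h.sub 𝐍(N)).of_surj (qmk N) (qmk_surjective N)).sub _

theorem IsA.quo (h : IsA G) (N : Subgroup G) : IsA (Quo N) := (h.sub 𝐍(N)).of_surj (qmk N) (qmk_surjective N)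

/-- two `p`-subgroups, one normalizing the other, commute -/
theorem IsA.le_cent (h : IsA G) {p : ℕ} [Fact p.Prime] {P Q : Subgroup G} (hP : IsPGroup p P)
    (hQ : IsPGroup p Q) (hn : P ≤ 𝐍(Q)) : P ≤ 𝐂(Q) :=   le_sup_left.trans ((comm_iff_le_cent.1 (h.comm (isPGroup_sup hP hQ hn))).trans (cent_anti le_sup_right))

/-- Burnside: control of fusion -/
theorem IsA.fusion (h : IsA G) {p : ℕ} [Fact p.Prime] {P X : Subgroup G} (hP : Syl p P X)
    {x g : G} (hx : x ∈ P) (hg : g ∈ X) (hy : g * x * g⁻¹ ∈ P) :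
    ∃ n ∈ X ⊓ 𝐍(P), n * x * n⁻¹ = g * x * g⁻¹ := hP.fusion_elt_of_comm (h.comm hP.isPGroup) x hx g hg hy

/-- Frattini argument for the normalizer of a subgroup of a Sylow subgroup -/
theorem IsA.norm_le (h : IsA G) {p : ℕ} [Fact p.Prime] {P X R : Subgroup G} (hP : Syl p P X)
    (hR : R ≤ P) : X ⊓ 𝐍(R) ≤ (X ⊓ 𝐂(R)) ⊔ (X ⊓ 𝐍(R) ⊓ 𝐍(P)) := fun g hg => by
  obtain ⟨a, ha, c, hc, rfl⟩ := hP.fusion_of_weaklyClosed le_rfl (comm_iff_le_cent.1 (h.comm hP.isPGroup))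
    (fun g _ h1 => eq_of_le_of_card_le h1 (card_cj _ _).ge) hR hg.1 ((cj_eq_iff_mem_normalizer.2 hg.2).le.trans hR)
  exact mul_mem (mem_sup_right ⟨⟨ha.1, (mul_mem_cancel_right (cent_le_norm R hc.2)).1 hg.2⟩, ha.2⟩) (mem_sup_left hc)

/-- transfer: `P ∩ X' = [P, N_X(P)]` meets `C_P(N_X(P))` trivially -/
theorem IsA.inf_der (h : IsA G) {p : ℕ} [Fact p.Prime] {P X : Subgroup G} (hP : Syl p P X) :
    P ⊓ ⁅X, X⁆ = ⁅P, X ⊓ 𝐍(P)⁆ ∧ ⁅P, X ⊓ 𝐍(P)⁆ ⊓ 𝐂(X ⊓ 𝐍(P)) = ⊥ := by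
  have c := h.comm hP.isPGroup
  have a : P ≤ X ⊓ 𝐍(P) := le_inf hP.le le_normalizer
  refine ⟨le_antisymm ((inf_comm P _).le.trans (hP.commutator_inf_le fun x hx g hg e => ?_))
    (le_inf (commutator_le_left' inf_le_right) (commutator_mono hP.le inf_le_left)), ?_⟩
  · obtain ⟨y, hy, he⟩ := h.fusion hP hx hg e
    simpa only [← he, commutatorElement_def, mul_assoc, inv_inv] using commutator_mem_commutator (P.inv_mem hx) hy
  · rw [inf_comm]; exact (H1.abelian_hall_decomp a inf_le_right c (hP.of_le a inf_le_left).coprime).1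

/-- `X' ∩ Z(X) = 1` -/
theorem IsA.der_inf_cent (h : IsA G) (X : Subgroup G) : ⁅X, X⁆ ⊓ 𝐂(X) = ⊥ := by
  by_contra e
  obtain ⟨p, hp, e1⟩ := exists_prime_dvd_card e
  haveI := Fact.mk hp
  obtain ⟨Q, q1, q2⟩ := exists_card_eq_prime hp e1
  obtain ⟨P, p1, p2⟩ := exists_syl_ge (isPGroup_of_card_prime q2) (q1.trans (inf_le_left.trans (der_le X)))
  exact ne_bot_of_card_prime hp q2 (le_bot_iff.1 (abelian_Sylow_der1_center p1 (h.comm p1.isPGroup) ▸
    le_inf (le_inf p2 (q1.trans inf_le_left)) (q1.trans inf_le_right)))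

/-- nilpotent subgroups are abelian -/
theorem IsA.comm_of_nil (h : IsA G) {P : Subgroup G} (hP : Group.IsNilpotent P) :
    IsMulCommutative P := comm_iff_der.2 (by_contra fun e =>
  inf_ctr_ne_bot hP (der_nrm P) e (h.der_inf_cent P))

/-- Burnside's normal `p`-complement theorem -/
theorem IsA.core_sup (h : IsA G) {p : ℕ} [Fact p.Prime] {P X : Subgroup G} (hP : Syl p P X)
    (hn : X ⊓ 𝐍(P) ≤ 𝐂(P)) : core {p}ᶜ X ⊔ P = X := ((Burnside_normal_complement hP hn).sdp hP).sup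

/-- `p`-length one -/
theorem IsA.plen (h : IsA G) {p : ℕ} [Fact p.Prime] {P X : Subgroup G} (hP : Syl p P X)
    (hs : Group.IsSolvable X) : core {p}ᶜ X ⊔ P ⊴ X := by
  have h1 := Syl.inf_of_nrm hP (core2_nrm {p}ᶜ {p} X)
  have h2 : P ≤ core2 {p}ᶜ {p} X := (le_inf hP.le ((comm_iff_le_cent.1 (h.comm hP.isPGroup)).trans
    (cent_anti inf_le_left))).trans (solvable_p_constrained hs h1)
  have := core2_nrm {p}ᶜ {p} X
  rwa [core2_eq_sup (Syl.hall hP), inf_of_le_left h2] at this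

theorem Sim.not_solvable (h : Sim G) : ¬ Group.IsSolvable G := fun e =>
  haveI := h.simple; h.na ⟨⟨IsSimpleGroup.comm_iff_isSolvable.2 e⟩⟩

theorem Sim.no_fix (h : Sim G) {p : ℕ} [Fact p.Prime] {P : Subgroup G} (hP : Syl p P ⊤) :
    P ⊓ 𝐂(𝐍(P)) = ⊥ := by
  haveI := h.simple
  obtain ⟨a, b⟩ := h.isA.inf_der hP
  have : ⁅(⊤ : Subgroup G), (⊤ : Subgroup G)⁆ = ⊤ := (Normal.eq_bot_or_eq_top inferInstance).resolve_left fun e =>
    h.na ⟨⟨fun x y => mem_cent_iff.1 (le_cent_iff_commutator.2 e (mem_top y)) x (mem_top x)⟩⟩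
  rwa [← a, this, inf_top_eq, top_inf_eq] at b

theorem Sim.norm_ne_top (h : Sim G) {R : Subgroup G} (h1 : R ≠ ⊥) (h2 : R ≠ ⊤) : 𝐍(R) ≠ ⊤ := fun e =>
  haveI := h.simple; (normalizer_eq_top_iff.1 e).eq_bot_or_eq_top.elim h1 h2

theorem Sim.cent_ne_top (h : Sim G) {x : G} (hx : x ≠ 1) : 𝐂[x] ≠ ⊤ := fun e => by
  rw [← cent_zpowers] at e
  refine h.norm_ne_top (zpowers_ne_bot.2 hx) (fun e1 => h.na ⟨⟨fun a b => ?_⟩⟩) (top_le_iff.1 (e ▸ cent_le_norm _))
  exact mem_cent_iff.1 (e.ge (mem_top b)) a (e1.ge (mem_top a))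

/-- a maximal subgroup is the normalizer of its nontrivial normal subgroups -/
theorem Sim.norm_eq (h : Sim G) {M R : Subgroup G} (hM : IsCoatom M) (h1 : R ≠ ⊥) (h2 : R ⊴ M) :
    𝐍(R) = M :=   ((hM.le_iff.1 h2.norm).resolve_left (h.norm_ne_top h1 fun e => hM.1 (top_le_iff.1 (e ▸ h2.le))))

/-- 2-rank at most 2 (S4418, S0219, odd order theorem) -/
theorem Sim.rk2 (h : Sim G) {S : Subgroup G} (hS : Syl 2 S ⊤) (h8 : ♯(om 2 S) < 8) :
    ♯S = 4 ∧ Abelem 2 S := by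
  classical
  have c := h.isA.comm hS.isPGroup
  obtain ⟨n, hn⟩ := (abelem_om (p := 2) c).isPGroup.exists_card_eq
  have n2 : n ≤ 2 := Nat.lt_succ_iff.1 ((Nat.pow_lt_pow_iff_right one_lt_two).1 (hn ▸ h8 : 2 ^ n < 2 ^ 3))
  have ex : ∀ y ∈ S, y ^ 2 = 1 := by
    by_contra! k
    exact h.not_solvable (S4418.abelian _ S rfl hS c (prank_le_iff.2 fun A hA a =>
      (card_le_of_le' (a.le_om hA)).trans (hn ▸ Nat.pow_le_pow_right two_pos n2)) k)
  rw [om_eq_self ex] at hn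
  refine ⟨?_, c, ex⟩
  interval_cases n
  · refine absurd (odd_order_solvable (Nat.odd_iff.2 ?_)) h.not_solvable
    have := hS.eq_bot_iff.1 (card_eq_one.1 hn)
    rw [card_top] at this; omega
  · have hp : (♯S).Prime := hn ▸ Nat.prime_two
    obtain ⟨x, x1, x2⟩ := exists_ne_one_of_ne_bot (ne_bot_of_card_prime Nat.prime_two hn)
    refine absurd ((h.no_fix hS).le ⟨x1, mem_cent_iff.2 fun g hg => ?_⟩) x2
    have e := conj_mem_of_mem_normalizer hg x1
    have o : orderOf x = 2 := orderOf_eq_prime (ex x x1) x2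
    rw [← eq_zpowers_of_card_prime hp x1 x2, mem_zpowers_iff_mem_range_orderOf, o] at e
    obtain ⟨i, i1, i2⟩ := Finset.mem_image.1 e
    rw [Finset.mem_range] at i1
    interval_cases i
    · exact absurd (by simpa using i2.symm) x2
    · exact mul_inv_eq_iff_eq_mul.1 (by simpa using i2.symm)
  · exact hn

/-- `Ω₁` of a `p`-subgroup -/
theorem IsA.mem_om (h : IsA G) {p : ℕ} [Fact p.Prime] {P : Subgroup G} (hP : IsPGroup p P) {x : G} :
    x ∈ om p P ↔ x ∈ P ∧ x ^ p = 1 := mem_om_of_comm (h.comm hP)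

theorem IsA.abelem_om (h : IsA G) {p : ℕ} [Fact p.Prime] {P : Subgroup G} (hP : IsPGroup p P) :
    Abelem p (om p P) := FT.abelem_om (h.comm hP)

/-- Goldschmidt's lemma for A-groups -/
theorem IsA.gold (h : IsA G) {A X Z : Subgroup G} (hA : Abelem 2 A) (hX : Odd ♯X)
    (hn : A ≤ 𝐍(X)) (hZ : X ⊓ 𝐂(A) ≤ 𝐍(Z))
    (hH : ∀ H : Subgroup G, H ≤ A → H.relIndex A = 2 → ⁅X ⊓ 𝐂(H), A⁆ ⊓ 𝐂(A) ≤ Z) :
    ⁅X, A⁆ ⊓ 𝐂(A) ≤ Z := by
  by_cases A0 : A = ⊥
  · simp [A0]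
  have pA := hA.isPGroup
  have y1 : ⁅X, A⁆ ≤ X := commutator_le_left' hn
  have y2 : ⁅⁅X, A⁆, A⁆ = ⁅X, A⁆ := H2.commutator_commutator_eq hn (cop2 pA hX)
  have y3 : A ≤ 𝐍(⁅X, A⁆) := right_le_normalizer_commutator _ _
  generalize ⁅X, A⁆ = Y at y1 y2 y3 ⊢
  have oY := odd_of_le y1 hX
  have n0 : Y ⊓ 𝐂(A) ⊓ Z ⊴ Y ⊓ 𝐂(A) := nrm_inf_of_le_normalizer ((inf_le_inf_right _ y1).trans hZ)
  suffices Y ⊓ 𝐂(A) ≤ ⁅Y ⊓ 𝐂(A), Y ⊓ 𝐂(A)⁆ ⊔ (Y ⊓ 𝐂(A) ⊓ Z) by
    rw [← bar_le_bar_iff n0.norm ((der_le _).trans n0.norm), bar_commutator n0.norm n0.norm] at this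
    exact ((bar_eq_bot_iff n0.norm).1 (by_contra fun e => (der_lt (isSolvable_bar (solv_of_odd
      (odd_of_le inf_le_left oY)) _) e).not_ge this)).trans inf_le_right
  generalize hY1 : ⁅Y ⊓ 𝐂(A), Y ⊓ 𝐂(A)⁆ ⊔ (Y ⊓ 𝐂(A) ⊓ Z) = Y1
  have y4 : Y1 ≤ Y ⊓ 𝐂(A) := hY1 ▸ sup_le (der_le _) inf_le_left
  refine le_of_forall_syl fun r _ hr => ?_
  obtain ⟨P, p1⟩ := exists_syl r (Y ⊓ 𝐂(A))
  obtain ⟨R, r1, r2, r3⟩ := exists_invariant_syl_ge y3 (cop2 pA oY) (.inr (solv_of_odd oY)) p1.isPGroup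
    (p1.le.trans inf_le_left) ((cent_symm (p1.le.trans inf_le_right)).trans (cent_le_norm _))
  refine ⟨P, p1, ?_⟩
  have oR := odd_of_le r1.le oY
  have cR := h.comm r1.isPGroup
  have a1 : (R ⊓ Y1) ⊔ ⁅R, A⁆ ≤ R := sup_le inf_le_left (commutator_le_left' r3)
  generalize hR0 : (R ⊓ Y1) ⊔ ⁅R, A⁆ = R0 at a1
  have a2 : R ≤ 𝐍(R0) := (nrm_of_comm cR a1).norm
  have a3 : ∀ D, ⁅R, D⁆ ≤ R0 → D ≤ unbar R0 𝐂(FT.bar R0 R) := fun D e => by
    have := le_normalizer_of_commutator_le ((commutator_mono a1 le_rfl).trans e)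
    rwa [le_unbar_iff this, bar_le_cent_iff this a2, commutator_comm]
  have a4 : Y ⊓ 𝐍(R) ≤ unbar R0 𝐂(FT.bar R0 R) := le_of_hyp hA A0 (odd_of_le inf_le_left oY)
    (H2.le_normalizer_inf y3 (r3.trans le_normalizer)) fun B b1 b2 => a3 _ (by
      have b3 := b1.trans r3
      have b4 : A ≤ 𝐍(𝐂(B)) := (nrm_of_comm hA.1 b1).norm.trans (H1.normalizer_le_normalizer_centralizer _)
      nth_rw 1 [← H2.centralizer_sup_commutator b3 (cop2 (pA.to_le b1) oR) (.inr (solv_of_odd oR))]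
      refine H2.commutator_sup_left_le (inf_le_left.trans a2) ((commutator_le_left' b3).trans a2) ?_
        ((commutator_le_left' (H2.le_normalizer_commutator (inf_le_left.trans inf_le_right)
          (inf_le_right.trans (cent_le_norm _)))).trans ((commutator_mono le_rfl b1).trans (hR0 ▸ le_sup_right)))
      have b5 := H2.le_normalizer_inf y3 b4
      have b6 := H2.centralizer_sup_commutator b5 (cop2 pA (odd_of_le inf_le_left oY))
        (.inr (solv_of_odd (odd_of_le inf_le_left oY)))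
      rw [inf_assoc, inf_of_le_right (cent_anti b1)] at b6
      have b7 := left_le_normalizer_commutator (Y ⊓ 𝐂(B)) A
      have b8 : Y ⊓ 𝐂(A) ≤ 𝐍(⁅Y ⊓ 𝐂(B), A⁆) := (inf_le_inf_left _ (cent_anti b1)).trans b7
      have b9 : ⁅Y ⊓ 𝐂(B), Y ⊓ 𝐂(B)⁆ ≤ ⁅Y ⊓ 𝐂(A), Y ⊓ 𝐂(A)⁆ ⊔ ⁅Y ⊓ 𝐂(B), A⁆ := by
        rw [← bar_le_bar_iff ((der_le _).trans b7) ((der_le _).trans b8), bar_commutator b7 b7,
          bar_commutator b8 b8, ← bar_sup_self b8, b6]
      intro x hx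
      have x1 : x ∈ R ⊓ 𝐂(B) := commutator_le_left' (H2.le_normalizer_inf (inf_le_left.trans inf_le_right)
        (inf_le_right.trans le_normalizer)) hx
      obtain ⟨c, c1, d, d1, rfl⟩ := H2.exists_centralizer_mul_commutator (H2.le_normalizer_inf r3 b4)
        (cop2 pA (odd_of_le inf_le_left oR)) (.inr (solv_of_odd (odd_of_le inf_le_left oR))) x1
      refine hR0 ▸ mul_mem (mem_sup_left ⟨c1.1.1, ?_⟩) (mem_sup_right (commutator_mono inf_le_left le_rfl d1))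
      have := (inf_sup_of_le (der_le _) (.inl ((der_le _).trans b8))).le ⟨⟨r1.le c1.1.1, c1.2⟩,
        (mul_mem_cancel_right (mem_sup_right (commutator_mono (inf_le_inf_right _ r1.le) le_rfl d1))).1
          (b9 (commutator_mono (inf_le_inf_right _ r1.le) (inf_le_inf_right _ inf_le_left) hx))⟩
      refine ((sup_le_sup_left (le_inf inf_le_left (le_trans ?_ (hH B b1 ?_))) _).trans hY1.le) this
      · exact le_inf (inf_le_right.trans (commutator_mono (inf_le_inf_right _ y1) le_rfl))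
          (inf_le_left.trans inf_le_right)
      · exact Nat.eq_of_mul_eq_mul_left (card_pos' B) ((card_mul_relIndex b1).trans b2))
  have a5 : Syl r R (A ⊔ Y) := r1.trans le_sup_right fun e => by
    rw [relIndex_sup_of_le_normalizer y3] at e
    obtain ⟨n, hn⟩ := pA.exists_card_eq
    obtain rfl := (Nat.prime_dvd_prime_iff_eq Fact.out Nat.prime_two).1
      ((Fact.out : r.Prime).dvd_of_dvd_pow (hn ▸ e.trans (relIndex_dvd_card' _ _)))
    exact (odd_of_le inf_le_left oY).not_two_dvd_nat hr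
  have a6 : (A ⊔ Y) ⊓ 𝐍(R) ≤ unbar R0 𝐂(FT.bar R0 R) := by
    rw [inf_comm, inf_sup_of_le r3 (.inl y3), inf_comm]
    exact sup_le (a3 _ (hR0 ▸ le_sup_right)) a4
  have a7 : R ≤ R0 := by
    have b1 := a6.trans (unbar_le _)
    rw [le_unbar_iff b1, bar_le_cent_iff b1 a2, commutator_comm, ← (h.inf_der a5).1] at a6
    exact (le_inf le_rfl (r1.le.trans (y2.ge.trans (commutator_mono le_sup_right le_sup_left)))).trans a6
  intro x hx
  have := (inf_sup_of_le (inf_le_right.trans (y4.trans inf_le_right)) (.inl (inf_le_left.trans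
    (left_le_normalizer_commutator R A)))).le ⟨(p1.le hx).2, hR0.ge (a7 (r2 hx))⟩
  rw [H2.centralizer_inf_commutator_eq_bot r3 (cop2 pA oR) cR, sup_bot_eq] at this
  exact this.2

end Cfsg.Agent.AG
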