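import Cfsg.Agent.AG.IA
import Cfsg.Agent.BS.Bender
import Cfsg.Agent.MC.BA
import Cfsg.Agent.JR.Iso2

/-! Section B: strongly embedded subgroups (see `notes/s2554_plan.md`). -/

set_option autoImplicit false
set_option linter.unusedSectionVars false

namespace Cfsg.Agent.AG

open Subgroup Cfsg.Agent.FT
open scoped commutatorElement

universe u
variable {G : Type u} [Group G] [Finite G]

theorem Sim.se_l2e (h : Sim G) {S : Subgroup G} (hS : Syl 2 S ⊤) (hse : SE S) : MC.L2e G := by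
  obtain ⟨M, h1, h2, h3⟩ := hse
  haveI := h.simple
  have h4 := comm_iff_le_cent.1 (h.isA.comm hS.isPGroup)
  refine MC.BA (by_contra fun e => h.na ⟨⟨by simpa using e⟩⟩) hS.toSylowTop h1 ?_ ?_ (.inl ?_) <;>
    rw [hS.coe_toSylowTop]
  exacts [h2, h3, fun a ha b hb => mem_cent_iff.1 (h4 hb) a ha]

theorem b_l2e (h : MC.L2e G) {S : Subgroup G} (hS : Syl 2 S ⊤) :
    (∀ y ∈ S, y ≠ 1 → 𝐂[y] ≤ S) ∧ (𝐍(S)).index = ♯S + 1 := by
  obtain ⟨F, _, _, _, -, ⟨e⟩⟩ := h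
  have hS' : Syl 2 (S.map e.toMonoidHom) ⊤ := map_top_of_surjective e.toMonoidHom e.surjective ▸ hS.map _
  obtain ⟨θ, h1, -, h3, -, -, h4⟩ := MC.F4 hS'.toSylowTop
  rw [hS'.coe_toSylowTop] at h1 h3 h4
  refine ⟨fun y hy y1 g hg => (mem_map_iff_mem (f := e.toMonoidHom) e.injective).1
    ((h3 _ (mem_map_of_mem _ hy) (by simpa using y1)).le (mem_cent1_iff.2 ?_)), ?_⟩
  · rw [← map_mul, ← map_mul, mem_cent1_iff.1 hg]
  · rw [← map_equiv_normalizer_eq, index_map_of_bijective (f := e.toMonoidHom) e.bijective] at h4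
    rw [h4, ← Nat.card_eq_fintype_card, ← Nat.card_congr (h1.equiv.trans (Equiv.Set.univ F))]
    exact congrArg (· + 1) (card_map_of_injective e.injective)

theorem Sim.se_lt (h : Sim G) {S : Subgroup G} (hS : Syl 2 S ⊤) (hse : SE S) : LT G := by
  obtain ⟨F, _, _, _, h4, ⟨e⟩⟩ := h.se_l2e hS hse
  obtain ⟨⟨n, hn⟩, -, e1⟩ := FiniteField.card F 2
  by_cases h3 : 3 ≤ n
  · exact ⟨F, _, _, by omega, .inl (Nat.mod_eq_zero_of_dvd (e1 ▸ pow_dvd_pow 2 h3)), ⟨e⟩⟩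
  have e2 : Fintype.card F = 4 := by
    have : n = 1 ∨ n = 2 := by omega
    rcases this with rfl | rfl <;> simp at e1 <;> omega
  haveI := (MC.F0_simple h4).1
  haveI := Fact.mk Nat.prime_five
  have hc := MC.F0_card (F := F)
  obtain ⟨Q⟩ : Nonempty (Sylow 2 (MC.L2 F)) := inferInstance
  obtain ⟨-, -, -, -, -, -, h5⟩ := MC.F4 Q
  rw [e2] at hc h5
  obtain ⟨a⟩ := JR.iso60 ((one_mul _).symm.trans hc) h5
  obtain ⟨b⟩ := JR.iso_A5 (ZMod.card 5)
  exact ⟨ZMod 5, inferInstance, inferInstance, by simp, by simp, ⟨(e.trans a).trans b.symm⟩⟩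

theorem Sim.se_struct (h : Sim G) {S : Subgroup G} (hS : Syl 2 S ⊤) (hse : SE S) :
    (∀ k : G, orderOf k = 2 → IsPGroup 2 𝐂[k]) ∧ (𝐍(S)).index = ♯S + 1 := by
  have h1 := h.se_l2e hS hse
  refine ⟨fun k hk => ?_, (b_l2e h1 hS).2⟩
  obtain ⟨P, hP, h2⟩ := exists_syl_ge (isPGroup_of_card_prime (X := zpowers k) (p := 2)
    (by rw [Nat.card_zpowers, hk])) le_top
  exact isPGroup_of_le ((b_l2e h1 hP).1 k (h2 (mem_zpowers k)) (JR.ne_one_of_two hk)) hP.isPGroup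

end Cfsg.Agent.AG
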