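import Cfsg.Agent.AG.IA
import Cfsg.Agent.AG.G12

/-! Section G1: the groups `PSL₂(2ⁿ)` (see `notes/s2554_plan.md`). -/

set_option autoImplicit false
set_option linter.unusedSectionVars false

namespace Cfsg.Agent.AG

open Subgroup Cfsg.Agent.FT
open scoped commutatorElement

universe u
variable {G : Type u} [Group G] [Finite G]

theorem good0_even (h : Sim G) (F : Type) [Field F] [Fintype F] (h8 : Fintype.card F % 8 = 0)
    (e : G ≃* Matrix.ProjectiveSpecialLinearGroup (Fin 2) F) : Good0 G := Good0.of_equiv e (g12_even h8)

end Cfsg.Agent.AG
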