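import Cfsg.Agent.AG.IB
import Cfsg.Agent.AG.IG1
import Cfsg.Agent.AG.IG2
import Cfsg.Agent.H8.J1C

/-! Section G3: Janko type, and the abstract properties (see `notes/s2554_plan.md`). -/

set_option autoImplicit false
set_option linter.unusedSectionVars false

namespace Cfsg.Agent.AG

open Subgroup Cfsg.Agent.FT
open scoped commutatorElement

universe u
variable {G : Type u} [Group G] [Finite G]

theorem g3_q : ∀ m : H8.J1.Q, m ≠ 1 → ∃ k : H8.J1.Q, ∃ i : Fin 3,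
    m * (k⁻¹ * m ^ i.1 * k) * (m * (k⁻¹ * m ^ i.1 * k)) = 1 ∧ m * (k⁻¹ * m ^ i.1 * k) ≠ 1 := by
  decide +kernel

theorem g3_sq {t : G} (h : orderOf t = 2) : t * t = 1 := by
  rw [← pow_two, ← h, pow_orderOf_eq_one]

theorem g3_ne {t : G} (h : orderOf t = 2) : t ≠ 1 := by rintro rfl; simp at h

theorem g3_two {t : G} (h : orderOf t = 2) : IsPGroup 2 (zpowers t) :=
  IsPGroup.of_card (n := 1) (by rw [Nat.card_zpowers, h, pow_one])

theorem g3_oo {ι : H8.J1.Q →* G} (B : H8.J1.Base ι) : Oo 𝐂[ι H8.J1.z0] = ⊥ := by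
  haveI : Fact (Nat.Prime 2) := ⟨Nat.prime_two⟩
  rw [eq_bot_iff]
  intro x hx
  by_contra h1
  have hn := core_nrm ({2}ᶜ : Set ℕ) 𝐂[ι H8.J1.z0]
  obtain ⟨m, rfl⟩ := B.cent x (mem_cent1_iff.1 (hn.le hx))
  obtain ⟨k, i, e1, e2⟩ := g3_q m fun e => h1 (by rw [e, map_one]; exact one_mem _)
  have hk : (ι k)⁻¹ ∈ 𝐂[ι H8.J1.z0] := inv_mem (mem_cent1_iff.2 (by
    rw [← map_mul, ← map_mul, H8.J1.q_z]))
  have hy : ι (m * (k⁻¹ * m ^ i.1 * k)) ∈ Oo 𝐂[ι H8.J1.z0] := by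
    have := hn.conj_mem hk (pow_mem hx i.1)
    rw [inv_inv] at this
    rw [map_mul, map_mul, map_mul, map_inv, map_pow]
    exact mul_mem hx this
  have o2 : orderOf (ι (m * (k⁻¹ * m ^ i.1 * k))) = 2 :=
    orderOf_eq_prime (by rw [pow_two, ← map_mul, e1, map_one]) (by
      rw [← map_one ι]; exact B.ne e2)
  exact piG_compl_singleton.1 (core_piG _ _) (o2 ▸ orderOf_dvd_card' hy)

theorem good0_jt (h : Sim G) (hj : JT G) : Good0 G := by
  haveI : Fact (Nat.Prime 2) := ⟨Nat.prime_two⟩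
  haveI := h.simple
  obtain ⟨t, ht, ⟨e⟩⟩ := hj
  obtain ⟨P, hP⟩ := (g3_two ht).exists_le_sylow
  obtain ⟨κ, B, h16⟩ := H8.J1.exists_base ht ⟨P, hP (mem_zpowers t), fun x hx =>
    mem_cent_iff.1 (comm_iff_le_cent.1 (h.isA 2 Nat.prime_two P) (hP (mem_zpowers t))) x hx⟩ e
  obtain ⟨ι, s, J⟩ := H8.J1.exists_JH B h16
  have s0 : Syl 2 (H8.J1.S0.map ι) ⊤ := ⟨le_top, H8.J1.isPGroup_S J.toBase, by
    rw [relIndex_top_right]; exact H8.J1.index_S_odd J.toBase J.h16⟩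
  have c0 : ♯(H8.J1.S0.map ι) = 8 := by rw [H8.J1.card_map_Q J.toBase, H8.J1.card_S0]
  have c8 : ∀ S : Subgroup G, Syl 2 S ⊤ → ♯S = 8 := fun S hS => (hS.card_eq s0).trans c0
  have o : ∀ k : G, orderOf k = 2 → Oo 𝐂[k] = ⊥ := fun k hk => by
    obtain ⟨g, rfl⟩ := J.conj_t (g3_sq hk) (g3_ne hk)
    have := cj_cent1 g⁻¹ (ι H8.J1.z0)
    rw [inv_inv] at this
    rw [← this, Oo, ← cj_core]
    exact H1.cj_eq_bot_iff.2 (g3_oo J.toBase)
  have zS : H8.J1.inS H8.J1.z0 := by decide +kernel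
  have aS : H8.J1.inS H8.J1.a0 := rfl
  refine ⟨fun S hS => ⟨comm_iff_le_cent.2 fun x hx => mem_cent_iff.2 fun y hy =>
    (J.two_comm hS.isPGroup hy hx).2, fun x hx => ?_⟩, fun S hS => by rw [c8 S hS]; norm_num,
    fun S hS => ?_, fun S hS => ?_, fun k hk => ?_, fun k u hk _ _ _ x hx => ?_,
    fun _ _ _ k hk => o k hk, fun k hk x hx x1 => ?_, fun S hS h4 => ?_⟩
  · rw [pow_two]; exact (J.two_comm hS.isPGroup hx hx).1
  · obtain ⟨g, -, rfl⟩ := hS.exists_cj_eq s0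
    rw [← H1.cj_centralizer]
    refine H1.cj_mono g fun x hx => ?_
    obtain ⟨k, hk, rfl⟩ := J.toBase.centS (g := x) (mem_cent_iff.1 hx _ ⟨_, zS, rfl⟩).symm
      (mem_cent_iff.1 hx _ ⟨_, aS, rfl⟩).symm
    exact ⟨k, hk, rfl⟩
  · rw [c8 S hS]
    obtain ⟨g, -, rfl⟩ := hS.exists_cj_eq s0
    have s7 : s ^ 7 = 1 := J.toBase.pow_seven J.acts
    refine ⟨g * s⁻¹ * g⁻¹, ?_, ?_, fun x hx x1 y hy y1 => ?_⟩
    · rw [← H1.cj_normalizer]
      exact H1.conj_mem_cj (inv_mem J.s_mem)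
    · rw [conj_pow, inv_pow, s7]; simp
    obtain ⟨m, hm, e1⟩ := H1.mem_cj.1 hx
    obtain ⟨n, hn, e2⟩ := H1.mem_cj.1 hy
    obtain ⟨i, rfl⟩ := H8.J1.q_tftr m hm (by
      rintro rfl
      rw [map_one] at e1
      exact x1 (by simpa [mul_eq_one_iff_eq_inv, mul_assoc] using e1.symm))
    obtain ⟨j, rfl⟩ := H8.J1.q_tftr n hn (by
      rintro rfl
      rw [map_one] at e2
      exact y1 (by simpa [mul_eq_one_iff_eq_inv, mul_assoc] using e2.symm))
    have a1 := J.acts.pow i.1 _ zS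
    have a2 := J.acts.pow j.1 _ zS
    rw [e1] at a1
    rw [e2] at a2
    refine ⟨j.1 + (7 - i.1), ?_⟩
    have b : s ^ (j.1 + (7 - i.1)) = (s ^ i.1)⁻¹ * s ^ j.1 := by
      rw [eq_inv_mul_iff_mul_eq, ← pow_add, show i.1 + (j.1 + (7 - i.1)) = j.1 + 7 by omega,
        pow_add, s7, mul_one]
    have x' : x = g * ((s ^ i.1)⁻¹ * ι H8.J1.z0 * s ^ i.1) * g⁻¹ := by rw [a1]; group
    have y' : y = g * ((s ^ j.1)⁻¹ * ι H8.J1.z0 * s ^ j.1) * g⁻¹ := by rw [a2]; group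
    rw [conj_pow, inv_pow, b, x', y']
    group
  · rw [o k hk]; infer_instance
  · rw [o k hk, mem_bot] at hx
    rw [hx]; simp
  · rw [o k hk, mem_bot] at hx
    exact absurd hx x1
  · rw [c8 S hS] at h4
    norm_num at h4

/-- an automorphism of odd order whose square moves `g` inside `g N` does so itself -/
theorem g3_fix {α : MulAut G} (hα : Odd (orderOf α)) {N : Subgroup G} (hN : ∀ x ∈ N, α x = x)
    {g : G} (h : g⁻¹ * α (α g) ∈ N) : g⁻¹ * α g ∈ N := by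
  have f : ∀ j : ℕ, ∀ x ∈ N, (α ^ j) x = x := fun j x hx => by
    induction j with
    | zero => rfl
    | succ j ih => rw [pow_succ, MulAut.mul_apply, hN x hx, ih]
  have k : ∀ j : ℕ, g⁻¹ * (α ^ (2 * j)) g ∈ N := fun j => by
    induction j with
    | zero => simp
    | succ j ih =>
      have : α (α g) = g * (g⁻¹ * α (α g)) := by group
      rw [mul_add, pow_add, mul_one, MulAut.mul_apply, pow_two α, MulAut.mul_apply, this, map_mul,
        f _ _ h, ← mul_assoc]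
      exact mul_mem ih h
  obtain ⟨r, hr⟩ := hα
  have := k (r + 1)
  rwa [show 2 * (r + 1) = orderOf α + 1 by omega, pow_succ, pow_orderOf_eq_one, one_mul] at this

theorem Good0.se (h0 : Good0 G) {S M : Subgroup G} (hS : Syl 2 S ⊤) {k : G} (kS : k ∈ S)
    (hk : orderOf k = 2) (h1 : 𝐍(S) ≤ M) (h2 : 𝐂[k] ≤ M) (h3 : M ≠ ⊤) : SE S := by
  refine ⟨M, h3, h1, fun a aS ha => ?_⟩
  obtain ⟨τ, t1, -, t2⟩ := h0.sing S hS
  obtain ⟨i, rfl⟩ := t2 k kS (g3_ne hk) a aS (g3_ne ha)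
  rw [← cj_cent1]
  exact H1.cj_le_of_le (h1 (pow_mem t1 i)) h2

theorem Good0.good (h : Sim G) (h0 : Good0 G) : Good G := by
  haveI : Fact (Nat.Prime 2) := ⟨Nat.prime_two⟩
  haveI := h.simple
  refine ⟨h0, fun S k hS kS hk ho => ?_, fun α k hk hα hC => ?_⟩
  · by_contra hM
    refine ho (core_eq_bot ?_)
    rw [compl_compl]
    exact piG_singleton_iff.2
      ((h.se_struct hS (h0.se hS kS hk le_sup_left le_sup_right hM)).1 k hk)
  obtain ⟨S, hS, kS⟩ := exists_syl_ge (g3_two hk) le_top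
  replace kS := kS (mem_zpowers k)
  have eS := h0.elem S hS
  have sq : ∀ c ∈ S, c * c = 1 := fun c hc => by rw [← pow_two]; exact eS.2 c hc
  have fS : ∀ c ∈ S, α c = c := fun c hc => hC c (le_cent1_iff.2 (eS.le_cent kS) hc)
  have fN : ∀ n ∈ 𝐍(S), α n = n := fun n hn => by
    have c : n⁻¹ * α n ∈ S := h0.selfc S hS (mem_cent_iff.2 fun a ha => by
      have := fS _ (H1.conj_mem_of_mem_normalizer hn ha)
      rw [map_mul, map_mul, map_inv, fS a ha] at this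
      calc a * (n⁻¹ * α n) = n⁻¹ * (n * a * n⁻¹) * α n := by group
        _ = n⁻¹ * α n * a := by rw [← this]; group)
    have d : n⁻¹ * α (α n) ∈ (⊥ : Subgroup G) := by
      have e : α n = n * (n⁻¹ * α n) := by group
      rw [mem_bot, e, map_mul, fS _ c, ← mul_assoc, sq _ c]
    have := g3_fix hα (fun x hx => by rw [mem_bot.1 hx, map_one]) d
    exact (inv_mul_eq_one.1 (mem_bot.1 this)).symm
  by_cases hF : α.toMonoidHom.eqLocus (MonoidHom.id G) = ⊤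
  · ext x
    exact (hF ▸ mem_top x : x ∈ α.toMonoidHom.eqLocus (MonoidHom.id G))
  obtain ⟨c2, ix⟩ := h.se_struct hS (h0.se hS kS hk fN hC hF)
  have cS : ∀ a ∈ S, a ≠ 1 → 𝐂[a] = S := fun a ha a1 =>
    hS.eq_of_le (c2 a (eS.orderOf_eq ha a1)) (le_cent1_iff.2 (eS.le_cent ha)) le_top
  have key : ∀ g : G, g⁻¹ * α g ∈ 𝐍(S) := fun g => by
    by_cases hg : g ∈ 𝐍(S)
    · rw [fN g hg, inv_mul_cancel]; exact one_mem _
    let f : Option S → G ⧸ 𝐍(S) := fun o => o.elim ((1 : G) : G ⧸ 𝐍(S))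
      fun s => ((s * g : G) : G ⧸ 𝐍(S))
    have n1 : ∀ s : S, ((1 : G) : G ⧸ 𝐍(S)) ≠ ((s * g : G) : G ⧸ 𝐍(S)) := fun s e => by
      rw [QuotientGroup.eq, inv_one, one_mul] at e
      exact hg ((mul_mem_cancel_left (le_normalizer s.2)).1 e)
    have fi : Function.Injective f := by
      rintro (_ | s) (_ | u) e
      · rfl
      · exact absurd e (n1 u)
      · exact absurd e.symm (n1 s)
      · have e' : ((s * g : G) : G ⧸ 𝐍(S)) = ((u * g : G) : G ⧸ 𝐍(S)) := e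
        rw [QuotientGroup.eq] at e'
        by_contra ne
        have aS : (s : G)⁻¹ * u ∈ S := mul_mem (inv_mem s.2) u.2
        have a1 : (s : G)⁻¹ * u ≠ 1 := fun e => ne (congrArg some (Subtype.ext (inv_mul_eq_one.1 e)))
        have b : ((s : G) * g)⁻¹ * (u * g) = g⁻¹ * ((s : G)⁻¹ * u) * g⁻¹⁻¹ := by group
        rw [b] at e'
        have o2 : orderOf (g⁻¹ * ((s : G)⁻¹ * u) * g⁻¹⁻¹) = 2 := by
          rw [← eS.orderOf_eq aS a1]
          exact (MulAut.conj g⁻¹).orderOf_eq _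
        have bS := hS.le_of_le_normalizer (g3_two o2) le_top (zpowers_le.2 e') (mem_zpowers _)
        have := cj_cent1 g⁻¹ ((s : G)⁻¹ * u)
        rw [cS _ aS a1, cS _ bS (g3_ne o2)] at this
        exact hg (inv_mem_iff.1 (H1.cj_eq_iff_mem_normalizer.1 this))
    have fs := (fi.bijective_of_nat_card_le (by
      rw [← index_eq_card, ix, Finite.card_option])).2
    rcases fs ((α g : G) : G ⧸ 𝐍(S)) with ⟨_ | s, e⟩
    · have e' : ((1 : G) : G ⧸ 𝐍(S)) = ((α g : G) : G ⧸ 𝐍(S)) := e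
      rw [QuotientGroup.eq, inv_one, one_mul] at e'
      exact absurd (α.injective (fN _ e') ▸ e') hg
    · have e' : ((s * g : G) : G ⧸ 𝐍(S)) = ((α g : G) : G ⧸ 𝐍(S)) := e
      rw [QuotientGroup.eq] at e'
      refine g3_fix hα fN ?_
      have a : α g = s * g * (((s : G) * g)⁻¹ * α g) := by group
      generalize ((s : G) * g)⁻¹ * α g = n at e' a
      have b : α (α g) = g * (n * n) := by
        rw [a, map_mul, map_mul, fS _ s.2, fN _ e', a, ← mul_assoc, ← mul_assoc, sq _ s.2]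
        group
      rw [b, inv_mul_cancel_left]
      exact mul_mem e' e'
  have nc : (𝐍(S)).normalCore = ⊥ := (h.simple.eq_bot_or_eq_top_of_normal _ inferInstance).resolve_right fun e => by
    have : 𝐍(S) = ⊤ := top_le_iff.1 (e ▸ normalCore_le _)
    rw [this, index_top] at ix
    have := card_pos' S
    omega
  ext g
  have : g⁻¹ * α g ∈ (𝐍(S)).normalCore := fun b => by
    have e : b * (g⁻¹ * α g) * b⁻¹ = (g * b⁻¹)⁻¹ * α (g * b⁻¹) * ((b⁻¹)⁻¹ * α b⁻¹)⁻¹ := by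
      rw [map_mul]; group
    rw [e]
    exact mul_mem (key _) (inv_mem (key _))
  rw [nc, mem_bot, inv_mul_eq_one] at this
  exact this.symm

theorem Sim.good (h : Sim G) (hk : Kn G) : Good G := by
  refine Good0.good h ?_
  rcases hk with hj | ⟨F, _, _, h3, h8 | h8, ⟨e⟩⟩
  · exact good0_jt h hj
  · exact good0_even h F h8 e
  · exact good0_odd h F h3 h8 e

end Cfsg.Agent.AG
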