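import Cfsg.Agent.AG.IA
import Cfsg.Agent.JR.Iso

/-! Section I: identification of `J₁` (see `notes/s2554_plan.md`). -/

set_option autoImplicit false
set_option linter.unusedSectionVars false

namespace Cfsg.Agent.AG

open Subgroup Cfsg.Agent.FT
open scoped commutatorElement

universe u
variable {G : Type u} [Group G] [Finite G]

theorem isoJ1 (h : Sim G) (hj : JT G) : Cfsg.Spor.IsoJ1 G := by
  obtain ⟨t, ht, ⟨e⟩⟩ := hj
  haveI := h.simple
  exact JR.isoJ1 h.isA ht e

end Cfsg.Agent.AG
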