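import Cfsg.Agent.AG.IS3
import Cfsg.Agent.AG.IL

/-! Section Ja: the Janko-Ree case, basic facts and balance (see `notes/s2554_plan.md`). -/

set_option autoImplicit false
set_option linter.unusedSectionVars false

namespace Cfsg.Agent.AG

open Subgroup Cfsg.Agent.FT
open scoped commutatorElement

universe u
variable {G : Type u} [Group G] [Finite G]

/-- the Janko-Ree situation -/
structure J8 (S : Subgroup G) : Prop where
  min : Min G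
  syl : Syl 2 S ⊤
  card : ♯S = 8
  elem : Abelem 2 S
  blk : ∃ β β', Blk S β β'

variable {S : Subgroup G}

theorem J8.syl_of_le (h : J8 S) {X : Subgroup G} (hX : S ≤ X) : Syl 2 S X := h.syl.of_le hX le_top

theorem J8.syl_cent (h : J8 S) {a : G} (ha : a ∈ S) : Syl 2 S 𝐂[a] :=
  h.syl_of_le (h.elem.le_cent.trans (cent_le_cent1 ha))

theorem J8.blk_card (h : J8 S) {a : G} (ha : a ∈ S) (ha1 : a ≠ 1) {L : Subgroup G} (hL : Cmp 𝐂[a] L) :
    ♯(S ⊓ L : Subgroup G) = 4 ∧ S ⊓ cm 𝐂[a] L = zpowers a := by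
  obtain ⟨τ, -, k⟩ := hL.sing h.min (h.min.sim.cent_ne_top ha1) (h.syl_cent ha)
  have k2 : zpowers a ≤ S ⊓ cm 𝐂[a] L := zpowers_le.2 ⟨ha, (mem_cm hL.le).2 ⟨mem_cent1_self a, fun l hl => by
    rw [← mem_cent1_iff.1 (hL.le hl)]; simp⟩⟩
  have k3 := card_le_of_le' k2
  have a2 := h.elem.orderOf_eq ha ha1
  rw [Nat.card_zpowers, a2] at k3
  have k4 := card_sup_of_inf_eq_bot (k.le'.trans (h.elem.le_cent.trans
    ((cent_anti k.le).trans (cent_le_norm _)))) k.inf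
  rw [k.sup, h.card] at k4
  have := k.four
  exact ⟨by nlinarith, (eq_of_le_of_card_le k2 (by rw [Nat.card_zpowers, a2]; nlinarith)).symm⟩

theorem J8.trans (h : J8 S) {a b : G} (ha : a ∈ S) (ha1 : a ≠ 1) (hb : b ∈ S) (hb1 : b ≠ 1) :
    ∃ n ∈ 𝐍(S), n * a * n⁻¹ = b := by
  obtain ⟨β, β', c, L, hc, c2, hL, -, -⟩ := h.blk
  have c1 : c ≠ 1 := by rintro rfl; simp at c2
  obtain ⟨τ, -, k⟩ := hL.sing h.min (h.min.sim.cent_ne_top c1) (h.syl_cent hc)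
  rw [(h.blk_card hc c1 hL).2] at k
  rcases k.mem_FF_or h.min.sim.isA h.syl with h1 | ⟨-, ε, -, W, W', hε, h8, -, -⟩
  · have := (k.four_le h.min.sim h.syl h1 (by simpa using c1)).trans (card_le_of_le' (om_le 2 _))
    rw [Nat.card_zpowers, c2] at this
    omega
  · have e : W = S := eq_of_le_of_card_le hε.le (by rw [h8, h.card])
    obtain ⟨i, hi⟩ := hε.tr a (e ▸ ha) ha1 b (e ▸ hb) hb1
    exact ⟨_, pow_mem hε.nS i, hi⟩

/-- the component of `C(a)` -/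
theorem J8.cmp (h : J8 S) {a : G} (ha : a ∈ S) (ha1 : a ≠ 1) : ∃ L, Cmp 𝐂[a] L ∧ ♯(S ⊓ L) = 4 ∧
    S ⊓ cm 𝐂[a] L = zpowers a ∧ L ⊴ 𝐂[a] ∧ (∀ L', Cmp 𝐂[a] L' → L' = L) ∧
    cm 𝐂[a] L = Oo 𝐂[a] ⊔ zpowers a := by
  obtain ⟨L, hL⟩ : ∃ L, Cmp 𝐂[a] L := by
    obtain ⟨β, β', c, L, hc, c2, hL, -, -⟩ := h.blk
    obtain ⟨n, -, rfl⟩ := h.trans hc (by rintro rfl; simp at c2) ha ha1
    exact ⟨_, cj_cent1 n c ▸ hL.cj n⟩
  obtain ⟨k1, k2⟩ := h.blk_card ha ha1 hL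
  have u : ∀ L', Cmp 𝐂[a] L' → L' = L := fun L' hL' => by
    obtain ⟨x, hx, x1⟩ := exists_ne_one_of_ne_bot (H := (S ⊓ L') ⊓ (S ⊓ L)) fun e => by
      have k4 := card_sup_of_inf_eq_bot (inf_le_left.trans (h.elem.le_cent.trans
        ((cent_anti inf_le_left).trans (cent_le_norm _)))) e
      have k5 := card_le_of_le' (sup_le (inf_le_left : S ⊓ L' ≤ S) (inf_le_left : S ⊓ L ≤ S))
      rw [k4, k1, (h.blk_card ha ha1 hL').1, h.card] at k5
      omega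
    exact hL'.eq_of_inf hL hx.1.2 hx.2.2 (h.elem.orderOf_eq hx.1.1 x1)
  have n : L ⊴ 𝐂[a] := ⟨hL.le, fun g hg =>
    cj_eq_iff_mem_normalizer.1 (u _ (hL.cj_of_mem (le_normalizer hg)))⟩
  refine ⟨L, hL, k1, k2, n, u, le_antisymm ?_ (sup_le (oo_le_cm hL.le) (k2.ge.trans inf_le_right))⟩
  have m : cm 𝐂[a] L ⊴ 𝐂[a] := ⟨cm_le _ _, (le_inf le_normalizer n.norm).trans (le_norm_cm hL.le)⟩
  have s := Syl.inf_of_nrm (h.syl_cent ha) m
  rw [k2] at s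
  have := h.min.sim.isA.core_sup s (by rw [cent_zpowers]; exact inf_le_left.trans m.le)
  exact this.ge.trans (sup_le_sup_right (core_le_core_of_nrm m) _)

end Cfsg.Agent.AG
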