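import Cfsg.Agent.AG.Jb1

/-! Section Jb: the Janko-Ree case, the signalizer functor (see `notes/s2554_plan.md`). -/

set_option autoImplicit false
set_option linter.unusedSectionVars false

namespace Cfsg.Agent.AG

open Subgroup Cfsg.Agent.FT
open scoped commutatorElement

universe u
variable {G : Type u} [Group G] [Finite G]

variable {S : Subgroup G}

theorem J8.se_or (h : J8 S) : SE S ∨ ∀ a ∈ S, a ≠ 1 → Oo 𝐂[a] = ⊥ := h.se_or'

end Cfsg.Agent.AG
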