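import Cfsg.Agent.AG.IS3
import Cfsg.Agent.AG.IL
import Cfsg.Agent.AG.Del

/-! Section R1: blocks (see `notes/s2554_plan.md`). -/

set_option autoImplicit false
set_option linter.unusedSectionVars false

namespace Cfsg.Agent.AG

open Subgroup Cfsg.Agent.FT
open scoped commutatorElement

universe u
variable {G : Type u} [Group G] [Finite G]

variable {S β β' γ γ' : Subgroup G}

theorem ne_one_of_two {a : G} (h : orderOf a = 2) : a ≠ 1 := by rintro rfl; simp at h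

theorem self_mem_cm {a : G} {L : Subgroup G} (hL : L ≤ 𝐂[a]) : a ∈ cm 𝐂[a] L :=
  (mem_cm hL).2 ⟨mem_cent1_self a, fun l hl => by
    rw [← mem_cent1_iff.1 (hL hl)]; simp⟩

theorem Min.syl_cent (h : Min G) (hS : Syl 2 S ⊤) {a : G} (ha : a ∈ S) : Syl 2 S 𝐂[a] :=
  hS.of_le ((comm_iff_le_cent.1 (h.sim.isA.comm hS.isPGroup)).trans (cent_le_cent1 ha)) le_top

theorem R3.syl_cent (h : R3 S) {a : G} (ha : a ∈ S) : Syl 2 S 𝐂[a] := h.min.syl_cent h.syl ha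

theorem R3.comm (h : R3 S) : IsMulCommutative S := h.min.sim.isA.comm h.syl.isPGroup

theorem Blk.cj (h : Blk S β β') {n : G} (hn : n ∈ 𝐍(S)) : Blk S (cj n β) (cj n β') := by
  obtain ⟨a, L, ha, h2, hL, rfl, rfl⟩ := h
  have h1 := hL.cj n
  rw [cj_cent1] at h1
  refine ⟨n * a * n⁻¹, H1.cj n L, conj_mem_of_mem_normalizer hn ha, ?_, h1, ?_, ?_⟩
  · rw [← h2, ← MulAut.conj_apply, MulEquiv.orderOf_eq]
  · rw [cj_inf, cj_eq_iff_mem_normalizer.2 hn]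
  · rw [cj_inf, cj_eq_iff_mem_normalizer.2 hn, cj_cm hL.le, cj_cent1]

theorem FBlk.cj (h : FBlk S β β') {n : G} (hn : n ∈ 𝐍(S)) : FBlk S (cj n β) (cj n β') := by
  obtain ⟨h1, τ, h2, h3⟩ := h
  have := h3.cj n
  rw [cj_eq_iff_mem_normalizer.2 hn] at this
  exact ⟨h1.cj hn, _, conj_mem_FF hn h2, this⟩

theorem R3.sing (h : R3 S) (hb : Blk S β β') : ∃ τ, Sing S τ β β' := by
  obtain ⟨a, L, ha, h2, hL, rfl, rfl⟩ := hb
  obtain ⟨τ, -, hτ⟩ := hL.sing h.min (h.min.sim.cent_ne_top (ne_one_of_two h2)) (h.syl_cent ha)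
  exact ⟨τ, hτ⟩

theorem R3.eq_or (h : R3 S) (hb : FBlk S β β') (hc : FBlk S γ γ') :
    (β = γ ∧ β' = γ') ∨ (β ≤ γ' ∧ γ ≤ β') :=
  let ⟨_, _, h1, h2⟩ := hb
  let ⟨_, _, h3, h4⟩ := hc
  h2.eq_or h.min.sim.isA h.syl h4 h1 h3

theorem R3.four_le' (h : R3 S) (hb : FBlk S β β') : 4 ≤ ♯(om 2 β') := by
  obtain ⟨⟨a, L, ha, h2, hL, rfl, rfl⟩, τ, h3, h4⟩ := hb
  exact h4.four_le h.min.sim h.syl h3 (ne_bot_of_mem ⟨ha, self_mem_cm hL.le⟩ (ne_one_of_two h2))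

theorem Sing.exists_ne {τ : G} (h : Sing S τ β β') : ∃ k ∈ β, k ≠ 1 :=
  exists_ne_one_of_ne_bot (by intro e; have := h.four; rw [e] at this; simp at this)

theorem Sing.card {τ : G} (h : Sing S τ β β') (hc : IsMulCommutative S) : ♯S = ♯β * ♯β' := by
  rw [← card_sup_of_inf_eq_bot (h.le'.trans (nrm_of_comm hc h.le).norm) h.inf, h.sup]

theorem card_mul_le (hc : IsMulCommutative S) (h1 : β ≤ S) (h2 : γ ≤ S) (h3 : β ⊓ γ = ⊥) :
    ♯β * ♯γ ≤ ♯S := by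
  rw [← card_sup_of_inf_eq_bot (h2.trans (nrm_of_comm hc h1).norm) h3]
  exact card_le_of_le' (sup_le h1 h2)

/-- an element of order 7 with commutator space of order 8 normalizes the components -/
theorem Min.mem_norm_cmp (hG : Min G) {X L W W' : Subgroup G} (hX : X ≠ ⊤) (hS : Syl 2 S X)
    (hL : Cmp X L) {ε : G} (hε : Sing S ε W W') (h8 : ♯W = 8) (hεX : ε ∈ X) : ε ∈ 𝐍(L) := by
  by_contra hn
  have hc : IsMulCommutative S := hG.sim.isA.comm hS.isPGroup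
  have hC : ∀ i : ℕ, Cmp X (cj (ε ^ i) L) := fun i => hL.cj_of_mem (le_normalizer (pow_mem hεX i))
  obtain ⟨τ, -, hτ⟩ := hL.sing hG hX hS
  obtain ⟨k, hk, hk1⟩ := hτ.exists_ne
  have h7 : ε ^ 7 ∈ 𝐍(L) := by
    have := hε.pow
    rw [h8] at this
    refine cj_eq_iff_mem_normalizer.1 ((hC 7).eq_of_inf hL ?_ hk.2 (hτ.elem.orderOf_eq hk hk1))
    have e := mem_cent_iff.1 this k hk.1
    rw [mem_cj, mul_assoc, e, inv_mul_cancel_left]; exact hk.2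
  have h2 : ε ^ 2 ∉ 𝐍(L) := fun h => hn (by
    have : ε = ε ^ 7 * ((ε ^ 2) ^ 3)⁻¹ := by group
    rw [this]; exact mul_mem h7 (inv_mem (pow_mem h 3)))
  have h3 : ε ^ 3 ∉ 𝐍(L) := fun h => hn (by
    have : ε = ε ^ 7 * ((ε ^ 3) ^ 2)⁻¹ := by group
    rw [this]; exact mul_mem h7 (inv_mem (pow_mem h 2)))
  have c1 : cj (ε ^ 1) L ≤ cm X L := hL.le_cm (hC 1) fun e => hn (by
    simpa using cj_eq_iff_mem_normalizer.1 e.symm)
  have c2 : cj (ε ^ 2) L ≤ cm X L := hL.le_cm (hC 2) fun e => h2 (cj_eq_iff_mem_normalizer.1 e.symm)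
  have c3 : cj (ε ^ 3) L ≤ cm X L := hL.le_cm (hC 3) fun e => h3 (cj_eq_iff_mem_normalizer.1 e.symm)
  have hS2 : cj (ε ^ 2) (S ⊓ L) ≤ S := by
    rw [cj_inf, cj_eq_iff_mem_normalizer.2 (pow_mem hε.nS 2)]; exact inf_le_left
  have i1 : (S ⊓ L) ⊓ cj (ε ^ 2) (S ⊓ L) = ⊥ := le_bot_iff.1 (hτ.inf ▸
    inf_le_inf_left _ (le_inf hS2 ((cj_mono _ inf_le_right).trans c2)))
  have i2 : ((S ⊓ L) ⊔ cj (ε ^ 2) (S ⊓ L)) ⊓ W' = ⊥ := by
    refine le_bot_iff.1 fun y hy => ?_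
    obtain ⟨s, hs, s2, hs2, rfl⟩ := (mem_sup_of_le_normalizer'
      (hS2.trans (nrm_of_comm hc inf_le_left).norm)).1 hy.1
    have e := mem_cent1_iff.1 (hε.cen hy.2)
    have m1 : ε * s * ε⁻¹ ∈ cm X L := c1 (by simpa using conj_mem_cj (g := ε) hs.2)
    have m3 : ε * s2 * ε⁻¹ ∈ cj (ε ^ 3) L := by
      have := mem_cj.1 (cj_mono _ inf_le_right hs2)
      rw [mem_cj]
      convert this using 1
      group
    have hs1 : s = 1 := by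
      refine mem_bot.1 (hτ.inf ▸ mem_inf.2 ⟨hs, hs.1, ?_⟩)
      have : s = (ε * s * ε⁻¹) * (ε * s2 * ε⁻¹) * s2⁻¹ := by
        have e2 : ε * (s * s2) * ε⁻¹ = s * s2 := by rw [← e]; group
        calc s = (s * s2) * s2⁻¹ := by group
          _ = (ε * (s * s2) * ε⁻¹) * s2⁻¹ := by rw [e2]
          _ = _ := by group
      have m4 : (ε * s * ε⁻¹) * (ε * s2 * ε⁻¹) * s2⁻¹ ∈ cm X L :=
        mul_mem (mul_mem m1 (c3 m3)) (inv_mem (c2 (cj_mono _ inf_le_right hs2)))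
      exact this ▸ m4
    subst hs1
    rw [one_mul] at e ⊢
    obtain ⟨r, hr, rfl⟩ : ∃ r ∈ S ⊓ L, s2 = ε ^ 2 * r * (ε ^ 2)⁻¹ :=
      ⟨_, mem_cj.1 hs2, by group⟩
    have e3 : ε * r * ε⁻¹ = r := by
      calc ε * r * ε⁻¹ = (ε ^ 2)⁻¹ * (ε * (ε ^ 2 * r * (ε ^ 2)⁻¹)) * ε⁻¹ * ε ^ 2 := by group
        _ = r := by rw [← e]; group
    have : r = 1 := mem_bot.1 (hτ.inf ▸ mem_inf.2 ⟨hr, hr.1,
      e3 ▸ c1 (by simpa using conj_mem_cj (g := ε) hr.2)⟩)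
    simp [this]
  have k1 := card_mul_le hc (sup_le inf_le_left hS2) hε.le' i2
  rw [card_sup_of_inf_eq_bot (hS2.trans (nrm_of_comm hc inf_le_left).norm) i1, card_cj,
    hε.card hc, h8] at k1
  have k2 := Nat.le_of_mul_le_mul_right k1 (card_pos' W')
  have k3 := hτ.four
  nlinarith

/-- every block lies in an `F`-block -/
theorem R3.cover (h : R3 S) (hb : Blk S β β') : ∃ W W', FBlk S W W' ∧ β ≤ W ∧ W' ≤ β' ∧
    ((β = W ∧ β' = W') ∨ (♯β = 4 ∧ ♯W = 8 ∧ 8 ≤ ♯(om 2 β'))) := by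
  have hG := h.min
  obtain ⟨τ, hτ⟩ := h.sing hb
  rcases hτ.mem_FF_or hG.sim.isA h.syl with h1 | ⟨h4, ε, hεF, W, W', hε, h8, l1, l2⟩
  · exact ⟨β, β', ⟨hb, τ, h1, hτ⟩, le_rfl, le_rfl, Or.inl ⟨rfl, rfl⟩⟩
  have hW' : W' ≠ ⊥ := fun e => h.njr (by rw [← hε.sup, e, sup_bot_eq, h8]) β β' hb
  obtain ⟨b, hb', hb2⟩ := exists_orderOf_eq_prime Nat.prime_two
    (dvd_card_of_isPGroup (isPGroup_of_le hε.le' h.syl.isPGroup) hW')
  have hbS := hε.le' hb'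
  have hX := hG.sim.cent_ne_top (ne_one_of_two hb2)
  have hS := h.syl_cent hbS
  have hεX : ε ∈ 𝐂[b] := mem_cent1_comm.1 (hε.cen hb')
  have hlay : β ≤ Lay 𝐂[b] := by
    obtain ⟨a, L, ha, h2, hL, rfl, rfl⟩ := hb
    obtain ⟨K, k1, k2, -, k4⟩ := hL.cover_perfect hG (hG.sim.cent_ne_top (ne_one_of_two h2))
      (h.syl_cent ha)
    exact k4.le.trans (le_lay hG hX ((k1.trans inf_le_right).trans (cent_le_cent1 (l2 hb'))) k2)
  have hex : ∃ L, Cmp 𝐂[b] L ∧ ¬ W ≤ S ⊓ cm 𝐂[b] L := by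
    by_contra hh
    push Not at hh
    obtain ⟨k, hk, hk1⟩ := hτ.exists_ne
    exact hk1 (eq_one_of_lay hG hX hS (hτ.le hk) (hlay hk) fun L hL => (hh L hL (l1 hk)).2)
  obtain ⟨L, hL, hn⟩ := hex
  have hεL := hG.mem_norm_cmp hX hS hL hε h8 hεX
  obtain ⟨σ, -, hσ⟩ := hL.sing hG hX hS
  have n1 : ε ∈ 𝐍(S ⊓ L) := inf_normalizer_le_normalizer_inf ⟨hε.nS, hεL⟩
  have n2 : ε ∈ 𝐍(S ⊓ cm 𝐂[b] L) := inf_normalizer_le_normalizer_inf
    ⟨hε.nS, le_norm_cm hL.le ⟨le_normalizer hεX, hεL⟩⟩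
  have l3 := (hε.le_or h.comm inf_le_left n2).resolve_left hn
  have l4 : W ≤ S ⊓ L := (hε.le_or h.comm inf_le_left n1).resolve_right fun l4 => by
    have : W ≤ ⊥ := hε.inf ▸ le_inf le_rfl (hε.le.trans (hσ.sup ▸ sup_le l4 l3))
    rw [le_bot_iff.1 this] at h8; simp at h8
  have hσF : σ ∈ FF S := (hσ.mem_FF_or hG.sim.isA h.syl).resolve_right fun hh => by
    have := card_le_of_le' l4
    rw [hh.1] at this; omega
  obtain ⟨e1, e2⟩ := (hε.eq_or hG.sim.isA h.syl hσ hεF hσF).resolve_right fun hh => hn hh.1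
  have hF : FBlk S W W' := ⟨⟨b, L, hbS, hb2, hL, e1, e2⟩, ε, hεF, hε⟩
  refine ⟨W, W', hF, l1, l2, Or.inr ⟨h4, h8, ?_⟩⟩
  have c1 := (hτ.card_om hG.sim.isA h.syl.isPGroup).2
  have c2 := (hε.card_om hG.sim.isA h.syl.isPGroup).2
  have c3 := h.four_le' hF
  rw [h4] at c1; rw [h8] at c2
  omega

theorem R3.four_le (h : R3 S) (hb : Blk S β β') : 4 ≤ ♯(om 2 β') :=
  let ⟨_, _, h1, _, h2, _⟩ := h.cover hb
  (h.four_le' h1).trans (card_le_of_le' (om_mono h2))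

theorem R3.rk4 (h : R3 S) (hb : Blk S β β') : 16 ≤ ♯(om 2 S) := by
  obtain ⟨τ, hτ⟩ := h.sing hb
  rw [(hτ.card_om h.min.sim.isA h.syl.isPGroup).2]
  exact Nat.mul_le_mul hτ.four (h.four_le hb)

theorem Min.unb_at (hG : Min G) (hS : Syl 2 S ⊤) {X L : Subgroup G} (hX : X ≠ ⊤) (hSX : S ≤ X)
    (hL : Cmp X L) {a : G} (ha : a ∈ S) (ha2 : orderOf a = 2) (hc : ¬ Oo 𝐂[a] ⊓ X ≤ cm X L) :
    a ∉ cm X L ∧ ♯(S ⊓ L) = 4 ∧ Nb X S L :=
  hL.bal hG hX (hS.of_le hSX le_top) ha ha2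
    (le_inf inf_le_right (inf_le_left.trans (core_le _ _))) (odd_of_le inf_le_left (odd_oo _))
    (le_normalizer_inf (inf_le_right.trans (core_nrm _ _).norm) (inf_le_left.trans le_normalizer)) hc

/-- failure of balance comes from a component -/
theorem R3.unbal (h : R3 S) (hb : ¬ Bal S) : ∃ (e : G) (L : Subgroup G), e ∈ S ∧ orderOf e = 2 ∧
    Cmp 𝐂[e] L ∧ ♯(S ⊓ L) = 4 ∧ Nb 𝐂[e] S L := by
  by_contra hh
  refine hb fun a ha e he ha2 he2 => ?_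
  have hX := h.min.sim.cent_ne_top (ne_one_of_two he2)
  refine le_oo h.min hX (h.syl_cent he) inf_le_right (odd_of_le inf_le_left (odd_oo _))
    (le_normalizer_inf ((h.syl_cent ha).le.trans (core_nrm _ _).norm)
      ((h.syl_cent he).le.trans le_normalizer)) fun L hL => ?_
  by_contra hc
  exact hh ⟨e, L, he, he2, hL, (h.min.unb_at h.syl hX (h.syl_cent he).le hL ha ha2 hc).2⟩

theorem R3.omA (h : R3 S) : Abelem 2 (om 2 S) := h.min.sim.isA.abelem_om h.syl.isPGroup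

theorem R3.del_aux (h : R3 S) {E : Subgroup G} (hE : E ≤ om 2 S) (h1 : E ≠ ⊥) {e : G} (he : e ∈ S)
    (he2 : orderOf e = 2) {L : Subgroup G} (hL : Cmp 𝐂[e] L) (hc : ¬ Del E ⊓ 𝐂[e] ≤ cm 𝐂[e] L) :
    E ⊓ (S ⊓ cm 𝐂[e] L) = ⊥ ∧ ♯(S ⊓ L) = 4 := by
  have hX := h.min.sim.cent_ne_top (ne_one_of_two he2)
  have key := fun f (hf : f ∈ E) (hf1 : f ≠ 1) => h.min.unb_at h.syl hX (h.syl_cent he).le hL
    (om_le 2 S (hE hf)) (h.omA.orderOf_eq (hE hf) hf1)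
    fun hh => hc ((inf_le_inf_right _ (Del_le hf hf1)).trans hh)
  obtain ⟨f, hf, hf1⟩ := exists_ne_one_of_ne_bot h1
  refine ⟨le_bot_iff.1 fun x hx => mem_bot.2 ?_, (key f hf hf1).2.1⟩
  by_contra hx1
  exact (key x hx.1 hx1).1 hx.2.2

theorem R3.del_norm (h : R3 S) {E : Subgroup G} (hE : E ≤ om 2 S) {e : G} (he : e ∈ S) :
    S ≤ 𝐍(Del E ⊓ 𝐂[e]) :=
  le_normalizer_inf (((comm_iff_le_cent.1 h.comm).trans (cent_anti (hE.trans (om_le 2 S)))).trans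
    (cent_le_norm_Del E)) ((h.syl_cent he).le.trans le_normalizer)

/-- 3-balance -/
theorem R3.bal3 (h : R3 S) {E : Subgroup G} (hE : E ≤ om 2 S) (h8 : 8 ≤ ♯E) {e : G} (he : e ∈ S)
    (he2 : orderOf e = 2) : Del E ⊓ 𝐂[e] ≤ Oo 𝐂[e] := by
  have hX := h.min.sim.cent_ne_top (ne_one_of_two he2)
  have h1 : E ≠ ⊥ := by rintro rfl; simp at h8
  refine le_oo h.min hX (h.syl_cent he) inf_le_right (odd_of_le inf_le_left (odd_Del h1))
    (h.del_norm hE he) fun L hL => ?_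
  by_contra hc
  obtain ⟨k1, k2⟩ := h.del_aux hE h1 he he2 hL hc
  obtain ⟨τ, -, hτ⟩ := hL.sing h.min hX (h.syl_cent he)
  have k3 := card_mul_le h.comm (hE.trans (om_le 2 S)) inf_le_left k1
  rw [hτ.card h.comm, k2] at k3
  have := Nat.le_of_mul_le_mul_right k3 (card_pos' _)
  omega

/-- weak 2-balance -/
theorem R3.bal2 (h : R3 S) {F : Subgroup G} (hF : F ≤ om 2 S) (h4 : 4 ≤ ♯F) {e : G} (he : e ∈ S)
    (he2 : orderOf e = 2) : ⁅Del F ⊓ 𝐂[e], S⁆ ≤ Oo 𝐂[e] := by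
  have hX := h.min.sim.cent_ne_top (ne_one_of_two he2)
  have h1 : F ≠ ⊥ := by rintro rfl; simp at h4
  have ho : Odd ♯(Del F ⊓ 𝐂[e] : Subgroup G) := odd_of_le inf_le_left (odd_Del h1)
  refine comm_le_oo' h.min hX (h.syl_cent he) inf_le_right ho (h.del_norm hF he) fun L hL => ?_
  by_cases hc : Del F ⊓ 𝐂[e] ≤ cm 𝐂[e] L
  · exact (commutator_mono le_rfl inf_le_right).trans ((le_cm_iff hL.le).1 hc).2
  obtain ⟨k1, k2⟩ := h.del_aux hF h1 he he2 hL hc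
  obtain ⟨τ, -, hτ⟩ := hL.sing h.min hX (h.syl_cent he)
  have hFS := hF.trans (om_le 2 S)
  have hn : S ⊓ cm 𝐂[e] L ≤ 𝐍(F) := inf_le_left.trans (nrm_of_comm h.comm hFS).norm
  have k3 : F ⊔ (S ⊓ cm 𝐂[e] L) = S := by
    refine eq_of_le_of_card_le (sup_le hFS inf_le_left) ?_
    rw [card_sup_of_inf_eq_bot hn k1, hτ.card h.comm, k2]
    exact Nat.mul_le_mul_right _ h4
  have hD := hL.odd_le_norm h.min hX (h.syl_cent he) inf_le_right ho (h.del_norm hF he)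
  rw [commutator_le]
  intro d hd k hk
  obtain ⟨f, hf, c, hc', e1⟩ := (mem_sup_of_le_normalizer' hn).1 (k3.symm ▸ hk.1)
  rw [commutatorElement_def]
  refine hL.proj ⟨hd.2, hD hd⟩ hk.2 (inv_mem hc'.2) ?_
  rw [← e1, mul_inv_cancel_right]
  exact (mem_cent_iff.1 (Del_le_cent F hd.1) f hf).symm

end Cfsg.Agent.AG
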