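import Cfsg.Agent.AG.R2b

/-! The balanced case. -/

set_option autoImplicit false
set_option linter.unusedSectionVars false

namespace Cfsg.Agent.AG

open Subgroup Cfsg.Agent.FT
open scoped commutatorElement

universe u
variable {G : Type u} [Group G] [Finite G] {S A E F F' B : Subgroup G}

/-- the subgroup generated by the cores of the involution centralizers -/
def W1 (E : Subgroup G) : Subgroup G := ⨆ a : {a : G // a ∈ E ∧ a ≠ 1}, Oo 𝐂[(a : G)]

theorem oo_le_W1 {a : G} (ha : a ∈ E) (h1 : a ≠ 1) : Oo 𝐂[a] ≤ W1 E :=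
  le_iSup (fun a : {a : G // a ∈ E ∧ a ≠ 1} => Oo 𝐂[(a : G)]) ⟨a, ha, h1⟩

theorem norm_le_norm_W1 (E : Subgroup G) : 𝐍(E) ≤ 𝐍(W1 E) := fun g hg => by
  refine mem_normalizer_of_cj_le (cj_le_iff_le_cj_inv.2 (iSup_le fun a => cj_le_iff_le_cj_inv.1 ?_))
  rw [cj_oo_cent]
  exact oo_le_W1 (conj_mem_of_mem_normalizer hg a.2.1) fun e => a.2.2 (by simpa using e)

theorem Bal.w1 (hb : Bal S) (hA : Abelem 2 A) (hAS : A ≤ S) (h8 : 8 ≤ ♯A) :
    Odd ♯(W1 A) ∧ (∀ a ∈ A, a ≠ 1 → W1 A ⊓ 𝐂[a] = Oo 𝐂[a]) ∧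
      ∀ F, F ≤ A → 4 ≤ ♯F → W1 F = W1 A := by
  have key := sft hA h8 (fun a => Oo 𝐂[a]) (fun a _ _ => core_le _ _) (fun a _ _ => odd_oo _)
    (fun a ha _ => le_normalizer_core _ (((hA.le_cent.trans (cent_le_cent1 ha))).trans le_normalizer))
    (fun a ha h1 b hb' h2 => hb a (hAS ha) b (hAS hb') (hA.orderOf_eq ha h1) (hA.orderOf_eq hb' h2))
  refine ⟨key.1, key.2, fun F hF h4 => le_antisymm (iSup_le fun a => oo_le_W1 (hF a.2.1) a.2.2) ?_⟩
  refine le_of_four (hA.of_le hF) h4 key.1 (hF.trans (le_normalizer.trans (norm_le_norm_W1 A)))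
    fun a ha h1 => ?_
  exact (key.2 a (hF ha) h1).le.trans (oo_le_W1 ha h1)

theorem exists_four_le (hA : Abelem 2 A) (h4 : 4 ≤ ♯A) : ∃ F, F ≤ A ∧ ♯F = 4 := by
  obtain ⟨n, hn⟩ := hA.exists_pnElem le_rfl
  have h2 : 2 ≤ n := by
    by_contra h
    have := hn.card
    interval_cases n <;> omega
  obtain ⟨F, hF⟩ := hn.exists_sub h2
  exact ⟨F, hF.le, hF.card⟩

theorem exists_eight_le (hA : Abelem 2 A) (h4 : 8 ≤ ♯A) : ∃ F, F ≤ A ∧ ♯F = 8 := by
  obtain ⟨n, hn⟩ := hA.exists_pnElem le_rfl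
  have h2 : 3 ≤ n := by
    by_contra h
    have := hn.card
    interval_cases n <;> omega
  obtain ⟨F, hF⟩ := hn.exists_sub h2
  exact ⟨F, hF.le, hF.card⟩

theorem eq_four_or (hA : Abelem 2 A) (h4 : 4 ≤ ♯A) : ♯A = 4 ∨ 8 ≤ ♯A := by
  obtain ⟨n, hn⟩ := hA.exists_pnElem le_rfl
  have h1 := hn.card
  by_cases h : 3 ≤ n
  · exact Or.inr (h1 ▸ Nat.pow_le_pow_right (n := 2) (by norm_num) h)
  · interval_cases n <;> omega

theorem R3.of_bal' (h : R3 S) (hb : Bal S) : SE S ∨ (Triv S ∧ ∃ β β', Blk S β β') := by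
  have hA := h.omA
  have hG := h.min
  obtain ⟨ho, hc, hF⟩ := hb.w1 hA (om_le 2 S) h.rk
  have hm : ∀ a ∈ S, orderOf a = 2 → a ∈ om 2 S ∧ a ≠ 1 := fun a ha h2 =>
    ⟨mem_om ha (h2 ▸ pow_orderOf_eq_one a), by rintro rfl; simp at h2⟩
  by_cases hW : W1 (om 2 S) = ⊥
  · by_cases hk : ∃ β β', Blk S β β'
    · refine Or.inr ⟨fun F hF h4 => ?_, hk⟩
      obtain ⟨a, ha, h1⟩ := exists_ne_one_of_ne_bot (H := F) (by rintro rfl; simp at h4)
      exact ((Del_le ha h1).trans ((oo_le_W1 (hF ha) h1).trans hW.le)).trans bot_le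
    · refine Or.inl ⟨𝐍(S), hG.sim.norm_ne_top (fun e => ?_) (fun e => ?_), le_rfl, fun a ha h2 => ?_⟩
      · have := h.rk
        have h1 := card_le_of_le' (om_le 2 S)
        rw [e] at h1; rw [e] at this; simp at h1; omega
      · have := isSolvable_of_isPGroup h.syl.isPGroup
        rw [e] at this
        exact hG.sim.not_solvable (H2.isSolvable_of_mulEquiv topEquiv this)
      · refine gen_le hG (hG.sim.cent_ne_top (hm a ha h2).2) (h.syl_cent ha) ?_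
          (fun L hL => absurd ⟨_, _, a, L, ha, h2, hL, rfl, rfl⟩ hk) inf_le_right
        exact ((oo_le_W1 (hm a ha h2).1 (hm a ha h2).2).trans hW.le).trans bot_le
  · have hN : 𝐍(S) ≤ 𝐍(W1 (om 2 S)) := (le_normalizer_om 2 le_rfl).trans (norm_le_norm_W1 _)
    refine Or.inl ⟨𝐍(W1 (om 2 S)), hG.sim.norm_ne_top hW (fun e => ?_), hN, fun a ha h2 => ?_⟩
    · rw [e, card_top] at ho
      exact hG.sim.not_solvable (odd_order_solvable ho)
    · have hX := hG.sim.cent_ne_top (hm a ha h2).2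
      have hO := (oo_le_W1 (hm a ha h2).1 (hm a ha h2).2).trans le_normalizer
      refine gen_le hG hX (h.syl_cent ha) hO (fun L hL => ?_) (inf_le_right.trans hN)
      have hbl : Blk S _ _ := ⟨a, L, ha, h2, hL, rfl, rfl⟩
      have hle : om 2 (S ⊓ cm 𝐂[a] L) ≤ om 2 S := om_mono inf_le_left
      obtain ⟨F, hF1, hF4⟩ := exists_four_le (hA.of_le hle) (h.four_le hbl)
      rw [← hL.cover hG hX (h.syl_cent ha)]
      refine sup_le (inf_le_right.trans ?_) hO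
      rw [← hF F (hF1.trans hle) hF4.ge]
      exact (cent_anti (hF1.trans (om_le _ _))).trans ((cent_le_norm F).trans (norm_le_norm_W1 F))

end Cfsg.Agent.AG
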