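import Cfsg.Agent.AG.IR1
import Cfsg.Agent.AG.R2a

/-! Section R2: the signalizer functors (see `notes/s2554_plan.md`). -/

set_option autoImplicit false
set_option linter.unusedSectionVars false

namespace Cfsg.Agent.AG

open Subgroup Cfsg.Agent.FT
open scoped commutatorElement

universe u
variable {G : Type u} [Group G] [Finite G]

variable {S β β' : Subgroup G}

/-- the balanced case -/
theorem R3.of_bal (h : R3 S) (hb : Bal S) : SE S ∨ (Triv S ∧ ∃ β β', Blk S β β') :=
  h.of_bal' hb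

/-- the `5/2`-balanced functor -/
theorem R3.functor (h : R3 S) (h16 : 16 ≤ ♯(om 2 S)) (ht : ¬ Triv S) :
    ∃ M : Subgroup G, M ≠ ⊤ ∧ 𝐍(S) ≤ M ∧
      ∀ E : Subgroup G, E ≤ om 2 S → ♯E = 8 → 𝐍(E) ≤ M := h.functor' h16 ht

end Cfsg.Agent.AG
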