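import Cfsg.Agent.AG.IG3
import Cfsg.Agent.H2.Out55

/-! Section S1: components of proper subgroups (see `notes/s2554_plan.md`). -/

set_option autoImplicit false
set_option linter.unusedSectionVars false

namespace Cfsg.Agent.AG

open Subgroup Cfsg.Agent.FT
open scoped commutatorElement

universe u
variable {G : Type u} [Group G] [Finite G]

variable {X L L' S M D K B : Subgroup G}

theorem s1_nO (hL : L ≤ X) : L ≤ 𝐍(Oo X) := hL.trans (core_nrm _ X).norm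

theorem s1_one (hS : IsPGroup 2 S) {x : G} (hx : x ∈ S) (h : x ∈ Oo X) : x = 1 :=
  (inf_eq_bot_of_coprime' (coprime_of_isPGroup hS (core_piG _ X))).le ⟨hx, h⟩

theorem s1_inj (hS : Syl 2 S X) {x y : G} (hx : x ∈ S) (hy : y ∈ S)
    (h : coset (Oo X) x = coset (Oo X) y) : x = y :=
  inv_mul_eq_one.1 (s1_one hS.isPGroup (mul_mem (inv_mem hx) hy)
    ((coset_eq_iff (s1_nO hS.le hx) (s1_nO hS.le hy)).1 h))

theorem s1_nrm {H : Type*} [Group H] {K N : Subgroup H} (h : IsSimpleGroup K) (hN : N ⊴ K) :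
    N = ⊥ ∨ N = K := (hN.normal.eq_bot_or_eq_top).imp
  (fun e => by rwa [subgroupOf_eq_bot, disjoint_iff, inf_eq_left.2 hN.le] at e)
  fun e => le_antisymm hN.le (subgroupOf_eq_top.1 e)

theorem s1_simple {H : Type*} [Group H] {K : Subgroup H} (h0 : K ≠ ⊥)
    (h : ∀ N, N ⊴ K → N = ⊥ ∨ N = K) : IsSimpleGroup K :=
  haveI := (nontrivial_iff_ne_bot K).2 h0
  ⟨fun N _ => (h _ (nrm_map_subtype N)).imp
    (fun e => (map_eq_bot_iff_of_injective _ K.subtype_injective).1 e)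
    fun e => map_injective K.subtype_injective (by rw [e, ← MonoidHom.range_eq_map, range_subtype])⟩

theorem Cmp.nO (h : Cmp X L) : Oo X ⊴ L := ⟨h.ge, s1_nO h.le⟩

theorem Cmp.nrm (h : Cmp X L) {N : Subgroup G} (h1 : Oo X ≤ N) (h2 : N ⊴ L) : N = Oo X ∨ N = L :=
  have n : Oo X ⊴ N := ⟨h1, h2.le.trans h.nO.norm⟩
  (s1_nrm h.simple (h2.bar _)).imp (fun e => le_antisymm ((bar_eq_bot_iff n.norm).1 e) h1)
    (bar_inj n h.nO)

theorem Cmp.der (h : Cmp X L) : ¬ ⁅L, L⁆ ≤ Oo X := fun e => h.na ((comm_bar_iff h.nO.norm).2 e)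

theorem Cmp.mk' (h1 : L ≤ X) (h2 : Oo X ≤ L) (h3 : SN X L)
    (h4 : ∀ N, Oo X ≤ N → N ⊴ L → N = Oo X ∨ N = L) (h5 : ¬ ⁅L, L⁆ ≤ Oo X) : Cmp X L :=
  ⟨h1, h2, h3, s1_simple (fun e => h5 ((der_le L).trans ((bar_eq_bot_iff (s1_nO h1)).1 e))) fun N hN =>
    (h4 _ (le_unbar N) (nrm_unbar_of_nrm_bar ⟨h2, s1_nO h1⟩ hN)).imp
      (fun e => by rw [← bar_unbar N, e, bar_self]) fun e => by rw [← bar_unbar N, e],
    fun e => h5 ((comm_bar_iff (s1_nO h1)).1 e)⟩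

theorem Cmp.ctr (h : Cmp X L) : bar (Oo X) L ⊓ 𝐂(bar (Oo X) L) = ⊥ :=
  (s1_nrm h.simple (nrm_inf_centralizer le_normalizer)).resolve_right fun e =>
    h.na (comm_iff_le_cent.2 (e.ge.trans inf_le_right))

theorem Cmp.bar_der (h : Cmp X L) : ⁅bar (Oo X) L, bar (Oo X) L⁆ = bar (Oo X) L :=
  (s1_nrm h.simple (der_nrm _)).resolve_left fun e => h.na (comm_iff_der.2 e)

theorem Cmp.ci (h : Cmp X L) : Cfsg.Agent.L.CompIn (bar (Oo X) X) (bar (Oo X) L) :=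
  ⟨(h.sn.comap _).map _, Cfsg.Agent.L.isQuasisimple_subgroup_iff.2 ⟨h.bar_der,
    fun e => h.na (by rw [e]; infer_instance), fun N a b =>
    (s1_nrm h.simple ⟨a, b⟩).symm.imp_right fun e => e.le.trans bot_le⟩⟩

theorem mem_cm (hL : L ≤ X) {x : G} :
    x ∈ cm X L ↔ x ∈ X ∧ ∀ l ∈ L, x * l * x⁻¹ * l⁻¹ ∈ Oo X := by
  refine and_congr_right fun hx => ?_
  have n := s1_nO le_rfl hx
  have e : ∀ l ∈ L, x * l * x⁻¹ * l⁻¹ ∈ Oo X ↔
      coset (Oo X) l * coset (Oo X) x = coset (Oo X) x * coset (Oo X) l := fun l hl => by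
    have m := s1_nO hL hl
    have c := mul_mem (mul_mem n m) (inv_mem n)
    rw [← coset_eq_one_iff (mul_mem c (inv_mem m)), coset_mul c (inv_mem m), coset_conj n m,
      coset_inv m, mul_inv_eq_one, mul_inv_eq_iff_eq_mul, eq_comm]
  refine mem_unbar.trans ⟨fun k l hl => (e l hl).2 (mem_cent_iff.1 k.2 _ (coset_mem_bar _ hl)),
    fun k => ⟨n, mem_cent_iff.2 fun a ha => ?_⟩⟩
  obtain ⟨l, hl, rfl⟩ := (mem_bar' (s1_nO hL)).1 ha
  exact (e l hl).1 (k l hl)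

theorem le_cm_iff (hL : L ≤ X) : D ≤ cm X L ↔ D ≤ X ∧ ⁅D, L⁆ ≤ Oo X :=
  le_inf_iff.trans (and_congr_right fun h =>
    (le_unbar_iff (s1_nO h)).trans (bar_le_cent_iff (s1_nO h) (s1_nO hL)))

theorem cm_le (X L : Subgroup G) : cm X L ≤ X := inf_le_left

theorem oo_le_cm (hL : L ≤ X) : Oo X ≤ cm X L := le_inf (core_le _ _) (le_unbar _)

theorem cj_cm_le (hL : L ≤ X) (g : G) : cj g (cm X L) ≤ cm (cj g X) (cj g L) :=
  (le_cm_iff (cj_mono g hL)).2 ⟨cj_mono g (cm_le X L), by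
    rw [← cj_commutator, Oo, ← cj_core]; exact cj_mono g ((le_cm_iff hL).1 le_rfl).2⟩

theorem cj_cm (hL : L ≤ X) (g : G) : cj g (cm X L) = cm (cj g X) (cj g L) := by
  refine le_antisymm (cj_cm_le hL g) ?_
  have := cj_mono g (cj_cm_le (cj_mono g hL) g⁻¹)
  rwa [cj_inv_cj, cj_inv_cj, cj_cj_inv] at this

theorem le_norm_cm (hL : L ≤ X) : 𝐍(X) ⊓ 𝐍(L) ≤ 𝐍(cm X L) := fun g hg => by
  rw [← cj_eq_iff_mem_normalizer, cj_cm hL, cj_eq_iff_mem_normalizer.2 hg.1,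
    cj_eq_iff_mem_normalizer.2 hg.2]

theorem Cmp.cm_le_norm (h : Cmp X L) : cm X L ≤ 𝐍(L) :=
  le_normalizer_of_commutator_le (by
    rw [commutator_comm]; exact ((le_cm_iff h.le).1 le_rfl).2.trans h.ge)

theorem Cmp.inf_cm (h : Cmp X L) : L ⊓ cm X L = Oo X :=
  le_antisymm (fun x hx => (coset_eq_one_iff (h.nO.norm hx.1)).1 (h.ctr.le
    ⟨coset_mem_bar _ hx.1, (mem_unbar.1 hx.2.2).2⟩)) (le_inf h.ge (oo_le_cm h.le))

theorem Cmp.cj (h : Cmp X L) (g : G) : Cmp (H1.cj g X) (H1.cj g L) := by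
  have e : Oo (H1.cj g X) = H1.cj g (Oo X) := (cj_core _ _ _).symm
  refine Cmp.mk' (cj_mono g h.le) (e ▸ cj_mono g h.ge) (h.sn.map _) (fun N a b => ?_) fun k => h.der ?_
  · have b' := b.cj g⁻¹
    rw [cj_inv_cj] at b'
    rw [e] at a ⊢
    rw [← cj_cj_inv g N]
    exact (h.nrm (cj_le_iff_le_cj_inv.1 a) b').imp (congrArg _) (congrArg _)
  · rwa [e, ← cj_commutator, cj_le_cj_iff] at k

theorem Cmp.cj_of_mem (h : Cmp X L) {g : G} (hg : g ∈ 𝐍(X)) : Cmp X (H1.cj g L) := by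
  have := h.cj g
  rwa [cj_eq_iff_mem_normalizer.2 hg] at this

theorem Cmp.not_solvable (h : Cmp X L) : ¬ Group.IsSolvable L := fun hs =>
  h.ci.not_isSolvable (isSolvable_bar hs _)

/-- distinct components commute -/
theorem Cmp.le_cm (h : Cmp X L) (h' : Cmp X L') (hne : L ≠ L') : L' ≤ cm X L :=
  le_inf h'.le ((le_unbar_iff h'.nO.norm).2
    (h'.ci.le_centralizer_of_ne h.ci fun e => hne (bar_inj h'.nO h.nO e).symm))

theorem Cmp.eq_of_inf (h : Cmp X L) (h' : Cmp X L') {x : G} (hx : x ∈ L) (hx' : x ∈ L')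
    (h2 : orderOf x = 2) : L = L' := by_contra fun e =>
  piG_compl_singleton.1 (core_piG {2}ᶜ X) (h2.symm.dvd.trans
    ((Oo X).orderOf_dvd_natCard (h.inf_cm.le ⟨hx, h.le_cm h' e hx'⟩)))

theorem Cmp.le_norm (h : Cmp X L) (h' : Cmp X L') : L' ≤ 𝐍(L) := by
  by_cases e : L = L'
  exacts [e ▸ le_normalizer, (h.le_cm h' e).trans h.cm_le_norm]

theorem Cmp.sim (hA : IsA G) (h : Cmp X L) : Sim (bar (Oo X) L) := ⟨h.simple, h.na, hA.bar _ _⟩

theorem Cmp.kn (hG : Min G) (hX : X ≠ ⊤) (h : Cmp X L) : Kn (bar (Oo X) L) :=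
  hG.ih _ (h.sim hG.sim.isA) (((Nat.le_of_dvd (card_pos' L) (card_bar_dvd _ L)).trans
    (card_le_of_le' h.le)).trans_lt (card_top (G := G) ▸ card_lt_of_lt hX.lt_top))

theorem Cmp.good (hG : Min G) (hX : X ≠ ⊤) (h : Cmp X L) : Good (bar (Oo X) L) :=
  (h.sim hG.sim.isA).good (h.kn hG hX)

theorem s1_syl {p : ℕ} [Fact p.Prime] (h : SN X L) (hS : Syl p S X) : Syl p (S ⊓ L) L := by
  induction h with
  | refl => rwa [inf_eq_left.2 hS.le]
  | step H K a b _ ih =>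
    have := ih.inf_of_nrm ⟨a, b⟩
    rwa [inf_assoc, inf_eq_right.2 a] at this

theorem Cmp.syl (h : Cmp X L) (hS : Syl 2 S X) : Syl 2 (S ⊓ L) L := s1_syl h.sn hS

theorem Cmp.exists_inv (h : Cmp X L) (hS : Syl 2 S X) : ∃ x ∈ S ⊓ L, orderOf x = 2 :=
  exists_orderOf_eq_prime Nat.prime_two (dvd_card_of_isPGroup (h.syl hS).isPGroup
    ((h.syl hS).ne_bot (by
      by_contra e
      exact h.not_solvable (odd_order_solvable (Nat.odd_iff.2 (by omega))))))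

theorem Cmp.syl_bar (h : Cmp X L) (hS : Syl 2 S X) :
    Syl 2 ((bar (Oo X) (S ⊓ L)).subgroupOf (bar (Oo X) L)) ⊤ :=
  H1.sylow_isSylowIn_top ((h.syl hS).bar h.nO.norm).toSylow

/-- a Sylow 2-subgroup normalizes the components and induces inner automorphisms -/
theorem Cmp.dec (hG : Min G) (hX : X ≠ ⊤) (h : Cmp X L) (hS : Syl 2 S X) :
    S ≤ 𝐍(L) ∧ (S ⊓ L) ⊔ (S ⊓ cm X L) = S ∧ (S ⊓ L) ⊓ (S ⊓ cm X L) = ⊥ := by
  have cS := comm_iff_le_cent.1 (hG.sim.isA.comm hS.isPGroup)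
  obtain ⟨x, hx, o⟩ := h.exists_inv hS
  have n : S ≤ 𝐍(L) := fun s hs => cj_eq_iff_mem_normalizer.1
    ((h.cj_of_mem (le_normalizer (hS.le hs))).eq_of_inf h (by
      have := conj_mem_cj (g := s) hx.2
      rwa [← mem_cent_iff.1 (cS hs) x hx.1, mul_inv_cancel_right] at this) hx.2 o)
  refine ⟨n, le_antisymm (sup_le inf_le_left inf_le_left) fun s hs => ?_, eq_bot_iff.2 fun y hy =>
    s1_one hS.isPGroup hy.1.1 (h.inf_cm.le ⟨hy.1.2, hy.2.2⟩)⟩
  have sO := s1_nO hS.le hs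
  have hk := h.sim hG.sim.isA
  haveI := hk.simple
  let σ : 𝐍(bar (Oo X) L) := ⟨coset _ s, coset_mem_normalizer_bar sO (n hs)⟩
  obtain ⟨k, hk2⟩ := IsPGroup.iff_orderOf.1 hS.isPGroup ⟨s, hs⟩
  obtain ⟨j, -, hj⟩ := (Nat.dvd_prime_pow Nat.prime_two).1 ((orderOf_map_dvd
    (bar (Oo X) L).normalizerMonoidHom σ).trans ((orderOf_coe σ).symm.dvd.trans
      ((orderOf_coset_dvd sO).trans ((orderOf_coe (⟨s, hs⟩ : S)).trans hk2).dvd)))
  have fx : ∀ y : bar (Oo X) L, y.1 ∈ bar (Oo X) (S ⊓ L) →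
      coset (Oo X) s * y.1 * (coset (Oo X) s)⁻¹ = y.1 := fun y hy =>
    mul_inv_eq_iff_eq_mul.2 (mem_cent_iff.1 (bar_le_cent _ (cS.trans (cent_anti inf_le_left))
      (coset_mem_bar _ hs)) y.1 hy).symm
  obtain ⟨g, hg⟩ := OutL2.s2555_of hk.isA (h.kn hG hX) 2 (by
    by_contra e
    exact h.ci.not_isSolvable (odd_order_solvable (Nat.odd_iff.2 (by omega)))) _ j hj
    ((h.syl hS).bar h.nO.norm).toSylow fun y hy => Subtype.ext (fx y hy)
  obtain ⟨b, hb, e⟩ := (mem_bar' (inf_le_right.trans h.nO.norm)).1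
    ((h.good hG hX).selfc _ (h.syl_bar hS) (x := g) (mem_cent_iff.2 fun y hy =>
      (mul_inv_eq_iff_eq_mul.1 ((hg y).symm.trans (Subtype.ext (fx y hy)))).symm))
  have bO := h.nO.norm hb.2
  rw [← mul_inv_cancel_left b s]
  refine mul_mem_sup hb ⟨S.mul_mem (S.inv_mem hb.1) hs, hS.le (S.mul_mem (S.inv_mem hb.1) hs),
    mem_unbar.2 ⟨mul_mem (inv_mem bO) sO, mem_cent_iff.2 fun y hy => ?_⟩⟩
  have : coset (Oo X) s * y * (coset (Oo X) s)⁻¹ = g.1 * y * g.1⁻¹ := congrArg Subtype.val (hg ⟨y, hy⟩)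
  replace e : coset (Oo X) b = g.1 := e
  rw [coset_mul (inv_mem bO) sO, coset_inv bO, e, mul_assoc, mul_inv_eq_iff_eq_mul.1 this]
  group

/-- the Singer cycle of a component -/
theorem Cmp.sing (hG : Min G) (hX : X ≠ ⊤) (h : Cmp X L) (hS : Syl 2 S X) :
    ∃ τ ∈ L, Sing S τ (S ⊓ L) (S ⊓ cm X L) := by
  obtain ⟨n, d1, d2⟩ := h.dec hG hX hS
  have g := h.good hG hX
  have hs := h.syl_bar hS
  have SO := s1_nO hS.le
  have bO : S ⊓ L ≤ 𝐍(Oo X) := inf_le_left.trans SO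
  have co := coprime_of_isPGroup hS.isPGroup (core_piG {2}ᶜ X)
  have cb : ♯((bar (Oo X) (S ⊓ L)).subgroupOf (bar (Oo X) L)) = ♯(S ⊓ L : Subgroup G) := by
    rw [Nat.card_congr (subgroupOfEquivOfLe (bar_mono _ inf_le_right)).toEquiv, card_bar_of_coprime bO
      (co.coprime_dvd_left (card_dvd_of_le inf_le_left))]
  obtain ⟨σ, s1, s2, s3⟩ := g.sing _ hs
  have s4 : σ.1 ∈ 𝐍(bar (Oo X) S) := by
    rw [← d1, bar_sup bO (inf_le_left.trans SO)]
    refine mem_normalizer_of_cj_le (by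
      rw [cj_sup]
      refine sup_le_sup (cj_le_iff.2 fun y hy => conj_mem_of_mem_normalizer s1
        (x := ⟨y, bar_mono _ inf_le_right hy⟩) hy) (cj_le_iff.2 fun y hy => ?_)
      obtain ⟨c, hc, rfl⟩ := (mem_bar' (inf_le_left.trans SO)).1 hy
      rwa [mem_cent_iff.1 (mem_unbar.1 hc.2.2).2 _ σ.2, mul_inv_cancel_right])
  obtain ⟨τ, hτ, e⟩ := (mem_bar' (inf_le_left.trans h.nO.norm)).1 ((bar_inf_norm SO co
    (.inl (isSolvable_of_isPGroup hS.isPGroup)) h.ge).ge ⟨σ.2, s4⟩)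
  have tO := h.nO.norm hτ.1
  have key : ∀ y ∈ 𝐍(S), ∀ s ∈ S, y * s * y⁻¹ * s⁻¹ ∈ Oo X → y * s = s * y := fun y hy s hs k => by
    have := s1_one hS.isPGroup (mul_mem (conj_mem_of_mem_normalizer hy hs) (inv_mem hs)) k
    rwa [mul_inv_eq_one, mul_inv_eq_iff_eq_mul] at this
  have ne : ∀ x (hx : x ∈ S ⊓ L), x ≠ 1 → (⟨coset _ x, coset_mem_bar _ hx.2⟩ : bar (Oo X) L) ≠ 1 :=
    fun x hx x1 k => x1 (s1_one hS.isPGroup hx.1 ((coset_eq_one_iff (bO hx)).1 (congrArg Subtype.val k)))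
  refine ⟨τ, hτ.1, hτ.2, d1, d2, ⟨hG.sim.isA.comm (isPGroup_of_le inf_le_left hS.isPGroup),
    fun x hx => s1_one hS.isPGroup (pow_mem hx.1 2) ((coset_eq_one_iff (pow_mem (bO hx) 2)).1 ?_)⟩,
    cb ▸ g.four _ hs, le_normalizer_inf (A := 𝐍(S) ⊓ 𝐍(L)) inf_le_left inf_le_right ⟨hτ.2, le_normalizer hτ.1⟩, fun c hc => ?_,
    mem_cent_iff.2 fun s hs => (key _ (pow_mem hτ.2 _) s hs ?_).symm, fun x hx x1 y hy y1 => ?_⟩
  · rw [coset_pow (bO hx)]
    exact congrArg Subtype.val ((g.elem _ hs).2 ⟨coset _ x, coset_mem_bar _ hx.2⟩ (coset_mem_bar _ hx))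
  · refine mem_cent1_iff.2 (key τ hτ.2 c hc.1 ?_).symm
    simpa [mul_assoc] using inv_mem (((mem_cm h.le).1 hc.2).2 τ hτ.1)
  · have : τ ^ (♯(S ⊓ L : Subgroup G) - 1) ∈ Oo X := by
      rw [← coset_eq_one_iff (pow_mem tO _), coset_pow tO, e, ← cb]
      exact congrArg Subtype.val s2
    simpa [mul_assoc] using mul_mem this (conj_mem_of_mem_normalizer (SO hs) (inv_mem this))
  · obtain ⟨i, hi⟩ := s3 _ (coset_mem_bar _ hx) (ne x hx x1) _ (coset_mem_bar _ hy) (ne y hy y1)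
    refine ⟨i, s1_inj hS (conj_mem_of_mem_normalizer (pow_mem hτ.2 i) hx.1) hy.1 ?_⟩
    rw [coset_conj (pow_mem tO i) (bO hx), coset_pow tO, e]
    exact congrArg Subtype.val hi

theorem Nb.cj (hL : L ≤ X) (h : Nb X S L) (g : G) : Nb (H1.cj g X) (H1.cj g S) (H1.cj g L) := by
  intro M k hk k1 h1 h2 h3
  refine cj_le_iff_le_cj_inv.2 (h _ (g⁻¹ * k * g) ⟨mem_cj.1 hk.1, mem_cj.1 hk.2⟩
    (fun e => k1 (conj_eq_one_iff.1 (by rwa [inv_inv]))) (cj_le_iff_le_cj_inv.1 ?_)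
    (cj_le_iff_le_cj_inv.1 ?_) (cj_le_iff_le_cj_inv.1 ?_))
  · rwa [cj_core]
  · rwa [cj_inf, cj_normalizer]
  · rwa [cj_inf, cj_inf, cj_cent1, cj_centralizer, cj_inf, cj_cm hL,
      show g * (g⁻¹ * k * g) * g⁻¹ = k by group]

/-! perfect parts -/
theorem res_le (L : Subgroup G) : res L ≤ L := sSup_le fun _ h => h.1
theorem res_perfect (L : Subgroup G) : ⁅res L, res L⁆ = res L :=
  le_antisymm (der_le _) (sSup_le fun _ h => h.2.ge.trans (commutator_mono (le_sSup h) (le_sSup h)))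
theorem le_res (h : K ≤ L) (hK : ⁅K, K⁆ = K) : K ≤ res L := le_sSup ⟨h, hK⟩
theorem cj_res (g : G) (L : Subgroup G) : cj g (res L) = res (cj g L) := by
  have k : ∀ (g : G) (L : Subgroup G), cj g (res L) ≤ res (cj g L) := fun g L =>
    le_res (cj_mono g (res_le L)) (by rw [← cj_commutator, res_perfect])
  refine le_antisymm (k g L) ?_
  have := cj_mono g (k g⁻¹ (cj g L))
  rwa [cj_inv_cj, cj_cj_inv] at this
theorem norm_le_norm_res (L : Subgroup G) : 𝐍(L) ≤ 𝐍(res L) := fun g hg => by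
  rw [← cj_eq_iff_mem_normalizer, cj_res, cj_eq_iff_mem_normalizer.2 hg]
theorem res_nrm (L : Subgroup G) : res L ⊴ L := ⟨res_le L, le_normalizer.trans (norm_le_norm_res L)⟩

/-- a covering subgroup contains a perfect covering subgroup -/
theorem Cmp.res_cover (h : Cmp X L) (hK : K ⊔ Oo X = L) : res K ⊔ Oo X = L := by
  obtain ⟨Y, hY⟩ := exists_minimal_of_wellFoundedLT (fun Y => Y ≤ K ∧ Y ⊔ Oo X = L) ⟨K, le_rfl, hK⟩
  have n := (le_sup_left.trans hY.prop.2.le).trans h.nO.norm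
  have e : ⁅Y, Y⁆ ⊔ Oo X = L := bar_inj ⟨le_sup_right, sup_le ((der_le Y).trans n) le_normalizer⟩ h.nO (by
    rw [bar_sup_self ((der_le Y).trans n), bar_commutator n n, ← bar_sup_self n, hY.prop.2, h.bar_der])
  exact le_antisymm (sup_le ((res_le K).trans (le_sup_left.trans hK.le)) h.ge) (hY.prop.2.ge.trans
    (sup_le_sup_right (le_res hY.prop.1 (hY.eq_of_le ⟨(der_le Y).trans hY.prop.1, e⟩ (der_le Y))) _))

theorem perfect_le_of_solvable {N : Subgroup G} (hp : ⁅K, K⁆ = K) (hn : K ≤ 𝐍(N))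
    (hs : Group.IsSolvable (bar N K)) : K ≤ N :=
  (bar_eq_bot_iff hn).1 (by_contra fun e => (der_lt hs e).ne (by rw [← bar_commutator hn hn, hp]))

theorem Cmp.res_sup (h : Cmp X L) : res L ⊔ Oo X = L := h.res_cover (sup_eq_left.2 h.ge)

theorem Cmp.le_res (h : Cmp X L) (hS : Syl 2 S X) : S ⊓ L ≤ res L := by
  refine le_of_piG_of_nrm (π := {2}) (res_nrm L).norm ?_ inf_le_right (h.syl hS).hall.piG
  have := H2.relIndex_sup_of_le_normalizer (h.ge.trans (res_nrm L).norm)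
  rw [sup_comm, h.res_sup] at this
  rw [this]
  exact (core_piG {2}ᶜ X).of_dvd (relIndex_dvd_card' _ _)

/-- a component whose block centralizes `O(X)` lifts to a simple group -/
theorem Cmp.res_sim (hA : IsA G) (h : Cmp X L) (hS : Syl 2 S X) (hc : S ⊓ L ≤ 𝐂(Oo X)) :
    Sim (res L) ∧ res L ≤ 𝐂(Oo X) ∧ res L ⊓ Oo X = ⊥ ∧ cm X L ≤ 𝐂(res L) := by
  have nC := nrm_inf_centralizer h.nO.norm
  obtain ⟨x, hx, o⟩ := h.exists_inv hS
  have e := (h.nrm le_sup_left (h.nO.sup nC)).resolve_left fun e => by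
    rw [s1_one hS.isPGroup hx.1 (e.le (mem_sup_right ⟨hx.2, hc hx⟩))] at o
    simp at o
  have k1 : res L ≤ 𝐂(Oo X) := (perfect_le_of_solvable (res_perfect L) ((res_le L).trans nC.norm)
    (isSolvable_of_le (bar_mono _ ((res_le L).trans e.ge)) (by
      rw [bar_sup_self (h.ge.trans nC.norm)]
      exact isSolvable_bar (odd_order_solvable (Nat.coprime_two_right.1
        (piG_compl_iff_coprime.1 (core_piG _ X)))) _))).trans inf_le_right
  have k2 : res L ⊓ Oo X = ⊥ := eq_bot_iff.2 ((inf_le_inf (res_perfect L).ge (cent_symm k1)).trans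
    (hA.der_inf_cent _).le)
  have n := (res_le L).trans h.nO.norm
  have e1 := barEquivOfInf n k2
  rw [← bar_sup_self n, h.res_sup] at e1
  haveI := h.simple
  refine ⟨⟨e1.isSimpleGroup, fun c => h.der ?_, hA.sub _⟩, k1, k2,
    le_cent_iff_commutator.2 (eq_bot_iff.2 (le_trans (le_inf (commutator_le_right'
      (h.cm_le_norm.trans (norm_le_norm_res L))) ((commutator_mono le_rfl (res_le L)).trans
        ((le_cm_iff h.le).1 le_rfl).2)) k2.le))⟩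
  have := h.res_sup
  rw [← res_perfect, comm_iff_der.1 c, bot_sup_eq] at this
  exact (der_le L).trans this.ge

end Cfsg.Agent.AG
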