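import Cfsg.Agent.AG.IS1

/-! Section S2: the layer of a proper subgroup (see `notes/s2554_plan.md`). -/

set_option autoImplicit false
set_option linter.unusedSectionVars false

namespace Cfsg.Agent.AG

open Subgroup Cfsg.Agent.FT
open scoped commutatorElement

universe u
variable {G : Type u} [Group G] [Finite G]

variable {X L L' S M D K B : Subgroup G}

theorem cmp_of_ci (hA : IsA G) {K : Subgroup (Quo (Oo X))} (h : Cfsg.Agent.L.CompIn (bar (Oo X) X) K) :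
    Cmp X (unbar (Oo X) K) := by
  have e := unbar_bar' (core_nrm {2}ᶜ X)
  have z := (hA.quo (Oo X)).der_inf_cent K
  rw [h.commutator_self] at z
  have sn : SN (unbar (Oo X) (bar (Oo X) X)) (unbar (Oo X) K) := (h.1.comap _).map _
  rw [e] at sn
  refine ⟨(unbar_mono h.le).trans e.le, le_unbar _, sn, ?_, ?_⟩ <;> rw [bar_unbar]
  · exact s1_simple h.ne_bot fun N hN => ((Cfsg.Agent.L.isQuasisimple_subgroup_iff.1 h.2).2.2 N hN.le
      hN.norm).symm.imp_left fun k => eq_bot_iff.2 ((le_inf hN.le k).trans z.le)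
  · exact fun c => h.ne_bot (h.commutator_self ▸ comm_iff_der.1 c)

theorem lay_le (X : Subgroup G) : Lay X ≤ X := sup_le (core_le _ _) (sSup_le fun _ h => h.le)

theorem Cmp.le_lay (h : Cmp X L) : L ≤ Lay X := le_sup_of_le_right (le_sSup h)

theorem lay_eq (hA : IsA G) (X : Subgroup G) :
    Lay X = unbar (Oo X) (Cfsg.Agent.L.layerOf (bar (Oo X) X)) :=
  le_antisymm (sup_le (le_unbar _) (sSup_le fun _ h => (le_unbar_iff h.nO.norm).2 h.ci.le_layerOf))
    ((unbar_le_iff ⟨le_sup_left, s1_nO (lay_le X)⟩).2 (Cfsg.Agent.L.layerOf_le_iff.2 fun K hK =>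
      (bar_unbar K).ge.trans (bar_mono _ (cmp_of_ci hA hK).le_lay)))

theorem lay_nrm (hA : IsA G) (X : Subgroup G) : Lay X ⊴ X := by
  rw [lay_eq hA]
  exact nrm_unbar_of_nrm_bar (core_nrm _ X)
    ⟨Cfsg.Agent.L.layerOf_le _, Cfsg.Agent.L.le_normalizer_layerOf _⟩

theorem Cmp.lay_le_norm (h : Cmp X L) : Lay X ≤ 𝐍(L) :=
  sup_le (h.ge.trans le_normalizer) (sSup_le fun _ h' => h.le_norm h')

/-- `F*(X / O(X))` is self-centralizing -/
theorem s2_fit (hA : IsA G) (hD : D ≤ X) (h : ∀ L, Cmp X L → D ≤ cm X L)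
    (h2 : bar (Oo X) D ≤ 𝐂(core {2} (bar (Oo X) X))) : bar (Oo X) D ≤ core {2} (bar (Oo X) X) := by
  have e := fit_eq_pcore (p := 2) (core_bar_core {2}ᶜ X)
  have := Cfsg.Agent.L.inf_centralizer_gfOf_le_fittingOf (bar (Oo X) X)
  rw [Cfsg.Agent.L.gfOf_eq, cent_sup] at this
  rw [← e] at h2 ⊢
  refine (le_inf (bar_mono _ hD) (le_inf (cent_symm (Cfsg.Agent.L.layerOf_le_iff.2 fun K hK =>
    cent_symm ?_)) h2)).trans this
  have := (le_unbar_iff (s1_nO hD)).1 ((h _ (cmp_of_ci hA hK)).trans inf_le_right)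
  rwa [bar_unbar] at this

theorem s2_dec (hG : Min G) (hX : X ≠ ⊤) (hS : Syl 2 S X) (I : Set (Subgroup G))
    (hI : ∀ L ∈ I, Cmp X L) {s : G} (hs : s ∈ S) :
    ∃ e ∈ ⨆ L ∈ I, S ⊓ L, ∃ c ∈ S, (∀ L ∈ I, c ∈ cm X L) ∧ e * c = s := by
  induction I, I.toFinite using Set.Finite.induction_on with
  | empty => exact ⟨1, one_mem _, s, hs, by simp, one_mul s⟩
  | @insert L I hL _ ih =>
    obtain ⟨e, he, c, hc, k, rfl⟩ := ih fun L h => hI L (.inr h)
    have h := hI L (.inl rfl)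
    obtain ⟨n, d, -⟩ := h.dec hG hX hS
    obtain ⟨b, hb, c', hc', rfl⟩ := (H2.mem_sup_of_le_normalizer' (inf_le_left.trans
      (le_normalizer_inf le_normalizer n))).1 (d.ge hc)
    rw [iSup_insert, sup_comm]
    refine ⟨e * b, mul_mem_sup he hb, c', hc'.1, ?_, mul_assoc _ _ _⟩
    rintro L' (rfl | h')
    · exact hc'.2
    · exact (Subgroup.mul_mem_cancel_left _ ((hI L' (.inr h')).le_cm h
        (fun e => hL (e ▸ h')) hb.2)).1 (k L' h')

theorem s2_key (hA : IsA G) (I : Set (Subgroup G)) (hI : ∀ L ∈ I, Cmp X L) {c : G}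
    (h1 : c ∈ Oo X ⊔ sSup I) (h : ∀ L ∈ I, c ∈ cm X L) : c ∈ Oo X := by
  have n : Oo X ⊔ sSup I ≤ 𝐍(Oo X) := s1_nO (sup_le (core_le _ _) (sSup_le fun L h => (hI L h).le))
  refine (coset_eq_one_iff (n h1)).1 (((hA.quo (Oo X)).der_inf_cent (bar _ (Oo X ⊔ sSup I))).le
    ⟨(bar_le_iff n).2 (sup_le (le_unbar _) (sSup_le fun L h => (le_unbar_iff (hI L h).nO.norm).2 ?_))
      (coset_mem_bar _ h1), le_cent1_iff.1 ((bar_le_iff n).2 (sup_le (le_unbar _) (sSup_le fun L k =>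
        (le_unbar_iff (hI L k).nO.norm).2 (le_cent1_iff.2 (mem_unbar.1 (h L k).2).2))))⟩)
  have := bar_mono (Oo X) (le_sup_of_le_right (le_sSup h) : L ≤ Oo X ⊔ sSup I)
  exact (hI L h).bar_der.ge.trans (commutator_mono this this)

/-- `Lay X ⊔ S` is normal -/
theorem lay_sup_nrm (hG : Min G) (hX : X ≠ ⊤) (hS : Syl 2 S X) : Lay X ⊔ S ⊴ X := by
  have hA := hG.sim.isA
  have QS := core_le_syl (hS.bar (s1_nO le_rfl))
  have e : Lay X ⊔ S = Lay X ⊔ unbar (Oo X) (core {2} (bar (Oo X) X)) := by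
    refine le_antisymm (sup_le le_sup_left fun s hs => ?_) (sup_le le_sup_left ((unbar_mono QS).trans
      ((unbar_bar (s1_nO hS.le)).le.trans (sup_le le_sup_right (le_sup_of_le_left le_sup_left)))))
    obtain ⟨e, he, c, hc, k, rfl⟩ := s2_dec hG hX hS {L | Cmp X L} (fun _ h => h) hs
    have z : zpowers c ≤ S := (zpowers_le (G := G)).2 hc
    exact mul_mem_sup ((iSup₂_le fun L h => inf_le_right.trans (Cmp.le_lay h) :
      (⨆ L ∈ {L | Cmp X L}, S ⊓ L) ≤ Lay X) he)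
      ((le_unbar_iff (s1_nO (z.trans hS.le))).2 (s2_fit hA (z.trans hS.le)
        (fun L h => (zpowers_le (G := G)).2 (k L h)) ((bar_mono _ z).trans ((bar_le_cent _
          (comm_iff_le_cent.1 (hA.comm hS.isPGroup))).trans (cent_anti QS)))) (mem_zpowers c))
  rw [e]
  exact (lay_nrm hA X).sup (nrm_unbar_of_nrm_bar (core_nrm _ X) (core_nrm _ _))

theorem s2_odd {N : Subgroup G} (hS : Syl 2 S X) (hn : X ≤ 𝐍(N)) (h : S ≤ N) :
    Group.IsSolvable (bar N X) := by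
  have := (hS.bar hn).not_dvd
  rw [bar_eq_bot h, relIndex_bot_left] at this
  exact odd_order_solvable (Nat.odd_iff.2 (by omega))

theorem s2_sq {y : G} (o : Odd (orderOf y)) (h : y * y ∈ M) : y ∈ M := by
  obtain ⟨m, hm⟩ := o
  have := pow_orderOf_eq_one y
  rw [hm, pow_succ, pow_mul, sq] at this
  exact (M.mul_mem_cancel_left (pow_mem h m)).1 (this ▸ one_mem M)

/-- `X = O(X) L₁ ⋯ Lₙ N_X(S)` -/
theorem gen_le (hG : Min G) (hX : X ≠ ⊤) (hS : Syl 2 S X) (h1 : Oo X ≤ M)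
    (h2 : ∀ L, Cmp X L → L ≤ M) (h3 : X ⊓ 𝐍(S) ≤ M) : X ≤ M :=
  have n := lay_sup_nrm hG hX hS
  (Syl.frattini' (hS.of_le le_sup_right n.le) n).ge.trans (sup_le (sup_le (sup_le h1 (sSup_le h2))
    ((le_inf hS.le le_normalizer).trans h3)) h3)

/-- without components `X` is solvable -/
theorem exists_cmp (hG : Min G) (hX : X ≠ ⊤) (h : ¬ Group.IsSolvable X) : ∃ L, Cmp X L := by
  by_contra! k
  obtain ⟨S, hS⟩ := exists_syl 2 X
  have n := lay_sup_nrm hG hX hS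
  have e : Lay X = Oo X := le_antisymm (sup_le le_rfl (sSup_le fun L h => (k L h).elim)) le_sup_left
  refine h (isSolvable_of_bar n.norm ?_ (s2_odd hS n.norm le_sup_right))
  rw [e]
  refine isSolvable_of_bar (s1_nO (e ▸ n.le)) (odd_order_solvable (Nat.coprime_two_right.1
    (piG_compl_iff_coprime.1 (core_piG _ X)))) ?_
  rw [bar_self_sup (s1_nO hS.le)]
  exact isSolvable_of_isPGroup (isPGroup_bar hS.isPGroup _)

/-- an `S`-invariant subgroup of odd order normalizes the components -/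
theorem Cmp.odd_le_norm (hG : Min G) (hX : X ≠ ⊤) (h : Cmp X L) (hS : Syl 2 S X) (hD : D ≤ X)
    (ho : Odd ♯D) (hn : S ≤ 𝐍(D)) : D ≤ 𝐍(L) := fun d hd => by
  have h' := h.cj_of_mem (le_normalizer (hD hd))
  obtain ⟨s, hs, o⟩ := h.exists_inv hS
  have ss : s⁻¹ = s := inv_eq_of_mul_eq_one_right (by rw [← sq, ← o, pow_orderOf_eq_one])
  have m := conj_mem_cj (g := d) hs.2
  refine cj_eq_iff_mem_normalizer.1 (by_contra fun e => e (h'.eq_of_inf h m ?_
    (((MulAut.conj d).orderOf_eq s).trans o)))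
  have k := ((mem_cm h.le).1 (h.le_cm h' (Ne.symm e) m)).2 s hs.2
  have y : d * s * d⁻¹ * s ∈ D := by
    simpa [mul_assoc, ss] using mul_mem hd (conj_mem_of_mem_normalizer (hn hs.1) (inv_mem hd))
  exact (L.mul_mem_cancel_right hs.2).1 (h.ge (s2_sq (ho.of_dvd_nat (D.orderOf_dvd_natCard y))
    (by simpa [mul_assoc, ss] using k)))

theorem le_oo (hG : Min G) (hX : X ≠ ⊤) (hS : Syl 2 S X) (hD : D ≤ X) (ho : Odd ♯D)
    (hn : S ≤ 𝐍(D)) (h : ∀ L, Cmp X L → D ≤ cm X L) : D ≤ Oo X := by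
  have e := (core_piG {2} (bar (Oo X) X)).inf_eq_bot
    ((piG_compl_iff_coprime.2 ho.coprime_two_right).bar (Oo X))
  rw [← bar_eq_bot_iff (s1_nO hD), ← le_bot_iff, ← e]
  exact le_inf (s2_fit hG.sim.isA hD h (le_cent_of_inf_eq_bot ((bar_mono _ hD).trans (core_nrm _ _).norm)
    ((core_le_syl (hS.bar (s1_nO le_rfl))).trans (bar_le_normalizer _ hn)) (by rwa [inf_comm]))) le_rfl

theorem comm_le_oo (hG : Min G) (hX : X ≠ ⊤) (hS : Syl 2 S X) (hD : D ≤ X) (ho : Odd ♯D)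
    (hn : S ≤ 𝐍(D)) (hB : B ≤ S) (h : ∀ L, Cmp X L → D ≤ cm X L ∨ B ≤ cm X L) :
    ⁅D, B⁆ ≤ Oo X := by
  have k : ⁅D, B⁆ ≤ D := commutator_le_left' (hB.trans hn)
  refine le_oo hG hX hS (k.trans hD) (odd_of_le k ho) (le_normalizer_commutator hn
    (((comm_iff_le_cent.1 (hG.sim.isA.comm hS.isPGroup)).trans (cent_anti hB)).trans (cent_le_norm _)))
    fun L hL => (h L hL).elim k.trans fun e => (commutator_mono le_rfl e).trans (commutator_le_right'
      ((le_inf (hD.trans le_normalizer) (hL.odd_le_norm hG hX hS hD ho hn)).trans (le_norm_cm hL.le)))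

theorem comm_le_oo' (hG : Min G) (hX : X ≠ ⊤) (hS : Syl 2 S X) (hD : D ≤ X) (ho : Odd ♯D)
    (hn : S ≤ 𝐍(D)) (h : ∀ L, Cmp X L → ⁅D, S ⊓ L⁆ ≤ Oo X) : ⁅D, S⁆ ≤ Oo X := by
  have k : ⁅D, S⁆ ≤ D := commutator_le_left' hn
  refine le_oo hG hX hS (k.trans hD) (odd_of_le k ho) (le_normalizer_commutator hn le_normalizer)
    fun L hL => ?_
  obtain ⟨n, d, -⟩ := hL.dec hG hX hS
  have n1 := (le_inf (hD.trans le_normalizer) (hL.odd_le_norm hG hX hS hD ho hn)).trans (le_norm_cm hL.le)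
  have n2 := (le_inf (hS.le.trans le_normalizer) n).trans (le_norm_cm hL.le)
  rw [← bar_le_cent_iff n1 n2, ← d, bar_sup (inf_le_left.trans n2) (inf_le_left.trans n2),
    bar_eq_bot (inf_le_right : S ⊓ cm X L ≤ cm X L), sup_bot_eq, bar_le_cent_iff n1 (inf_le_left.trans n2)]
  exact (h L hL).trans (oo_le_cm hL.le)

/-- perfect subgroups lie in the layer -/
theorem le_lay (hG : Min G) (hX : X ≠ ⊤) (hK : K ≤ X) (hp : ⁅K, K⁆ = K) : K ≤ Lay X := by
  obtain ⟨S, hS⟩ := exists_syl 2 X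
  have n := lay_sup_nrm hG hX hS
  have n' := (lay_nrm hG.sim.isA X).norm
  refine perfect_le_of_solvable hp (hK.trans n') (isSolvable_of_le (bar_mono _
    (perfect_le_of_solvable hp (hK.trans n.norm) (isSolvable_of_le (bar_mono _ hK)
      (s2_odd hS n.norm le_sup_right)))) ?_)
  rw [bar_self_sup (hS.le.trans n')]
  exact isSolvable_of_isPGroup (isPGroup_bar hS.isPGroup _)

/-- Sylow 2-subgroup of a product of components -/
theorem inf_sup_cmp (hG : Min G) (hX : X ≠ ⊤) (hS : Syl 2 S X) (I : Set (Subgroup G))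
    (hI : ∀ L ∈ I, Cmp X L) : S ⊓ (Oo X ⊔ sSup I) = ⨆ L ∈ I, S ⊓ L := by
  have k : (⨆ L ∈ I, S ⊓ L) ≤ S ⊓ (Oo X ⊔ sSup I) :=
    iSup₂_le fun L h => inf_le_inf_left S (le_sup_of_le_right (le_sSup h))
  refine le_antisymm (fun s hs => ?_) k
  obtain ⟨e, he, c, hc, h, rfl⟩ := s2_dec hG hX hS I hI hs.1
  rwa [s1_one hS.isPGroup hc (s2_key hG.sim.isA I hI
    ((Subgroup.mul_mem_cancel_left _ (k he).2).1 hs.2) h), mul_one]

theorem eq_one_of_lay (hG : Min G) (hX : X ≠ ⊤) (hS : Syl 2 S X) {x : G} (hx : x ∈ S)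
    (h1 : x ∈ Lay X) (h : ∀ L, Cmp X L → x ∈ cm X L) : x = 1 :=
  s1_one hS.isPGroup hx (s2_key hG.sim.isA _ (fun _ h => h) h1 h)

/-- a perfect subgroup with a Sylow 2-subgroup in a component lies in the component -/
theorem Cmp.perfect_le (hG : Min G) (hX : X ≠ ⊤) (h : Cmp X L) (hK : K ≤ X) (hp : ⁅K, K⁆ = K)
    (hB : Syl 2 B K) (h1 : B ≤ L) : K ≤ L :=
  have n := (AG.le_lay hG hX hK hp).trans h.lay_le_norm
  perfect_le_of_solvable hp n (s2_odd hB n h1)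

end Cfsg.Agent.AG
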