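import Cfsg.Agent.AG.S31

/-! Section S3: covering and balance in a proper subgroup (see `notes/s2554_plan.md`). -/

set_option autoImplicit false
set_option linter.unusedSectionVars false

namespace Cfsg.Agent.AG

open Subgroup Cfsg.Agent.FT
open scoped commutatorElement

universe u
variable {G : Type u} [Group G] [Finite G]

variable {X L L' S M D K B R : Subgroup G}

theorem Cmp.cover (hG : Min G) (hX : X ≠ ⊤) (h : Cmp X L) (hS : Syl 2 S X) :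
    (L ⊓ 𝐂(S ⊓ cm X L)) ⊔ Oo X = L := by
  rw [← unbar_bar (inf_le_left.trans h.nO.norm), bar_inf_cent (inf_le_left.trans (s1_nO hS.le))
    (cop2 (isPGroup_of_le inf_le_left hS.isPGroup) (odd_oo X)) (Or.inr (solv_of_odd (odd_oo X))) h.ge,
    inf_eq_left.2 (cent_symm fun z hz => ?_), unbar_bar' h.nO]
  obtain ⟨y, hy, -, rfl⟩ := mem_bar.1 hz
  exact (mem_cm'.1 hy.2).2

theorem Cmp.cover_perfect (hG : Min G) (hX : X ≠ ⊤) (h : Cmp X L) (hS : Syl 2 S X) :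
    ∃ K, K ≤ L ⊓ 𝐂(S ⊓ cm X L) ∧ ⁅K, K⁆ = K ∧ K ⊔ Oo X = L ∧ Syl 2 (S ⊓ L) K := by
  have cS := comm_iff_le_cent.1 (hG.sim.isA.comm hS.isPGroup)
  have e := h.res_cover (h.cover hG hX hS)
  have n := res_nrm (L ⊓ 𝐂(S ⊓ cm X L))
  refine ⟨_, n.le, res_perfect _, e, (h.syl hS).of_le ?_ (n.le.trans inf_le_left)⟩
  refine le_of_piG_of_nrm (π := {2}) n.norm ?_
    (le_inf inf_le_right (inf_le_left.trans (cS.trans (cent_anti inf_le_left)))) (h.syl hS).hall.piG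
  have := inf_sup_of_le n.le (B := Oo X) (Or.inl ((n.le.trans inf_le_left).trans h.nO.norm))
  rw [e, inf_eq_left.2 inf_le_left] at this
  nth_rw 2 [this]
  rw [sup_comm, relIndex_sup_of_le_normalizer (inf_le_left.trans n.norm)]
  exact ((core_piG _ X).of_le inf_le_right).relIndex _

/-- the projection of a centralized element is centralized -/
theorem Cmp.proj (h : Cmp X L) {d k f : G} (hd : d ∈ X ⊓ 𝐍(L)) (hk : k ∈ L) (hf : f ∈ cm X L)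
    (hc : d * (k * f) = (k * f) * d) : d * k * d⁻¹ * k⁻¹ ∈ Oo X := h.proj' hd hk hf hc

/-- the balance lemma -/
theorem Cmp.bal (hG : Min G) (hX : X ≠ ⊤) (h : Cmp X L) (hS : Syl 2 S X) {a : G} (ha : a ∈ S)
    (ha2 : orderOf a = 2) (hD : D ≤ X ⊓ 𝐂[a]) (ho : Odd ♯D) (hn : X ⊓ 𝐂[a] ≤ 𝐍(D))
    (hc : ¬ D ≤ cm X L) : a ∉ cm X L ∧ ♯(S ⊓ L) = 4 ∧ Nb X S L :=
  let ⟨h1, _, hk, k1, h2, h3⟩ := h.bal0 hG hX hS ha ha2 hD ho hn hc
  ⟨h1, h.nb_of hG hX hS hk k1 (ne_bot_of_le h3 h2)⟩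

/-! Klein four Sylow 2-subgroups -/
theorem Cmp.four (hG : Min G) (hX : X ≠ ⊤) (h : Cmp X L) (hS : Syl 2 S X) (h4 : ♯S = 4) :
    S ≤ L ∧ L ⊴ X ∧ cm X L = Oo X ∧ ¬ L ⊓ 𝐍(S) ≤ 𝐂(S) := by
  have key : ∀ {L}, Cmp X L → S ≤ L := fun h => by
    obtain ⟨τ, -, hτ⟩ := h.sing hG hX hS
    exact inf_eq_left.1 (eq_of_le_of_card_le inf_le_left (h4 ▸ hτ.four))
  obtain ⟨τ, τL, hτ⟩ := h.sing hG hX hS
  obtain ⟨x, hx, x2⟩ := h.exists_inv hS
  have n : L ⊴ X := ⟨h.le, fun g hg => cj_eq_iff_mem_normalizer.1 ((h.cj_of_mem (le_normalizer hg)).eq_of_inf h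
    (key (h.cj_of_mem (le_normalizer hg)) hx.1) hx.2 x2)⟩
  have n2 : cm X L ⊴ X := ⟨cm_le X L, (le_inf le_normalizer n.norm).trans (le_norm_cm h.le)⟩
  have e := inf_eq_left.2 (key h)
  have d := hτ.inf
  rw [e, inf_eq_right.2 inf_le_left] at d
  refine ⟨key h, n, le_antisymm (le_core n2 (piG_compl_singleton.2 ((hS.inf_of_nrm n2).eq_bot_iff.1 d)))
    (oo_le_cm h.le), fun c => ?_⟩
  obtain ⟨a, ha, b, hb, a1, ab, -⟩ := exists_fg hτ.elem (e.symm ▸ h4)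
  obtain ⟨i, hi⟩ := hτ.tr a ha a1 b hb fun d => ab (d ▸ one_mem _)
  rw [← mem_cent_iff.1 (pow_mem (c ⟨τL, hτ.nS⟩) i) a ha.1, mul_inv_cancel_right] at hi
  exact ab (hi ▸ mem_zpowers a)

theorem Cmp.v2 (hG : Min G) (hX : X ≠ ⊤) (h : Cmp X L) (hS : Syl 2 S X) (h4 : ♯S = 4)
    {t s x y : G} (ht : t ∈ S) (hs : s ∈ S) (ht2 : orderOf t = 2) (hs2 : orderOf s = 2)
    (hne : t ≠ s) (hx : x ∈ X) (hy : y ∈ X) (hxo : Odd (orderOf x)) (hyo : Odd (orderOf y))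
    (hxy : x * y = y * x) (h1 : t * x = x * t) (h2 : s * x * s⁻¹ = x⁻¹) (h3 : s * y = y * s)
    (h4' : t * y * t⁻¹ = y⁻¹) : x ∈ Oo X ∨ y ∈ Oo X :=
  have ⟨a, b, _⟩ := h.four hG hX hS h4
  h.v2' hG hX hS (by rwa [inf_eq_left.2 a]) b.norm ⟨ht, a ht⟩ ⟨hs, a hs⟩ ht2 hx hy hxo hyo hxy h1 h2 h4'

theorem Cmp.v3 (hG : Min G) (hX : X ≠ ⊤) (h : Cmp X L) (hS : Syl 2 S X) (h4 : ♯S = 4)
    {t : G} (ht : t ∈ S) (ht2 : orderOf t = 2) (hR : R ≤ X ⊓ 𝐂[t]) (ho : Odd ♯R)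
    (hc : IsMulCommutative R) (hn : X ⊓ 𝐂[t] ≤ 𝐍(R)) : R ⊓ 𝐂(S) ≤ Oo X := by
  obtain ⟨a, b, c, -⟩ := h.four hG hX hS h4
  have e := inf_eq_left.2 a
  obtain ⟨p1, p2⟩ := h.pnil hG hX hS (by rwa [e]) ⟨ht, a ht⟩ (JR.ne_one_of_two ht2)
  have tL := coset_mem_bar (Oo X) (a ht)
  have t2 := ord_coset (hS.le ht) ht2
  have nt := h.nO.norm (a ht)
  intro x hx
  have xX := (hR hx.1).1
  have xL := bar_le_normalizer (Oo X) b.norm (coset_mem_bar _ xX)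
  have xR := coset_mem_bar (Oo X) hx.1
  refine c ▸ mem_cm'.2 ⟨xX, am_aut (h.good hG hX) tL t2 xL (odd_coset xX (JR.odd_orderOf ho hx.1)) fun y hy => ?_⟩
  rw [← (p2.sdp p1).sup, e] at hy
  refine mem_cent1_iff.1 ((sup_le (fun u hu => ?_) (le_cent1_iff.2 (bar_cent_le _ _ (coset_mem_bar _ hx.2))) :
    _ ≤ 𝐂[coset (Oo X) x]) hy)
  have u1 : u ∈ 𝐍(bar (Oo X) R) := by
    have := core_le _ _ hu
    rw [← bar_inf_cent1 nt (by rw [ht2]; exact Nat.coprime_two_left.2 (odd_oo X)) h.ge] at this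
    exact bar_le_normalizer _ ((inf_le_inf_right _ h.le).trans hn) this
  have u2 := le_normalizer_core {2}ᶜ (le_normalizer_inf (zpowers_le.2 xL) ((zpowers_le.2 (bar_cent1_le nt
    (coset_mem_bar _ (hR hx.1).2))).trans le_normalizer)) (mem_zpowers _)
  rw [mem_cent1_iff, ← commutatorElement_eq_one_iff_mul_comm, ← mem_bot,
    ← (hG.sim.isA.quo (Oo X)).der_inf_cent (zpowers u ⊔ zpowers (coset (Oo X) x))]
  refine ⟨commutator_mem_commutator (mem_sup_left (mem_zpowers _)) (mem_sup_right (mem_zpowers _)), ?_⟩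
  rw [SetLike.mem_coe, cent_sup, cent_zpowers, cent_zpowers, commutatorElement_def]
  refine ⟨cent_le_cent1 hu (am_comm (h.good hG hX) tL t2 ?_), cent_le_cent1 xR (comm_iff_le_cent.1 (comm_bar hc _)
    (mul_mem (conj_mem_of_mem_normalizer u1 xR) (inv_mem xR)))⟩
  simpa only [mul_assoc] using mul_mem hu (conj_mem_of_mem_normalizer u2 (inv_mem hu))

end Cfsg.Agent.AG
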