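import Cfsg.Agent.AG.IS3
import Cfsg.Agent.AG.IL

/-! Section V0: Klein four Sylow 2-subgroups, basic facts (see `notes/s2554_plan.md`). -/

set_option autoImplicit false
set_option linter.unusedSectionVars false

namespace Cfsg.Agent.AG

open Subgroup Cfsg.Agent.FT
open scoped commutatorElement

universe u
variable {G : Type u} [Group G] [Finite G]

variable {S X : Subgroup G} {t s : G}

theorem V4.symm (h : V4 S t s) : V4 S s t :=
  ⟨h.min, h.syl, h.card, h.elem, h.nse, h.sS, h.tS, h.s2, h.t2, h.ne.symm⟩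
theorem V4.sq (h : V4 S t s) {x : G} (hx : x ∈ S) : x * x = 1 := (pow_two x).symm.trans (h.elem.2 x hx)
theorem V4.t1 (h : V4 S t s) : t ≠ 1 := fun e => by
  have := h.t2; rw [e, orderOf_one] at this; omega
theorem V4.cS (h : V4 S t s) : S ≤ 𝐂(S) := comm_iff_le_cent.1 h.elem.1

theorem V4.comm (h : V4 S t s) : t * s = s * t := mem_cent_iff.1 (h.cS h.sS) t h.tS
theorem V4.third (h : V4 S t s) : V4 S t (t * s) := 
  ⟨h.min, h.syl, h.card, h.elem, h.nse, h.tS, mul_mem h.tS h.sS, h.t2, h.elem.orderOf_eq (mul_mem h.tS h.sS)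
    fun e => h.ne (by rw [eq_inv_of_mul_eq_one_left e, inv_eq_of_mul_eq_one_left (h.sq h.sS)]),
    fun e => h.symm.t1 (by simpa using e)⟩
theorem V4.mem (h : V4 S t s) {x : G} : x ∈ S ↔ x = 1 ∨ x = t ∨ x = s ∨ x = t * s := 
  ⟨MC.qo_four h.card (fun _ => h.sq) h.tS h.sS h.t1 h.symm.t1 h.ne x, by
    rintro (rfl | rfl | rfl | rfl)
    exacts [one_mem S, h.tS, h.sS, mul_mem h.tS h.sS]⟩
theorem V4.cj (h : V4 S t s) (g : G) : V4 (cj g S) (g * t * g⁻¹) (g * s * g⁻¹) := by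
  refine ⟨h.min, cj_top g ▸ h.syl.cj g, (card_cj g S).trans h.card, h.elem.cj g, fun ⟨M, h1, h2, h3⟩ =>
    h.nse ⟨FT.cj g⁻¹ M, fun e => h1 (H1.cj_injective g⁻¹ (e.trans (cj_top _).symm)), ?_, fun a ha a2 => ?_⟩,
    conj_mem_cj h.tS, conj_mem_cj h.sS, (MC.qo_oc g t).trans h.t2, (MC.qo_oc g s).trans h.s2,
    fun e => h.ne (mul_left_cancel (mul_right_cancel e))⟩
  · rwa [← cj_le_iff_le_cj_inv, cj_normalizer]
  · rw [← cj_le_iff_le_cj_inv, cj_cent1]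
    exact h3 _ (conj_mem_cj ha) ((MC.qo_oc g a).trans a2)

theorem V4.centS (h : V4 S t s) : 𝐂(S) = 𝐂[t] ⊓ 𝐂[s] :=
  le_antisymm (le_inf (cent_le_cent1 h.tS) (cent_le_cent1 h.sS)) fun x hx =>
    le_cent1_iff.1 fun y hy => by
      have a := mem_cent1_comm.1 hx.1
      have b := mem_cent1_comm.1 hx.2
      rcases h.mem.1 hy with rfl | rfl | rfl | rfl
      exacts [one_mem _, a, b, mul_mem a b]
theorem V4.mem_cent (h : V4 S t s) {n : G} (hn : n ∈ 𝐍(S)) (hc : n ∈ 𝐂[t]) : n ∈ 𝐂(S) := by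
  refine odd_mem h.syl h.cS hn (h.centS.ge ⟨mul_mem hc hc, mem_cent1_iff.2 (mul_inv_eq_iff_eq_mul.1 ?_)⟩)
  have e := mul_inv_eq_iff_eq_mul.2 (mem_cent1_iff.1 hc)
  rw [show n * n * s * (n * n)⁻¹ = n * (n * s * n⁻¹) * n⁻¹ by group]
  rcases h.mem.1 (H1.conj_mem_of_mem_normalizer hn h.sS) with r | r | r | r
  · exact absurd r (conj_ne_one h.symm.t1)
  · exact absurd (mul_left_cancel (mul_right_cancel (e.trans r.symm))) h.ne
  · rw [r, r]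
  · rw [r, ← conj_mul, e, r, ← mul_assoc, h.sq h.tS, one_mul]
theorem V4.trans (h : V4 S t s) {n : G} (hn : n ∈ 𝐍(S)) (hc : n ∉ 𝐂(S)) :
    (n * t * n⁻¹ = s ∧ n * s * n⁻¹ = t * s) ∨ (n * t * n⁻¹ = t * s ∧ n * s * n⁻¹ = t) := by
  have k : ∀ {t s}, V4 S t s → n * t * n⁻¹ = s ∨ n * t * n⁻¹ = t * s := fun h =>
    ((h.mem.1 (H1.conj_mem_of_mem_normalizer hn h.tS)).resolve_left (conj_ne_one h.t1)).resolve_left
      fun r => hc (h.mem_cent hn (mem_cent1_iff.2 (mul_inv_eq_iff_eq_mul.1 r)))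
  have k3 : n * (t * s) * n⁻¹ ≠ t * s := fun r =>
    hc (h.third.symm.mem_cent hn (mem_cent1_iff.2 (mul_inv_eq_iff_eq_mul.1 r)))
  rw [← conj_mul] at k3
  rcases k h with a | a <;> rcases k h.symm with b | b
  · exact absurd (by rw [a, b, h.comm]) k3
  · exact .inl ⟨a, b.trans h.comm.symm⟩
  · exact .inr ⟨a, b⟩
  · exact absurd (mul_left_cancel (mul_right_cancel (a.trans (h.comm.trans b.symm)))) h.ne
/-- `N(S) / C(S)` has order 3 -/
theorem V4.norm_le (h : V4 S t s) {n : G} (hn : n ∈ 𝐍(S)) (hc : n ∉ 𝐂(S)) {M : Subgroup G}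
    (h1 : 𝐂(S) ≤ M) (h2 : n ∈ M) : 𝐍(S) ≤ M := fun m hm => by
  by_cases e : m ∈ 𝐂(S)
  · exact h1 e
  have k : ∀ a ∈ M, a ∈ 𝐍(S) → a * t * a⁻¹ = m * t * m⁻¹ → m ∈ M := fun a a1 a2 r =>
    (mul_mem_cancel_left (inv_mem a1)).1 (h1 (h.mem_cent (mul_mem (inv_mem a2) hm)
      (mem_cent1_iff.2 (mul_inv_eq_iff_eq_mul.1 (by
        calc _ = a⁻¹ * (m * t * m⁻¹) * a := by group
          _ = _ := by rw [← r]; group)))))
  have q : n * n * t * (n * n)⁻¹ = n * (n * t * n⁻¹) * n⁻¹ := by group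
  rcases h.trans hn hc with ⟨a, b⟩ | ⟨a, b⟩ <;> rcases h.trans hm e with ⟨c, -⟩ | ⟨c, -⟩
  · exact k n h2 hn (a.trans c.symm)
  · exact k _ (mul_mem h2 h2) (mul_mem hn hn) (by rw [q, a, b, c])
  · exact k _ (mul_mem h2 h2) (mul_mem hn hn) (by
      rw [q, a, ← conj_mul, a, b, c, ← h.comm.symm, mul_assoc, h.sq h.tS, mul_one])
  · exact k n h2 hn (a.trans c.symm)
theorem V4.rho (h : V4 S t s) : ∃ ρ ∈ 𝐍(S), ρ * t * ρ⁻¹ = s ∧ ρ * s * ρ⁻¹ = t * s := by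
  obtain ⟨n, hn, hc⟩ := SetLike.not_le_iff_exists.1 fun e : 𝐍(S) ≤ 𝐂(S) =>
    h.t1 (mem_bot.1 ((h.min.sim.no_fix h.syl).le ⟨h.tS, cent_symm e h.tS⟩))
  rcases h.trans hn hc with r | ⟨a, b⟩
  · exact ⟨n, hn, r⟩
  refine ⟨n * n, mul_mem hn hn, ?_, ?_⟩
  · rw [show n * n * t * (n * n)⁻¹ = n * (n * t * n⁻¹) * n⁻¹ by group, a, ← conj_mul, a, b,
      ← h.comm.symm, mul_assoc, h.sq h.tS, mul_one]
  · rw [show n * n * s * (n * n)⁻¹ = n * (n * s * n⁻¹) * n⁻¹ by group, b, a]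
theorem V4.isConj (h : V4 S t s) {v : G} (hv : orderOf v = 2) : IsConj t v := by
  obtain ⟨g, -, e⟩ := h.syl.exists_cj_le (isPGroup_of_card_prime ((Nat.card_zpowers v).trans hv)) le_top
  obtain ⟨ρ, -, a, b⟩ := h.rho
  refine IsConj.trans ?_ (isConj_iff.2 ⟨g, rfl⟩).symm
  rcases h.mem.1 (e (conj_mem_cj (mem_zpowers v))) with r | r | r | r
  · exact absurd r (conj_ne_one fun e => by rw [e, orderOf_one] at hv; omega)
  · rw [r]
  · exact r ▸ isConj_iff.2 ⟨ρ, a⟩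
  · exact r ▸ (isConj_iff.2 ⟨ρ, a⟩).trans (isConj_iff.2 ⟨ρ, b⟩)
theorem V4.syl_of_le (h : V4 S t s) (hX : S ≤ X) : Syl 2 S X := h.syl.of_le hX le_top
theorem V4.oo_sup (h : V4 S t s) (hX : S ≤ X) (hn : X ⊓ 𝐍(S) ≤ 𝐂(S)) : Oo X ⊔ S = X := 
  h.min.sim.isA.core_sup (h.syl_of_le hX) hn
theorem V4.cent_eq (h : V4 S t s) : Oo 𝐂[t] ⊔ S = 𝐂[t] := 
  h.oo_sup (h.cS.trans (cent_le_cent1 h.tS)) fun _ hn => h.mem_cent hn.2 hn.1

theorem V4.hall (h : V4 S t s) (e : Oo X ⊔ S = X) : Hall {2}ᶜ (Oo X) X := by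
  refine ⟨core_le _ X, core_piG _ X, ?_⟩
  have := (piG_singleton_iff.2 h.syl.isPGroup).bar (Oo X)
  rw [← bar_self_sup (le_sup_right.trans (e.le.trans (core_nrm _ X).norm)), e,
    piG_bar_iff (core_nrm _ X).norm] at this
  rwa [compl_compl]
theorem V4.mem_oo (h : V4 S t s) {x : G} (hx : x ∈ 𝐂[t]) (ho : Odd (orderOf x)) :
    x ∈ Oo 𝐂[t] := 
  (h.hall h.cent_eq).mem_of_nrm (core_nrm _ _).norm hx
    ((piNum_compl_singleton Nat.prime_two).2 fun r => (Nat.not_even_iff_odd.2 ho) (even_iff_two_dvd.2 r))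
theorem V4.solv (h : V4 S t s) : Group.IsSolvable 𝐂[t] := 
  h.cent_eq ▸ isSolvable_sup (odd_order_solvable (Nat.not_even_iff_odd.1 fun r =>
    piG_compl_singleton.1 (core_piG _ _) r.two_dvd)) (isSolvable_of_isPGroup h.syl.isPGroup)
    (h.cS.trans ((cent_le_cent1 h.tS).trans (core_nrm _ _).norm))
theorem V4.centS_eq (h : V4 S t s) : Oo 𝐂(S) ⊔ S = 𝐂(S) := h.oo_sup h.cS inf_le_left
theorem V4.oo_centS (h : V4 S t s) : Oo 𝐂(S) = Oo 𝐂[t] ⊓ 𝐂[s] := 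
  le_antisymm (le_inf ((h.hall h.cent_eq).le_of_nrm (core_nrm _ _).norm
    ((core_le _ _).trans (cent_le_cent1 h.tS)) (core_piG _ _)) ((core_le _ _).trans (cent_le_cent1 h.sS)))
    ((h.hall h.centS_eq).le_of_nrm (core_nrm _ _).norm (h.centS ▸ inf_le_inf_right _ (core_le _ _))
      ((core_piG _ _).of_le inf_le_left))
/-- a proper subgroup containing `C(t)` does not contain `N(S)` -/
theorem V4.not_le (h : V4 S t s) {M : Subgroup G} (hM : M ≠ ⊤) (h1 : 𝐂[t] ≤ M) :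
    M ⊓ 𝐍(S) ≤ 𝐂(S) := fun n hn => by_contra fun hc => by
  have k := h.norm_le hn.2 hc ((cent_le_cent1 h.tS).trans h1) hn.1
  obtain ⟨ρ, r, a, b⟩ := h.rho
  have c : 𝐂[s] ≤ M := by rw [← a, ← cj_cent1]; exact H1.cj_le_of_le (k r) h1
  refine h.nse ⟨M, hM, k, fun x hx x2 => ?_⟩
  rcases h.mem.1 hx with rfl | rfl | rfl | rfl
  · rw [orderOf_one] at x2; omega
  · exact h1
  · exact c
  · rw [← b, ← cj_cent1]; exact H1.cj_le_of_le (k r) c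
theorem V4.oo_not_le (h : V4 S t s) : ¬ Oo 𝐂[t] ≤ 𝐂[s] := fun e => by
  have k : 𝐂[t] ≤ 𝐂(S) := by
    rw [h.centS]
    exact le_inf le_rfl (h.cent_eq.ge.trans (sup_le e (h.cS.trans (cent_le_cent1 h.sS))))
  obtain ⟨ρ, r, a, -⟩ := h.rho
  exact h.ne ((mul_inv_eq_iff_eq_mul.2 (mem_cent1_iff.1 (cent_le_cent1 h.tS (h.not_le
    (h.min.sim.norm_ne_top (ne_bot_of_mem h.tS h.t1) fun e => h.min.sim.not_solvable
      (haveI := isSolvable_of_isPGroup h.syl.isPGroup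
      Group.isSolvable_of_surjective (f := S.subtype) fun g => ⟨⟨g, e.ge trivial⟩, rfl⟩))
    (k.trans (cent_le_norm S)) ⟨r, r⟩)))).symm.trans a)

end Cfsg.Agent.AG
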