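import Cfsg.Agent.AG.V11

/-! Section V1: `C(t)` is maximal (see `notes/s2554_plan.md`). -/

set_option autoImplicit false
set_option linter.unusedSectionVars false

namespace Cfsg.Agent.AG

open Subgroup Cfsg.Agent.FT
open scoped commutatorElement

universe u
variable {G : Type u} [Group G] [Finite G]

variable {S P : Subgroup G} {t s : G} {p : ℕ} [Fact p.Prime]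

theorem V4.lemC1 (h : V4 S t s) (hp : p ≠ 2) (hP : Syl p P ⊤) (hn : S ≤ 𝐍(P))
    (h1 : ¬ P ⊓ 𝐂[t] ≤ 𝐂(S)) (h2 : ¬ P ⊓ 𝐂[s] ≤ 𝐂(S)) :
    (∃ ρ ∈ 𝐍(S) ⊓ 𝐍(P), ρ ∉ 𝐂(S)) ∧ Syl p (P ⊓ 𝐂(S)) 𝐂(S) :=
  h.c1 hp hP hn h1 h2

theorem V4.lemC2 (h : V4 S t s) (hp : p ≠ 2) (hP : Syl p P ⊤) (hn : S ≤ 𝐍(P))
    (h1 : ¬ P ⊓ 𝐂[t] ≤ 𝐂(S)) (h2 : ¬ P ⊓ 𝐂[s] ≤ 𝐂(S)) {y : G} (hy : y ∈ P) (hy1 : y ≠ 1) :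
    Group.IsSolvable (core {p}ᶜ 𝐂[y]) ∧ core {p}ᶜ 𝐂[y] ⊔ P ⊴ 𝐂[y] :=
  h.c2 hp hP hn h1 h2 hy hy1

theorem V4.lemC3 (h : V4 S t s) (hp : p ≠ 2) (hP : Syl p P ⊤) (hn : S ≤ 𝐍(P))
    (h1 : ¬ P ⊓ 𝐂[t] ≤ 𝐂(S)) (h2 : ¬ P ⊓ 𝐂[s] ≤ 𝐂(S)) :
    ∃ M : Subgroup G, M ≠ ⊤ ∧ ∀ R : Subgroup G, R ≤ P → R ≠ ⊥ → 𝐍(R) ≤ M :=
  h.c3 hp hP hn h1 h2

theorem V4.coatom (h : V4 S t s) : IsCoatom 𝐂[t] := h.coatom'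

end Cfsg.Agent.AG
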