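import Cfsg.Agent.AG.IV1
import Cfsg.Agent.AG.Del

/-! Section V2: a maximal subgroup containing `F(C(t)) C(S)` (see `notes/s2554_plan.md`). -/

set_option autoImplicit false
set_option linter.unusedSectionVars false

namespace Cfsg.Agent.AG

open Subgroup Cfsg.Agent.FT
open scoped commutatorElement

universe u
variable {G : Type u} [Group G] [Finite G]

variable {S M : Subgroup G} {t s : G}

/-- an `r`-subgroup of a solvable A-group normalized by the Fitting subgroup lies in it -/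
theorem IsA.le_fit (hA : IsA G) {H Y : Subgroup G} (hs : Group.IsSolvable H) {r : ℕ} [Fact r.Prime]
    (hY : IsPGroup r Y) (h1 : Y ≤ H) (h2 : fit H ≤ 𝐍(Y)) : Y ≤ fit H := by
  refine le_trans (le_inf h1 (cent_symm (fit_le_of_forall_pcore fun q _ => ?_))) (cent_fit_le hs)
  by_cases e : q = r
  · subst e
    exact hA.le_cent (core_isPGroup H) hY ((pcore_le_fit H).trans h2)
  · exact commute_of_coprime ((pcore_le_fit H).trans h2) (h1.trans (core_nrm _ _).norm)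
      (coprime_of_isPGroup_ne (core_isPGroup H) hY e)

theorem commute_of_coprime' {Z F Y : Subgroup G} (hc : (♯Z).Coprime ♯F) (h1 : Z ≤ 𝐍(F))
    (h2 : F ⊓ Y ≤ 𝐍(Z)) : F ⊓ Y ≤ 𝐂(Z) :=
  le_cent_iff_commutator.2 (le_bot_iff.1 (inf_eq_bot_of_coprime' hc ▸ le_inf
    (commutator_le_right' h2) ((commutator_mono inf_le_left le_rfl).trans (commutator_le_left' h1))))

theorem V4.t_mem_fit (h : V4 S t s) : t ∈ fit 𝐂[t] :=
  ctr_le_fit _ ⟨mem_cent1_self t, le_cent1_iff.1 le_rfl⟩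

theorem V4.S_le (h : V4 S t s) : S ≤ 𝐂(S) := h.elem.le_cent

theorem V4.fit_aux (h : V4 S t s) (h2 : 𝐂(S) ≤ M) {r : ℕ} [Fact r.Prime] {Z : Subgroup G}
    (hZ : IsPGroup r Z) (ho : Odd ♯Z) (hn : M ≤ 𝐍(Z)) (h3 : Z ⊓ 𝐂[t] = ⊥)
    (h4 : core {r} 𝐂[t] = ⊥) : Z ⊓ 𝐂[s] = ⊥ := by
  have hA := h.min.sim.isA
  obtain ⟨ρ, -, e, -⟩ := h.rho
  have h5 : core {r} 𝐂[s] = ⊥ := by rw [← e, ← cj_cent1, ← cj_core, h4, cj_bot]
  have hsol := h.symm.solv
  have hts : t ∈ 𝐂[s] := mem_cent1_iff.2 h.comm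
  set F := Oo (fit 𝐂[s]) with hF
  have nF : F ⊴ 𝐂[s] := (fit_nrm _).core _
  have cF : IsMulCommutative F := isMulCommutative_of_le (core_le _ _) (hA.comm_of_nil (fit_nil _))
  have hZ' : IsPGroup r ↥(Z ⊓ 𝐂[s]) := isPGroup_of_le inf_le_left hZ
  have k1 : ∀ Y : Subgroup G, Y ≤ fit 𝐂[s] → IsPGroup r Y → Y = ⊥ := fun Y a b =>
    le_bot_iff.1 ((le_core_of_nil (fit_nil _) a (piG_singleton_iff.2 b)).trans
      ((core_fit _).trans h5).le)
  have cop : (♯(Z ⊓ 𝐂[s] : Subgroup G)).Coprime ♯F := by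
    refine coprime_of_isPGroup hZ' (piG_compl_singleton.2 fun hd => ?_)
    obtain ⟨P, hP⟩ := exists_syl r F
    exact hP.ne_bot hd (k1 P (hP.le.trans (core_le _ _)) hP.isPGroup)
  have nZF : Z ⊓ 𝐂[s] ≤ 𝐍(F) := inf_le_right.trans nF.norm
  have k2 : F ⊓ 𝐂[t] ≤ 𝐂(Z ⊓ 𝐂[s]) := commute_of_coprime' cop nZF (le_normalizer_inf
    (((inf_le_inf_right _ nF.le).trans (by rw [inf_comm, ← h.centS])).trans (h2.trans hn))
    ((inf_le_left.trans nF.le).trans le_normalizer))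
  have tZ : t ∈ 𝐍(Z ⊓ 𝐂[s]) := inf_normalizer_le_normalizer_inf
    ⟨hn (h2 (h.S_le h.tS)), le_normalizer hts⟩
  have k3 := H2.centralizer_inf_commutator_eq_bot nZF cop cF
  have hV : ⁅F, Z ⊓ 𝐂[s]⁆ ≤ F := commutator_le_left' nZF
  have k4 : ⁅F, Z ⊓ 𝐂[s]⁆ ⊓ 𝐂[t] = ⊥ :=
    le_bot_iff.1 (k3 ▸ le_inf ((inf_le_inf_right _ hV).trans k2) inf_le_left)
  have k5 : Z ⊓ 𝐂[s] ≤ 𝐂(⁅F, Z ⊓ 𝐂[s]⁆) := le_cent_of_inv (odd_of_le inf_le_left ho)
    (right_le_normalizer_commutator _ _)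
    (inv_of_fpf h.t2 tZ (le_bot_iff.1 (h3 ▸ inf_le_inf_right _ inf_le_left)))
    (inv_of_fpf h.t2 (le_normalizer_commutator (A := zpowers t) (zpowers_le.2 (nF.norm hts))
      (zpowers_le.2 tZ) (mem_zpowers t)) k4)
  have k6 : Z ⊓ 𝐂[s] ≤ 𝐂(F) :=
    le_cent_iff_commutator'.2 (le_bot_iff.1 (k3 ▸ le_inf (cent_symm k5) le_rfl))
  refine k1 _ (le_trans (le_inf inf_le_right ?_) (cent_fit_le hsol)) hZ'
  rw [← core_sup_core_of_nil {2} (fit_nil _), cent_sup]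
  refine le_inf ?_ k6
  rw [core_fit]
  refine le_trans (fun x hx => h.symm.mem_oo hx.2 (odd_orderOf ho hx.1)) ?_
  exact cent_symm (core_le_cent_core_compl _ _)

theorem V4.fit_le' (h : V4 S t s) (h1 : fit 𝐂[t] ≤ M) (h2 : 𝐂(S) ≤ M) : fit M ≤ fit 𝐂[t] := by
  have hA := h.min.sim.isA
  refine fit_le_of_forall_pcore fun r hr => ?_
  have hZ : IsPGroup r (core {r} M) := core_isPGroup M
  have nZ : M ≤ 𝐍(core {r} M) := (core_nrm _ _).norm
  refine hA.le_fit h.solv hZ ?_ (h1.trans nZ)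
  by_cases h4 : core {r} 𝐂[t] = ⊥
  · have hr2 : r ≠ 2 := by
      rintro rfl
      have := le_core_of_nil (fit_nil _) (zpowers_le.2 h.t_mem_fit)
        (piG_singleton_iff.2 (isPGroup_zp h.t2))
      rw [core_fit, h4] at this
      exact ne_one_of_two' h.t2 (mem_bot.1 (this (mem_zpowers t)))
    have ho : Odd ♯(core {r} M) := odd_iff_piG.2 (piG_compl_of_isPGroup_ne hZ hr2)
    have h3 : core {r} M ⊓ 𝐂[t] = ⊥ := by
      have k1 : IsPGroup r ↥(core {r} M ⊓ 𝐂[t]) := isPGroup_of_le inf_le_left hZ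
      have k2 := hA.le_fit h.solv k1 inf_le_right
        (le_normalizer_inf (h1.trans nZ) ((fit_le _).trans le_normalizer))
      exact le_bot_iff.1 ((le_core_of_nil (fit_nil _) k2 (piG_singleton_iff.2 k1)).trans
        ((core_fit _).trans h4).le)
    refine le_of_four h.elem h.card.ge ho ((h.S_le.trans h2).trans nZ) fun a ha ha1 => ?_
    rcases h.mem.1 ha with e | rfl | rfl | rfl
    · exact absurd e ha1
    · exact inf_le_right
    · exact (h.fit_aux h2 hZ ho nZ h3 h4).le.trans bot_le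
    · exact (h.third.fit_aux h2 hZ ho nZ h3 h4).le.trans bot_le
  · rw [← h.min.sim.norm_eq h.coatom h4 (core_nrm _ _)]
    exact (cent_symm (hA.le_cent (core_isPGroup _) hZ
      (((pcore_le_fit _).trans h1).trans nZ))).trans (cent_le_norm _)

theorem V4.fit_le (h : V4 S t s) (hM : IsCoatom M) (hne : M ≠ 𝐂[t]) (h1 : fit 𝐂[t] ≤ M)
    (h2 : 𝐂(S) ≤ M) : fit M ≤ 𝐂[t] ∧ Oo (fit M) ≤ fit 𝐂[t] ∧ ¬ Group.IsSolvable M := by
  have k := h.fit_le' h1 h2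
  refine ⟨k.trans (FT.fit_le _), (core_le _ _).trans k, fun hs => hne ?_⟩
  have e : fit M = fit 𝐂[t] := le_antisymm k (le_trans (le_inf h1 ((comm_iff_le_cent.1
    (h.min.sim.isA.comm_of_nil (fit_nil _))).trans (cent_anti k))) (cent_fit_le hs))
  have h0 := ne_bot_of_mem h.t_mem_fit (ne_one_of_two' h.t2)
  rw [← h.min.sim.norm_eq h.coatom h0 (fit_nrm _), ← e, h.min.sim.norm_eq hM (e ▸ h0) (fit_nrm _)]

theorem V4.fit_oo_le (h : V4 S t s) : fit (Oo 𝐂[t]) ≤ fit 𝐂[t] := fit_le_fit_of_nrm (core_nrm _ _)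

theorem V4.map_oo (h : V4 S t s) {K : Subgroup G} (ht : t ∈ K) :
    (Oo 𝐂[(⟨t, ht⟩ : K)]).map K.subtype = K ⊓ Oo 𝐂[t] := by
  have hc : ∀ x : K, x ∈ 𝐂[(⟨t, ht⟩ : K)] ↔ (x : G) ∈ 𝐂[t] := fun x => by
    rw [mem_cent1_iff, mem_cent1_iff, Subtype.ext_iff]; rfl
  refine le_antisymm ?_ fun x hx => ⟨⟨x, hx.1⟩, ?_, rfl⟩
  · rintro _ ⟨x, hx, rfl⟩
    refine ⟨x.2, h.mem_oo ((hc x).1 (core_le _ _ hx)) ?_⟩
    have := odd_orderOf (odd_oo _) hx
    rwa [← Subgroup.orderOf_coe] at this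
  · refine le_oo_of_nrm (D := (Oo 𝐂[t]).subgroupOf K) ⟨fun y hy => (hc y).2 (core_le _ _ hy),
      le_normalizer_of_conj_mem fun g hg y hy => ?_⟩ ?_ hx.2
    · exact (core_nrm _ _).conj_mem ((hc g).1 hg) hy
    · refine odd_iff_piG.2 (piG_of_forall fun y hy => ?_)
      have : PiE {2}ᶜ (y : G) := (core_piG {2}ᶜ 𝐂[t]).piE hy
      rwa [PiE, Subgroup.orderOf_coe] at this

theorem V4.struct (h : V4 S t s) (hM : IsCoatom M) (hne : M ≠ 𝐂[t]) (h1 : fit 𝐂[t] ≤ M)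
    (h2 : 𝐂(S) ≤ M) : ∃ K : Subgroup G, Sim K ∧ Good K ∧ S ≤ K ∧ K ⊴ M ∧
      fit (Oo 𝐂[t]) ⊓ 𝐂[s] ⊴ M ∧ fit (Oo 𝐂[t]) ⊓ 𝐂[s] ≤ 𝐂(K) ∧
      K ⊓ Oo 𝐂[t] = ⁅fit (Oo 𝐂[t]), zpowers s⁆ ∧ IsCyclic ↥(K ⊓ Oo 𝐂[t]) ∧
      (∀ x ∈ K ⊓ Oo 𝐂[t], s * x * s⁻¹ = x⁻¹) ∧
      M ⊓ Oo 𝐂[t] = (K ⊓ Oo 𝐂[t]) ⊔ Oo 𝐂(S) ∧
      (4 * ♯(K ⊓ Oo 𝐂[t]) - 1) * (2 * ♯(K ⊓ Oo 𝐂[t]) - 1) ≤
        Nat.card {x : G // x ∈ K ∧ orderOf x = 2} := by
  have hG := h.min
  have hA := hG.sim.isA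
  have k0 := h.fit_le' h1 h2
  have hSM := h.S_le.trans h2
  have hS := h.syl_of_le hSM
  obtain ⟨L, hL⟩ := exists_cmp hG hM.1 (h.fit_le hM hne h1 h2).2.2
  obtain ⟨f1, f2, f3, f4⟩ := hL.four hG hM.1 hS h.card
  have cFH := comm_iff_le_cent.1 (hA.comm_of_nil (fit_nil 𝐂[t]))
  have hC : S ≤ 𝐂(fit M) := by
    have nC : M ≤ 𝐍(𝐂(fit M)) := le_normalizer_centralizer (fit_nrm M).norm
    have tC : t ∈ 𝐂(fit M) := cent_anti k0 (cFH h.t_mem_fit)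
    obtain ⟨n, hn, hn'⟩ := SetLike.not_le_iff_exists.1 f4
    have := conj_mem_of_mem_normalizer (nC (hL.le hn.1)) tC
    have sC : s ∈ 𝐂(fit M) := by
      rcases h.trans hn.2 hn' with ⟨e, -⟩ | ⟨e, -⟩
      · exact e ▸ this
      · rw [e] at this; simpa using mul_mem (inv_mem tC) this
    intro x hx
    rcases h.mem.1 hx with rfl | rfl | rfl | rfl
    exacts [one_mem _, tC, sC, mul_mem tC sC]
  have nO : fit (Oo M) ⊴ M := (core_nrm _ _).fit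
  have hfo : fit (Oo M) ≤ fit M := le_fit nO (fit_nil _)
  have hSO : S ≤ 𝐂(Oo M) := le_trans (le_inf le_rfl (hC.trans (cent_anti hfo)))
    (coprime_cent_Fitting (hSM.trans (core_nrm _ _).norm) (cop2 hS.isPGroup (odd_oo _))
      (solv_of_odd (odd_oo _)))
  obtain ⟨r1, r2, -, -⟩ := hL.res_sim hA hS (inf_le_left.trans hSO)
  set K := res L with hK
  have hSK : S ≤ K := (le_inf le_rfl f1).trans (hL.le_res hS)
  have nK : K ⊴ M := ⟨(res_le L).trans hL.le, f2.norm.trans (norm_le_norm_res L)⟩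
  have gK : Good K := r1.good (hG.ih K r1 (lt_of_le_of_ne (card_le_card_group K) fun e =>
    hM.1 (top_le_iff.1 (eq_top_of_card_eq K e ▸ nK.le))))
  set U := Oo 𝐂[t] with hU
  set F := fit U with hF
  have nF : F ⊴ 𝐂[t] := (core_nrm _ _).fit
  have oF : Odd ♯F := odd_of_le (FT.fit_le _) (odd_oo _)
  have cF : F ≤ 𝐂(F) := comm_iff_le_cent.1 (hA.comm_of_nil (fit_nil _))
  have hFM : F ≤ M := h.fit_oo_le.trans h1
  have hst : s ∈ 𝐂[t] := mem_cent1_iff.2 h.comm.symm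
  have k1 : F ⊓ 𝐂[s] ≤ Oo M := le_trans (le_inf inf_le_left (by
      rw [h.centS]; exact inf_le_inf_right _ nF.le))
    (hL.v3 hG hM.1 hS h.card h.tS h.t2 (le_inf hFM nF.le) oF (comm_iff_le_cent.2 cF)
      (inf_le_right.trans nF.norm))
  have k2 : F ⊓ 𝐂[s] ≤ 𝐂(K) := k1.trans (cent_symm r2)
  have k3 : fit (Oo M) = F ⊓ 𝐂[s] := by
    have a1 : fit (Oo M) ≤ F := by
      rw [hF, fit_eq_of_nrm (core_nrm _ 𝐂[t])]
      exact le_inf (hfo.trans k0) fun x hx => h.mem_oo (FT.fit_le _ (k0 (hfo hx)))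
        (odd_orderOf (odd_oo M) (FT.fit_le _ hx))
    refine le_antisymm (le_inf a1 (((FT.fit_le _).trans (cent_symm hSO)).trans (cent_le_cent1 h.sS)))
      (le_trans (le_inf k1 ((inf_le_left.trans cF).trans (cent_anti a1)))
        (cent_fit_le (solv_of_odd (odd_oo _))))
  have e1 := h.map_oo (hSK h.tS)
  have tK2 : orderOf (⟨t, hSK h.tS⟩ : K) = 2 := by rw [← Subgroup.orderOf_coe]; exact h.t2
  have sK2 : orderOf (⟨s, hSK h.sS⟩ : K) = 2 := by rw [← Subgroup.orderOf_coe]; exact h.s2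
  have k4 : IsCyclic ↥(K ⊓ U) := e1 ▸ isCyclic_map (gK.cyc _ tK2) _
  have k5 : ∀ x ∈ K ⊓ U, s * x * s⁻¹ = x⁻¹ := by
    rw [← e1]
    rintro _ ⟨x, hx, rfl⟩
    exact congrArg Subtype.val (gK.inv _ _ tK2 sK2 (fun e => h.ne (congrArg Subtype.val e).symm)
      (Subtype.ext h.comm.symm) x hx)
  have k6 : ∀ Y : Subgroup G, Y ≤ M ⊓ U → s ∈ 𝐍(Y) → ⁅Y, zpowers s⁆ ≤ K ⊓ U := fun Y a b =>
    le_inf ((commutator_mono le_rfl (zpowers_le.2 (hSK h.sS))).trans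
      (commutator_le_right' ((a.trans inf_le_left).trans nK.norm)))
      ((commutator_le_left' (zpowers_le.2 b)).trans (a.trans inf_le_right))
  have k7 := k6 F (le_inf hFM (FT.fit_le _)) (nF.norm hst)
  have k8 : K ⊓ U ≤ F := by
    refine le_trans (le_inf inf_le_right (cent_symm ?_)) (cent_fit_le (solv_of_odd (odd_oo _)))
    refine le_of_cop (isPGroup_zp h.s2) oF (zpowers_le.2 (nF.norm hst))
      (k7.trans (comm_iff_le_cent.1 (comm_of_isCyclic k4))) ?_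
    rw [cent_zpowers]
    exact k2.trans (cent_anti inf_le_left)
  refine ⟨K, r1, gK, hSK, nK, k3 ▸ nO, k2, le_antisymm (fun x hx => mem_comm_of_inv (k8 hx)
    (mem_zpowers s) (odd_orderOf oF (k8 hx)) (k5 x hx)) k7, k4, k5, ?_, ?_⟩
  · rw [h.oo_centS]
    have nMU : s ∈ 𝐍(M ⊓ U) := inf_normalizer_le_normalizer_inf
      ⟨le_normalizer (hSM h.sS), (core_nrm _ _).norm hst⟩
    refine le_antisymm (le_of_cop (isPGroup_zp h.s2) (odd_of_le inf_le_right (odd_oo _))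
      (zpowers_le.2 nMU) ((k6 _ le_rfl nMU).trans le_sup_left) ?_)
      (sup_le (inf_le_inf_right _ nK.le) (le_inf (le_trans ?_ h2) inf_le_left))
    · rw [cent_zpowers]
      exact (inf_le_inf_right _ inf_le_right).trans le_sup_right
    · rw [h.centS]; exact inf_le_inf_right _ (core_le _ _)
  · have hS' : Syl 2 (S.subgroupOf K) ⊤ := ⟨le_top, H1.isPGroup_subgroupOf hS.isPGroup K, by
      rw [relIndex_top_right]; exact (h.syl_of_le hSK).not_dvd⟩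
    have := gK.cnt _ hS' (by rw [Nat.card_congr (subgroupOfEquivOfLe hSK).toEquiv, h.card]) _ tK2
    rw [← card_map_of_injective (f := K.subtype) K.subtype_injective, e1] at this
    refine this.trans (le_of_eq (Nat.card_congr ⟨fun x => ⟨x.1, x.1.2, by
      rw [Subgroup.orderOf_coe]; exact x.2⟩, fun x => ⟨⟨x.1, x.2.1⟩, by
      rw [← Subgroup.orderOf_coe]; exact x.2.2⟩, fun _ => rfl, fun _ => rfl⟩))

end Cfsg.Agent.AG
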