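import Cfsg.Agent.AG.IV2
import Cfsg.Agent.AG.IVC1

/-! Section V3: counting involutions (see `notes/s2554_plan.md`). -/

set_option autoImplicit false
set_option linter.unusedSectionVars false

namespace Cfsg.Agent.AG

open Subgroup Cfsg.Agent.FT
open scoped commutatorElement

universe u
variable {G : Type u} [Group G] [Finite G]

variable {S M : Subgroup G} {t s : G}

theorem v3_cls {A : Subgroup G} {P : G → Prop} (h : ∀ x, P x → ∃ m ∈ A, m * t * m⁻¹ = x) :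
    Nat.card {x // P x} ≤ (𝐂[t]).relIndex A := by
  choose m hm e using h
  refine Nat.card_le_card_of_injective
    (fun x : {x // P x} => ((⟨m x.1 x.2, hm _ _⟩ : A) : A ⧸ (𝐂[t]).subgroupOf A)) fun x y k => ?_
  have k1 : (m x.1 x.2)⁻¹ * m y.1 y.2 ∈ 𝐂[t] := mem_subgroupOf.1 (QuotientGroup.eq.1 k)
  apply Subtype.ext
  rw [← e x.1 x.2, ← e y.1 y.2]
  have := mem_cent1_iff.1 k1
  calc m x.1 x.2 * t * (m x.1 x.2)⁻¹
      = m x.1 x.2 * (t * ((m x.1 x.2)⁻¹ * m y.1 y.2)) * (m y.1 y.2)⁻¹ := by group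
    _ = _ := by rw [← this]; group

theorem v3_out {A B : Subgroup G} {p q : A ⧸ B.subgroupOf A}
    (h : (p.out : G)⁻¹ * (q.out : G) ∈ B) : p = q := by
  rw [← p.out_eq, ← q.out_eq]; exact QuotientGroup.eq.2 h

theorem v3_ti {H Y E : Subgroup G} (h1 : ∀ g ∈ H, cj g Y ≤ E)
    (h2 : ∀ g ∈ H, g ∉ M → Y ⊓ cj g Y = ⊥) : M.relIndex H * (♯Y - 1) ≤ ♯E - 1 := by
  have c : ∀ X : Subgroup G, Nat.card {x : X // x ≠ 1} = ♯X - 1 := fun X => by
    classical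
    have := Fintype.ofFinite X
    rw [Nat.card_eq_fintype_card, Fintype.card_subtype_compl, Nat.card_eq_fintype_card]; simp
  rw [← c, ← c, relIndex, index, ← Nat.card_prod]
  refine Nat.card_le_card_of_injective (fun x : (H ⧸ M.subgroupOf H) × {x : Y // x ≠ 1} =>
    (⟨⟨x.1.out * x.2.1 * (x.1.out : G)⁻¹, h1 _ x.1.out.2 (conj_mem_cj x.2.1.2)⟩,
      fun e => x.2.2 (Subtype.ext (by simpa using congrArg Subtype.val e))⟩ : {x : E // x ≠ 1})) ?_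
  rintro ⟨p, y⟩ ⟨q, z⟩ e
  have e1 : (p.out : G) * y.1 * (p.out : G)⁻¹ = q.out * z.1 * (q.out : G)⁻¹ :=
    congrArg (fun x : {x : E // x ≠ 1} => (x.1 : G)) e
  obtain rfl : p = q := v3_out (by
    by_contra hn
    have : (y.1 : G) ∈ Y ⊓ cj ((p.out : G)⁻¹ * q.out) Y := ⟨y.1.2, by
      have e2 : (y.1 : G) = (p.out : G)⁻¹ * q.out * z.1 * ((p.out : G)⁻¹ * q.out)⁻¹ := by
        calc (y.1 : G) = (p.out : G)⁻¹ * (p.out * y.1 * (p.out : G)⁻¹) * p.out := by group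
          _ = _ := by rw [e1]; group
      rw [e2]; exact conj_mem_cj z.1.2⟩
    rw [h2 _ (mul_mem (inv_mem p.out.2) q.out.2) hn] at this
    exact y.2 (Subtype.ext this))
  have : y = z := Subtype.ext (Subtype.ext (by simpa using e1))
  rw [this]

theorem v3_geo {H : Subgroup G}
    (h : ∀ x ∈ M, ∀ g ∈ H, ∀ g' ∈ H, g ∉ M → g' ∉ M → g'⁻¹ * x * g ∈ M → x ∈ H) :
    H.relIndex M * H.relIndex M * (M.relIndex H - 1) ≤ H.index * M.relIndex H := by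
  have c : Nat.card {x : H ⧸ M.subgroupOf H // x ≠ ((1 : H) : H ⧸ M.subgroupOf H)} =
      M.relIndex H - 1 := by
    classical
    have := Fintype.ofFinite (H ⧸ M.subgroupOf H)
    rw [Nat.card_eq_fintype_card, Fintype.card_subtype_compl, relIndex, index,
      Nat.card_eq_fintype_card]; simp
  have k : H.relIndex M * (M.relIndex H - 1) ≤ M.index := by
    rw [← c, relIndex, index, ← Nat.card_prod]
    have o : ∀ x : {x : H ⧸ M.subgroupOf H // x ≠ ((1 : H) : H ⧸ M.subgroupOf H)},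
        (x.1.out : G) ∉ M := fun x hx => x.2 (by
      rw [← x.1.out_eq]; exact QuotientGroup.eq.2 (by simpa [mem_subgroupOf] using hx))
    refine Nat.card_le_card_of_injective (fun x : (M ⧸ H.subgroupOf M) × _ =>
      (((x.1.out : G) * (x.2.1.out : G) : G) : G ⧸ M)) ?_
    rintro ⟨p, y⟩ ⟨q, z⟩ e
    have e1 : ((p.out : G) * (y.1.out : G))⁻¹ * ((q.out : G) * (z.1.out : G)) ∈ M :=
      QuotientGroup.eq.1 e
    obtain rfl : p = q := v3_out (h _ (mul_mem (inv_mem p.out.2) q.out.2) _ z.1.out.2 _ y.1.out.2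
      (o z) (o y) (by simpa [mul_assoc] using e1))
    have : y = z := Subtype.ext (v3_out (by simpa [mul_assoc] using e1))
    rw [this]
  have e1 := relIndex_mul_index (inf_le_left : H ⊓ M ≤ H)
  have e2 := relIndex_mul_index (inf_le_right : H ⊓ M ≤ M)
  rw [inf_relIndex_left] at e1
  rw [inf_relIndex_right] at e2
  rw [mul_assoc, mul_comm H.index, e1, ← e2]
  exact Nat.mul_le_mul_left _ k

theorem v3_num {k n j N m : ℕ} (hk : 3 ≤ k) (hn : 2 ≤ n) (h1 : n ≤ k + 1)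
    (h2 : (4 * k - 1) * (2 * k - 1) ≤ j) (h3 : j * j * (n - 1) ≤ N * n) (h4 : N ≤ 15 * m ^ 2)
    (h5 : m ≤ n * k) : False := by
  obtain ⟨a, rfl⟩ : ∃ a, n = a + 2 := ⟨n - 2, by omega⟩
  obtain ⟨c, rfl⟩ : ∃ c, k = c + 3 := ⟨k - 3, by omega⟩
  rw [show 4 * (c + 3) - 1 = 4 * c + 11 by omega, show 2 * (c + 3) - 1 = 2 * c + 5 by omega] at h2
  rw [show a + 2 - 1 = a + 1 by omega] at h3
  have e1 : (a + 2) ^ 3 * (c + 3) ≤ (c + 4) ^ 3 * (a + 1) := by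
    obtain ⟨d, hd⟩ : ∃ d, c + 2 = a + d := ⟨c + 2 - a, by omega⟩
    rw [show c + 3 = a + d + 1 by omega, show c + 4 = a + d + 2 by omega]
    nlinarith [Nat.zero_le (a * a * d), Nat.zero_le (a * d * d), Nat.zero_le (d * d * d),
      Nat.zero_le (a * a * a * d), Nat.zero_le (a * a * d * d), Nat.zero_le (a * d * d * d),
      Nat.zero_le (a * d), Nat.zero_le (d * d)]
  have e2 : 15 * (c + 4) ^ 3 * (c + 3) < ((4 * c + 11) * (2 * c + 5)) ^ 2 := by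
    nlinarith [Nat.zero_le (c ^ 2), Nat.zero_le (c ^ 3), Nat.zero_le (c ^ 4)]
  have e3 := Nat.mul_le_mul h2 h2
  have e4 : N * (a + 2) ≤ 15 * ((a + 2) * (c + 3)) ^ 2 * (a + 2) :=
    Nat.mul_le_mul_right _ (h4.trans (Nat.mul_le_mul_left _ (Nat.pow_le_pow_left h5 2)))
  have e5 := Nat.mul_le_mul_right (a + 1) e3
  have e6 := Nat.mul_lt_mul_of_pos_right e2 (show 0 < a + 1 by omega)
  have e7 := Nat.mul_le_mul_left (15 * (c + 3)) e1
  nlinarith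

theorem V4.cls (h : V4 S t s) {K : Subgroup G} (hK : Sim K) (hS : S ≤ K) {x : G} (hx : x ∈ K)
    (h2 : orderOf x = 2) : ∃ m ∈ K, m * t * m⁻¹ = x := by
  obtain ⟨n, hn, hn'⟩ : ∃ n ∈ K ⊓ 𝐍(S), n ∉ 𝐂(S) := SetLike.not_le_iff_exists.1 fun e => by
    have e1 := h.oo_sup hS e
    rcases s1_nrm hK.simple (core_nrm {2}ᶜ K) with e2 | e2
    · rw [show Oo K = ⊥ from e2, bot_sup_eq] at e1
      exact hK.na (e1 ▸ h.elem.1)
    · exact not_odd_of_inv hx h2 (e2 ▸ odd_oo K)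
  obtain ⟨m, hm, e⟩ := exists_conj_mem_syl (h.syl_of_le hS) hx h2
  have k : ∀ g ∈ K, g * t * g⁻¹ = m * x * m⁻¹ → ∃ m ∈ K, m * t * m⁻¹ = x := fun g hg e =>
    ⟨m⁻¹ * g, mul_mem (inv_mem hm) hg, by
      calc m⁻¹ * g * t * (m⁻¹ * g)⁻¹ = m⁻¹ * (g * t * g⁻¹) * m := by group
        _ = x := by rw [e]; group⟩
  rcases h.mem.1 e with e | e | e | e
  · exact absurd (by rw [← orderOf_conj' m x, e, orderOf_one] at h2; exact h2) (by decide)
  · exact k 1 (one_mem _) (by rw [e]; group)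
  · rcases h.trans hn.2 hn' with ⟨a, -⟩ | ⟨-, a⟩
    · exact k n hn.1 (a.trans e.symm)
    · exact k n⁻¹ (inv_mem hn.1) (by rw [e, ← a]; group)
  · rcases h.trans hn.2 hn' with ⟨a, b⟩ | ⟨a, -⟩
    · exact k (n * n) (mul_mem hn.1 hn.1) (by rw [e, ← b, ← a]; group)
    · exact k n hn.1 (a.trans e.symm)

theorem V4.count (h : V4 S t s) (hM : IsCoatom M) (hne : M ≠ 𝐂[t]) (h1 : fit 𝐂[t] ≤ M)
    (h2 : 𝐂(S) ≤ M) : fit (Oo 𝐂[t]) ⊓ 𝐂[s] = ⊥ := by
  by_contra h0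
  obtain ⟨K, sK, -, hSK, nK, nY, cY, eW, cycW, -, eM, cnt⟩ := h.struct hM hne h1 h2
  have hG := h.min.sim
  set U := Oo 𝐂[t] with hU
  set F := fit U with hF
  set Y := F ⊓ 𝐂[s] with hY
  set W := K ⊓ U with hW
  have nU : U ⊴ 𝐂[t] := core_nrm _ _
  have nF : F ⊴ 𝐂[t] := nU.fit
  have oF : Odd ♯F := odd_of_le (FT.fit_le _) (odd_oo _)
  have cF : F ≤ 𝐂(F) := comm_iff_le_cent.1 (hG.isA.comm_of_nil (fit_nil _))
  have hst : s ∈ 𝐂[t] := mem_cent1_iff.2 h.comm.symm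
  have hWF : W ≤ F := eW ▸ commutator_le_left' (zpowers_le.2 (nF.norm hst))
  have eF : F ≤ W ⊔ Y := le_of_cop (isPGroup_zp h.s2) oF (zpowers_le.2 (nF.norm hst))
    (eW ▸ le_sup_left) (cent_zpowers s ▸ le_sup_right)
  have nWY : W ≤ 𝐍(Y) := (hWF.trans (cF.trans (cent_anti inf_le_left))).trans (cent_le_norm _)
  have eN : 𝐍(Y) = M := hG.norm_eq hM h0 nY
  have cjF : ∀ g ∈ 𝐂[t], H1.cj g Y ≤ F := fun g hg =>
    (cj_mono g inf_le_left).trans (cj_eq_iff_mem_normalizer.2 (nF.norm hg)).le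
  have hYS : Y ≤ 𝐂(S) := by rw [h.centS]; exact inf_le_inf_right _ nF.le
  have ti : ∀ g ∈ 𝐂[t], g ∉ M → Y ⊓ H1.cj g Y = ⊥ := fun g hg hgM => by
    by_contra hb
    obtain ⟨y, hy, y1⟩ := (bot_or_exists_ne_one _).resolve_left hb
    have hX := hG.cent_ne_top y1
    have k1 : K ≤ 𝐂[y] := (cent_symm cY).trans (cent_le_cent1 hy.1)
    have k2 : H1.cj g K ≤ 𝐂[y] :=
      (cj_mono g (cent_symm cY)).trans (by rw [cj_centralizer]; exact cent_le_cent1 hy.2)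
    have k3 : F ≤ 𝐂[y] ⊓ 𝐂[t] := le_inf (cF.trans (cent_le_cent1 hy.1.1)) nF.le
    obtain ⟨L, hL⟩ := exists_cmp h.min hX fun hs => sK.not_solvable (isSolvable_of_le k1 hs)
    have a1 := hL.v3 h.min hX (h.syl_of_le (hSK.trans k1)) h.card h.tS h.t2 k3 oF
      (comm_iff_le_cent.2 cF) (inf_le_right.trans nF.norm)
    have h' := h.cj g
    rw [show g * t * g⁻¹ = t by rw [mem_cent1_iff.1 hg]; group] at h'
    have a2 := hL.v3 h.min hX (h'.syl_of_le ((cj_mono g hSK).trans k2)) h'.card h'.tS h.t2 k3 oF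
      (comm_iff_le_cent.2 cF) (inf_le_right.trans nF.norm)
    have a3 : K ⊓ Oo 𝐂[y] = ⊥ := (s1_nrm sK.simple ⟨inf_le_left,
      le_normalizer_inf le_normalizer (k1.trans (core_nrm _ _).norm)⟩).resolve_right fun e =>
        not_odd_of_inv (hSK h.tS) h.t2 (e ▸ odd_of_le inf_le_right (odd_oo _))
    refine hgM (eN ▸ mem_normalizer_of_cj_le fun x hx => ?_)
    obtain ⟨w, hw, a, ha, rfl⟩ := (mem_sup_of_le_normalizer nWY).1 (eF (cjF g hg hx))
    have b1 := a2 ⟨cjF g hg hx, by rw [← cj_centralizer]; exact cj_mono g hYS hx⟩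
    have b2 : w ∈ K ⊓ Oo 𝐂[y] := ⟨hw.1, by simpa using mul_mem b1 (inv_mem (a1 ⟨ha.1, hYS ha⟩))⟩
    rw [a3, mem_bot] at b2
    rw [b2, one_mul]; exact ha
  let E : Subgroup G :=
    { carrier := {x | x ∈ F ∧ x ^ ♯Y = 1}
      one_mem' := ⟨one_mem _, one_pow _⟩
      inv_mem' := fun hx => ⟨inv_mem hx.1, by rw [inv_pow, hx.2, inv_one]⟩
      mul_mem' := fun {a b} ha hb => ⟨mul_mem ha.1 hb.1, by
        rw [Commute.mul_pow (mem_cent_iff.1 (cF hb.1) a ha.1), ha.2, hb.2, one_mul]⟩ }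
  have hEF : E ≤ F := fun _ hx => hx.1
  have nE : E ⊴ 𝐂[t] := ⟨hEF.trans nF.le, le_normalizer_of_conj_mem fun g hg x hx =>
    ⟨nF.conj_mem hg hx.1, by rw [conj_pow, hx.2]; group⟩⟩
  have hYE : Y ≤ E := fun x hx => ⟨hx.1, orderOf_dvd_iff_pow_eq_one.1 (orderOf_dvd_card' hx)⟩
  have cjE : ∀ g ∈ 𝐂[t], H1.cj g Y ≤ E := fun g hg =>
    (cj_mono g hYE).trans (cj_eq_iff_mem_normalizer.2 (nE.norm hg)).le
  have cE : ♯E ≤ ♯(E ⊓ W : Subgroup G) * ♯Y := by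
    have : E = (E ⊓ W) ⊔ Y := by
      rw [← inf_sup_of_le' hYE (Or.inl nWY), inf_eq_left.2 (hEF.trans eF)]
    refine Nat.le_of_dvd (Nat.mul_pos Nat.card_pos Nat.card_pos) ?_
    conv_lhs => rw [this, sup_comm]
    rw [mul_comm]; exact card_sup_dvd (inf_le_right.trans nWY)
  have cW : ♯(E ⊓ W : Subgroup G) ≤ ♯Y := by
    have := isCyclic_of_le (inf_le_right : E ⊓ W ≤ W)
    refine Nat.le_of_dvd Nat.card_pos ?_
    rw [← IsCyclic.exponent_eq_card]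
    exact Monoid.exponent_dvd_of_forall_pow_eq_one fun x => Subtype.ext x.2.1.2
  have cYY : ∀ g ∈ 𝐂[t], g ∉ M → ♯(Y ⊔ H1.cj g Y : Subgroup G) = ♯Y * ♯Y := fun g hg hgM => by
    rw [card_sup_of_inf_eq_bot (((cjF g hg).trans (cF.trans (cent_anti inf_le_left))).trans
      (cent_le_norm _)) (ti g hg hgM), card_cj]
  have eE : ∀ g ∈ 𝐂[t], g ∉ M → Y ⊔ H1.cj g Y = E := fun g hg hgM =>
    eq_of_le_of_card_ge (sup_le hYE (cjE g hg))
      (by rw [cYY g hg hgM]; exact cE.trans (Nat.mul_le_mul_right _ cW))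
  have NE : 𝐍(E) = 𝐂[t] := hG.norm_eq h.coatom (fun e => h0 (le_bot_iff.1 (e ▸ hYE))) nE
  have geo := v3_geo (M := M) (H := 𝐂[t]) fun x hx g hg g' hg' a b c => by
    rw [← NE, ← cj_eq_iff_mem_normalizer, ← eE g hg a, cj_sup, ← cj_mul,
      show x * g = g' * (g'⁻¹ * x * g) by group, cj_mul, cj_eq_iff_mem_normalizer.2 (nY.norm hx),
      cj_eq_iff_mem_normalizer.2 (nY.norm c), eE g hg a, eE g' hg' b]
  have nle : ¬ 𝐂[t] ≤ M := fun e => hM.1 (h.coatom.2 M (lt_of_le_of_ne e hne.symm))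
  obtain ⟨g, hg, hgM⟩ := SetLike.not_le_iff_exists.1 nle
  have c1 : ♯E = ♯Y * ♯Y := by rw [← eE g hg hgM, cYY g hg hgM]
  have c2 := one_lt_card.2 h0
  obtain ⟨f, hf⟩ : Odd ♯Y := odd_of_le inf_le_left oF
  have c3 : ♯Y ≤ ♯W := (Nat.le_of_mul_le_mul_right (c1 ▸ cE) Nat.card_pos).trans
    (card_le_of_le inf_le_right)
  have c4 := v3_ti cjE ti
  have c5 : M.relIndex 𝐂[t] ≤ ♯Y + 1 := by
    rw [c1, ← Nat.pow_two, ← one_pow 2, Nat.sq_sub_sq, one_pow] at c4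
    exact Nat.le_of_mul_le_mul_right c4 (by omega)
  have c6 : M.relIndex 𝐂[t] ≠ 1 := fun e => nle (relIndex_eq_one.1 e)
  have c7 := H2.relIndex_ne_zero' M 𝐂[t]
  refine v3_num (k := ♯W) (by omega) (by omega) (by omega) (cnt.trans (v3_cls fun x hx =>
    (h.cls sK hSK hx.1 hx.2).imp fun m hm => ⟨nK.le hm.1, hm.2⟩)) geo
    (vc_bound hG h.syl h.card h.tS h.sS h.t2 h.s2 h.ne h.oo_not_le) ?_
  have d1 := card_inf_mul_relIndex 𝐂[s] U
  have d2 := card_inf_mul_relIndex M U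
  rw [inf_comm, ← h.oo_centS] at d1
  have d3 : ♯(M ⊓ U : Subgroup G) ≤ ♯W * ♯(Oo 𝐂(S)) := by
    rw [eM]
    refine Nat.le_of_dvd (Nat.mul_pos Nat.card_pos Nat.card_pos) (card_sup_dvd ?_)
    have : Oo 𝐂(S) ≤ M ⊓ U := eM ▸ le_sup_right
    exact le_normalizer_inf (this.trans (inf_le_left.trans nK.norm))
      (this.trans (inf_le_right.trans le_normalizer))
  have d4 : M.relIndex U ≤ M.relIndex 𝐂[t] := relIndex_le_of_le_right nU.le c7
  refine Nat.le_of_mul_le_mul_left ?_ (Nat.card_pos (α := Oo 𝐂(S)))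
  rw [d1, ← d2]
  exact (Nat.mul_le_mul d3 d4).trans (le_of_eq (by ring))

end Cfsg.Agent.AG
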