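import Cfsg.Agent.AG.IJa
import Cfsg.Agent.AG.R2a

/-! The Janko-Ree case: balance. -/

set_option autoImplicit false
set_option linter.unusedSectionVars false

namespace Cfsg.Agent.AG

open Subgroup Cfsg.Agent.FT
open scoped commutatorElement

universe u
variable {G : Type u} [Group G] [Finite G] {S X L D R : Subgroup G}

/-- a prime dividing the order of a normal component: the block centralizes the invariant
`r`-subgroups of `O(X)` -/
theorem Cmp.blk_cent (hA : IsA G) (h : Cmp X L) (hn : L ⊴ X) (hS : Syl 2 S X) {r : ℕ} [Fact r.Prime]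
    (hr : r ∣ ♯(bar (Oo X) L)) (hR : R ≤ Oo X) (hp : IsPGroup r R) (hSR : S ≤ 𝐍(R)) :
    S ⊓ L ≤ 𝐂(R) := by
  have nO := (core_nrm {2}ᶜ X).norm
  obtain ⟨Q, hQ, h1, h2⟩ := exists_invariant_syl_ge (s1_nO hS.le) (cop2 hS.isPGroup (odd_oo X))
    (Or.inr (solv_of_odd (odd_oo X))) hp hR hSR
  refine le_trans ?_ (cent_anti h1)
  have hF := hQ.frattini' (core_nrm {2}ᶜ X)
  have QY : Q ≤ X ⊓ 𝐍(Q) := le_inf (hQ.le.trans (core_le _ _)) le_normalizer
  obtain ⟨P, hP, h3⟩ := exists_syl_ge hQ.isPGroup QY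
  have h4 : P ≤ X ⊓ 𝐂(Q) := le_inf (hP.le.trans inf_le_left)
    (hA.le_cent hP.isPGroup hQ.isPGroup (hP.le.trans inf_le_right))
  have nC : X ⊓ 𝐍(Q) ≤ 𝐍(X ⊓ 𝐂(Q)) :=
    le_normalizer_inf (inf_le_left.trans le_normalizer) (le_normalizer_centralizer inf_le_right)
  have nCO : X ≤ 𝐍(X ⊓ 𝐂(Q) ⊔ Oo X) := hF.ge.trans (sup_le (le_sup_right.trans le_normalizer)
    (le_normalizer_sup nC (inf_le_left.trans nO)))
  have bY : bar (Oo X) (X ⊓ 𝐍(Q)) = bar (Oo X) X := by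
    rw [← bar_self_sup (inf_le_left.trans nO), hF]
  rcases h.nrm (N := (X ⊓ 𝐂(Q) ⊔ Oo X) ⊓ L) (le_inf le_sup_right h.ge)
    ⟨inf_le_right, le_normalizer_inf (h.le.trans nCO) le_normalizer⟩ with e | e
  · have k1 := hP.bar (N := Oo X) (inf_le_left.trans nO)
    rw [bY] at k1
    refine absurd ?_ ((Syl.inf_of_nrm k1 (hn.bar _)).ne_bot hr)
    rw [← bar_inf _ h.ge]
    exact bar_eq_bot (e ▸ inf_le_inf_right _ (h4.trans le_sup_left))
  · have k1 : Syl 2 (S ⊓ (X ⊓ 𝐂(Q))) (X ⊓ 𝐂(Q)) :=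
      Syl.inf_of_nrm (hS.of_le (le_inf hS.le h2) inf_le_left)
        ⟨inf_le_inf_left _ (cent_le_norm Q), nC⟩
    have k2 := k1.bar (N := Oo X) (inf_le_left.trans nO)
    have k3 : bar (Oo X) L ≤ bar (Oo X) (X ⊓ 𝐂(Q)) := by
      rw [← bar_sup_self (H := X ⊓ 𝐂(Q)) (inf_le_left.trans nO)]
      exact bar_mono _ (e.ge.trans inf_le_left)
    have k4 := k2.eq_of_le (Q := bar (Oo X) S ⊓ bar (Oo X) (X ⊓ 𝐂(Q)))
      ((isPGroup_bar hS.isPGroup _).to_le inf_le_left) (bar_inf_le _ _ _) inf_le_right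
    intro s hs
    obtain ⟨c, hc, e1⟩ := (mem_bar' (inf_le_left.trans (s1_nO hS.le))).1
      (k4.le ⟨coset_mem_bar _ hs.1, k3 (coset_mem_bar _ hs.2)⟩)
    rw [← s1_inj hS hc.1 hs.1 e1]
    exact hc.2.2

theorem Cmp.selfc_le (hG : Min G) (hX : X ≠ ⊤) (h : Cmp X L) (hS : Syl 2 S X) (hR : R ≤ L)
    (ho : Odd ♯R) (hc : S ⊓ L ≤ 𝐂(R)) : R ≤ Oo X := fun x hx => by
  have xO := h.nO.norm (hR hx)
  have k := (h.good hG hX).selfc _ (h.syl_bar hS) (x := ⟨coset _ x, coset_mem_bar _ (hR hx)⟩)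
    (mem_cent_iff.2 fun y hy => Subtype.ext
      (mem_cent_iff.1 (bar_le_cent (Oo X) (cent_symm hc) (coset_mem_bar _ hx)) y.1 hy))
  have k1 : coset (Oo X) x ∈ bar (Oo X) (S ⊓ L) ⊓ bar (Oo X) R := ⟨k, coset_mem_bar _ hx⟩
  rw [inf_eq_bot_of_coprime' (coprime_bar (cop2 (hS.isPGroup.to_le inf_le_left) ho) _), mem_bot] at k1
  exact (coset_eq_one_iff xO).1 k1

theorem Cmp.aut_cm (hG : Min G) (hX : X ≠ ⊤) (h : Cmp X L) (hS : Syl 2 S X) {a : G} (ha : a ∈ S)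
    (ha2 : orderOf a = 2) (hc : a ∉ cm X L) (hD : D ≤ X) (hn : D ≤ 𝐍(L)) (ho : Odd ♯D)
    (h1 : ⁅D, L ⊓ 𝐂[a]⁆ ≤ Oo X) : D ≤ cm X L := fun d hd => by
  obtain ⟨n, d1, -⟩ := h.dec hG hX hS
  have cS := comm_iff_le_cent.1 (hG.sim.isA.comm hS.isPGroup)
  obtain ⟨k, hk, b, hb, e⟩ := (H1.mem_sup_iff_of_le_normalizer' (H := S ⊓ cm X L) (L := S ⊓ L)
    (inf_le_left.trans (le_normalizer_inf le_normalizer n))).1 (d1.ge ha)
  have kO := h.nO.norm hk.2
  have bO := s1_nO hS.le hb.1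
  have dO := s1_nO hD hd
  have k1 : k ≠ 1 := by rintro rfl; exact hc (by rw [e, one_mul]; exact hb.2)
  let κ : bar (Oo X) L := ⟨coset _ k, coset_mem_bar _ hk.2⟩
  have k2 : orderOf κ = 2 := ((h.good hG hX).elem _ (h.syl_bar hS)).orderOf_eq (coset_mem_bar _ hk)
    fun e => k1 (s1_one hS.isPGroup hk.1 ((coset_eq_one_iff kO).1 (congrArg Subtype.val e)))
  let σ : 𝐍(bar (Oo X) L) := ⟨coset _ d, coset_mem_normalizer_bar dO (hn hd)⟩
  have k3 := (h.good hG hX).aut ((bar (Oo X) L).normalizerMonoidHom σ) κ k2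
    ((ho.of_dvd_nat (D.orderOf_dvd_natCard hd)).of_dvd_nat ((orderOf_map_dvd _ σ).trans
      ((orderOf_coe σ).symm.dvd.trans (orderOf_coset_dvd dO)))) fun x hx => by
      have x1 : x.1 ∈ bar (Oo X) L ⊓ 𝐂[coset (Oo X) a] := ⟨x.2, mem_cent1_iff.2 (by
        have e1 : x.1 * coset (Oo X) k = coset (Oo X) k * x.1 := congrArg Subtype.val (mem_cent1_iff.1 hx)
        rw [e, coset_mul kO bO, ← mul_assoc, e1, mul_assoc, mul_assoc,
          mem_cent_iff.1 (mem_unbar.1 hb.2.2).2 _ x.2])⟩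
      rw [← bar_inf_cent1 (s1_nO hS.le ha) (by rw [ha2]; exact Nat.coprime_two_left.2 (odd_oo X)) h.ge] at x1
      obtain ⟨y, hy, e2⟩ := (mem_bar' (inf_le_left.trans h.nO.norm)).1 x1
      have yO := h.nO.norm hy.1
      refine Subtype.ext ?_
      show coset (Oo X) d * x.1 * (coset (Oo X) d)⁻¹ = x.1
      have := coset_eq_one (h1 (commutator_mem_commutator hd hy))
      rw [coset_commutator dO yO, e2, commutatorElement_def, mul_inv_eq_one] at this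
      exact this
  refine ⟨hD hd, mem_unbar.2 ⟨dO, mem_cent_iff.2 fun y hy => ?_⟩⟩
  have : coset (Oo X) d * y * (coset (Oo X) d)⁻¹ = y :=
    congrArg Subtype.val (DFunLike.congr_fun k3 (⟨y, hy⟩ : bar (Oo X) L) :)
  exact (mul_inv_eq_iff_eq_mul.1 this).symm

theorem mem_zp2 {t x : G} (h : orderOf t = 2) (hx : x ∈ zpowers t) : x = 1 ∨ x = t := by
  classical
  rw [mem_zpowers_iff_mem_range_orderOf, h] at hx
  simp only [Finset.mem_image, Finset.mem_range] at hx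
  obtain ⟨i, hi, k2⟩ := hx
  interval_cases i
  · exact Or.inl (by simpa using k2.symm)
  · exact Or.inr (by simpa using k2.symm)

theorem J8.le_cent (h : J8 S) {a : G} (ha : a ∈ S) : S ≤ 𝐂[a] := h.elem.le_cent.trans (cent_le_cent1 ha)

theorem J8.bal' (h : J8 S) : Bal S := by
  intro a ha e he a2 e2
  have a1 : a ≠ 1 := by rintro rfl; simp at a2
  have e1 : e ≠ 1 := by rintro rfl; simp at e2
  by_cases hae : a = e
  · subst hae; exact inf_le_left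
  have hG := h.min
  have hX := hG.sim.cent_ne_top e1
  have hS := h.syl_of_le (h.le_cent he)
  have hS' := h.syl_of_le (h.le_cent ha)
  obtain ⟨L, hL, -, c2, c3, c4, -⟩ := h.cmp he e1
  obtain ⟨L', hL', -, c2', c3', c4', -⟩ := h.cmp ha a1
  obtain ⟨-, d1, -⟩ := hL'.dec hG (hG.sim.cent_ne_top a1) hS'
  obtain ⟨n, -, rfl⟩ := h.trans he e1 ha a1
  have hLn := hL.cj n
  rw [cj_cent1] at hLn
  have eL := c4' _ hLn
  have cb : ♯(bar (Oo 𝐂[n * e * n⁻¹]) L') = ♯(bar (Oo 𝐂[e]) L) := by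
    have k1 := card_bar_mul hL.nO
    have k2 := card_bar_mul hL'.nO
    rw [← eL, ← cj_oo_cent, card_cj, card_cj, ← k1] at k2
    rw [← eL, ← cj_oo_cent]
    exact Nat.eq_of_mul_eq_mul_right (card_pos' _) k2
  set a := n * e * n⁻¹
  have nD : 𝐂[a] ⊓ 𝐂[e] ≤ 𝐍(Oo 𝐂[a] ⊓ 𝐂[e]) :=
    le_normalizer_inf (inf_le_left.trans (core_nrm _ _).norm) (inf_le_right.trans le_normalizer)
  have SD := (le_inf (h.le_cent ha) (h.le_cent he)).trans nD
  have oD : Odd ♯(Oo 𝐂[a] ⊓ 𝐂[e] : Subgroup G) := odd_of_le inf_le_left (odd_oo _)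
  have oE : Odd ♯(Oo 𝐂[a] ⊓ 𝐂[e] ⊓ L : Subgroup G) := odd_of_le inf_le_left oD
  have k : Oo 𝐂[a] ⊓ 𝐂[e] ⊓ L ≤ Oo 𝐂[e] := by
    have nE := inf_le_right.trans hL.nO.norm (a := Oo 𝐂[a] ⊓ 𝐂[e] ⊓ L)
    rw [← bar_eq_bot_iff nE, ← card_eq_one]
    by_contra k0
    obtain ⟨r, hr, hd⟩ := Nat.exists_prime_and_dvd k0
    haveI := Fact.mk hr
    obtain ⟨R, hR, k1⟩ := exists_invariant_syl r (le_normalizer_inf SD (hS.le.trans c3.norm))
      (cop2 hS.isPGroup oE) (Or.inr (solv_of_odd oE))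
    have k2 := hL'.blk_cent hG.sim.isA c3' hS' (cb ▸ hd.trans (card_dvd_of_le' (bar_mono _ inf_le_right)))
      (hR.le.trans (inf_le_left.trans inf_le_left)) hR.isPGroup k1
    have k3 : S ≤ 𝐂(R) := by
      rw [← d1, c2']
      exact sup_le k2 (zpowers_le.2 (mem_cent_iff.2 fun x hx =>
        mem_cent1_iff.1 (core_le _ _ (hR.le hx).1.1)))
    refine (hR.bar nE).ne_bot hd (bar_eq_bot (hL.selfc_le hG hX hS (hR.le.trans inf_le_right)
      (odd_of_le hR.le oE) (inf_le_left.trans k3)))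
  refine le_oo hG hX hS inf_le_right oD SD fun L1 h1 => ?_
  rw [c4 L1 h1]
  refine hL.aut_cm hG hX hS ha a2 (fun k1 => ?_) inf_le_right (inf_le_right.trans c3.norm) oD
    (le_trans (le_inf ?_ ?_) k)
  · have : a ∈ zpowers e := c2.le ⟨ha, k1⟩
    exact (mem_zp2 e2 this).elim a1 hae
  · exact commutator_le_left' ((le_inf inf_le_right (inf_le_left.trans hL.le)).trans nD)
  · exact (commutator_mono le_rfl inf_le_left).trans
      (commutator_le_right' (inf_le_right.trans c3.norm))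

end Cfsg.Agent.AG
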