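import Cfsg.Agent.AG.Ja1
import Cfsg.Agent.JR.G1

/-! The Janko-Ree case: the signalizer functor is trivial. -/

set_option autoImplicit false
set_option linter.unusedSectionVars false

namespace Cfsg.Agent.AG

open Subgroup Cfsg.Agent.FT
open scoped commutatorElement

universe u
variable {G : Type u} [Group G] [Finite G] {S X L D W Q V T : Subgroup G} {a b : G}

theorem J8.two (h : J8 S) (ha : a ∈ S) (h1 : a ≠ 1) : orderOf a = 2 := h.elem.orderOf_eq ha h1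

theorem J8.se_of (h : J8 S) (h0 : Q ≠ ⊥) (ho : Odd ♯Q) (hN : 𝐍(S) ≤ 𝐍(Q)) (ha : a ∈ S) (h1 : a ≠ 1)
    (hc : 𝐂[a] ≤ 𝐍(Q)) : SE S := by
  refine ⟨𝐍(Q), h.min.sim.norm_ne_top h0 (fun e => ?_), hN, fun b hb h2 => ?_⟩
  · rw [e, card_top] at ho
    exact h.min.sim.not_solvable (odd_order_solvable ho)
  · obtain ⟨n, hn, rfl⟩ := h.trans ha h1 hb (by rintro rfl; simp at h2)
    rw [← cj_cent1, ← cj_eq_of_mem (hN hn)]
    exact cj_mono n hc

/-- centralizers of four-groups have no components -/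
theorem J8.le_oo2 (h : J8 S) (ha : a ∈ S) (h1 : a ≠ 1) (hb : b ∈ S) (hab : b ∉ zpowers a)
    (hD : D ≤ 𝐂[a] ⊓ 𝐂[b]) (ho : Odd ♯D) (hn : S ≤ 𝐍(D)) : D ≤ Oo (𝐂[a] ⊓ 𝐂[b]) := by
  have hX : 𝐂[a] ⊓ 𝐂[b] ≠ ⊤ := fun e => h.min.sim.cent_ne_top h1 (top_le_iff.1 (e.ge.trans inf_le_left))
  have hS := h.syl_of_le (le_inf (h.le_cent ha) (h.le_cent hb))
  refine le_oo h.min hX hS hD ho hn fun L hL => ?_
  obtain ⟨τ, hτ, k⟩ := hL.sing h.min hX hS
  have k1 := k.eq_cent h.elem.1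
  have k2 : zpowers a ⊔ zpowers b ≤ S ⊓ cm (𝐂[a] ⊓ 𝐂[b]) L := k1 ▸ sup_le
    (zpowers_le.2 ⟨ha, mem_cent1_comm.1 (hL.le hτ).1⟩) (zpowers_le.2 ⟨hb, mem_cent1_comm.1 (hL.le hτ).2⟩)
  have k3 := card_le_of_le' k2
  rw [card_fg h.elem ha h1 hb hab] at k3
  have k4 := card_sup_of_inf_eq_bot (k.le'.trans (h.elem.le_cent.trans
    ((cent_anti k.le).trans (cent_le_norm _)))) k.inf
  rw [k.sup, h.card] at k4
  have := k.four
  nlinarith

/-- without the generation property all invariant odd subgroups lie in `W` -/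
theorem J8.le_W (h : J8 S) (hb : ∀ a ∈ S, a ≠ 1 → ∀ L, Cmp 𝐂[a] L → ¬ Nb 𝐂[a] S L) (ho : Odd ♯D)
    (hn : S ≤ 𝐍(D)) : D ≤ W1 S := by
  refine le_of_four h.elem (by rw [h.card]; norm_num) ho hn fun a ha a1 => le_trans ?_ (oo_le_W1 ha a1)
  have hX := h.min.sim.cent_ne_top a1
  have hS := h.syl_of_le (h.le_cent ha)
  obtain ⟨L, hL, c1, c2, -, c4, -⟩ := h.cmp ha a1
  have o1 : Odd ♯(D ⊓ 𝐂[a] : Subgroup G) := odd_of_le inf_le_left ho
  have n1 : S ≤ 𝐍(D ⊓ 𝐂[a]) := le_normalizer_inf hn ((h.le_cent ha).trans le_normalizer)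
  refine le_oo h.min hX hS inf_le_right o1 n1 fun L1 h1 => ?_
  rw [c4 L1 h1]
  refine le_of_four (h.elem.of_le (inf_le_left (b := L))) c1.ge o1 (inf_le_left.trans n1) fun f hf f1 => ?_
  have fa : f ∉ zpowers a := fun e => f1 ((hL.dec h.min hX hS).2.2.le ⟨hf, c2.ge e⟩)
  refine (h.le_oo2 ha a1 hf.1 fa (inf_le_inf_right _ inf_le_right) (odd_of_le inf_le_left o1)
    (le_normalizer_inf n1 ((h.le_cent hf.1).trans le_normalizer))).trans ?_
  by_contra k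
  exact hb a ha a1 L hL (hL.bal h.min hX hS hf.1 (h.two hf.1 f1) (core_le _ _) (odd_oo _)
    (core_nrm _ _).norm k).2.2

theorem jb_comm (ha : orderOf a = 2) (ho : Odd ♯D) (hn : a ∈ 𝐍(D)) (h : ⁅D, zpowers a⁆ ≤ 𝐂[a]) :
    D ≤ 𝐂[a] := by
  rw [← cent_zpowers] at h ⊢
  rw [le_cent_iff_commutator, ← H2.commutator_commutator_eq (zpowers_le.2 hn)
    (by rw [Nat.card_zpowers, ha]; exact Nat.coprime_two_left.2 ho)]
  exact le_cent_iff_commutator.1 h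

theorem jb_inv (ha : orderOf a = 2) (ho : Odd ♯V) (hc : IsMulCommutative V) (hn : a ∈ 𝐍(V))
    (hQ : Q ≤ 𝐍(V)) (hQc : IsMulCommutative Q) (hnQ : a ∈ 𝐍(Q)) (hco : (♯Q).Coprime ♯V)
    (h : V ⊓ 𝐂[a] ≤ 𝐂(Q)) : V ≤ 𝐂(⁅Q, zpowers a⁆) := by
  have TQ : ⁅Q, zpowers a⁆ ≤ Q := commutator_le_left' (zpowers_le.2 hnQ)
  have dp := dp_of_coprime_comm (TQ.trans hQ) (hco.coprime_dvd_left (card_dvd_of_le' TQ)) hc
  set T := ⁅Q, zpowers a⁆ with hT
  have UV : ⁅V, T⁆ ≤ V := commutator_le_left' (TQ.trans hQ)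
  have aT : zpowers a ≤ 𝐍(T) := le_normalizer_commutator (zpowers_le.2 hnQ) le_normalizer
  have aU : a ∈ 𝐍(⁅V, T⁆) := le_normalizer_commutator (zpowers_le.2 hn) aT (mem_zpowers a)
  have QU : Q ≤ 𝐍(⁅V, T⁆) := le_normalizer_commutator hQ
    ((comm_iff_le_cent.1 hQc).trans ((cent_anti TQ).trans (cent_le_norm _)))
  have k0 : ⁅V, T⁆ ⊓ 𝐂[a] = ⊥ := le_bot_iff.1 (dp.inf ▸ le_inf
    (le_inf (inf_le_left.trans UV) (((inf_le_inf_right _ UV).trans h).trans (cent_anti TQ))) inf_le_left)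
  have k1 := (JR.INV (odd_of_le UV ho) (JR.sq_of_two ha) aU k0).1
  have k2 : T ≤ 𝐂(⁅V, T⁆) := by
    rw [hT, commutator_le]
    intro q hq z hz
    rcases mem_zp2 ha hz with rfl | rfl
    · simp
    refine mem_cent_iff.2 fun v hv => ?_
    have e1 := k1 _ (inv_mem hv)
    have e2 := k1 _ (conj_mem_of_mem_normalizer (inv_mem (QU hq)) (inv_mem hv))
    have e3 : z⁻¹ * v * z = v⁻¹ := by
      rw [inv_inv] at e1
      calc z⁻¹ * v * z = z⁻¹ * (z * v⁻¹ * z⁻¹) * z := by rw [e1]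
        _ = _ := by group
    rw [commutatorElement_def]
    calc v * (q * z * q⁻¹ * z⁻¹) = q * (q⁻¹ * v⁻¹ * q⁻¹⁻¹)⁻¹ * z * q⁻¹ * z⁻¹ := by group
      _ = q * z * q⁻¹ * v⁻¹ * z⁻¹ := by rw [← e2]; group
      _ = _ := by rw [← e3]; group
  rw [← dp.sup]
  exact sup_le inf_le_right (cent_symm k2)

theorem J8.cent_eq (h : J8 S) (hN : 𝐍(S) ≤ 𝐍(Q)) (ha : a ∈ S) (a1 : a ≠ 1) (hb : b ∈ S) (b1 : b ≠ 1)
    (k : Q ⊓ 𝐂[b] ≤ 𝐂[a]) : Q ⊓ 𝐂[a] ≤ 𝐂[b] := by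
  obtain ⟨n, hn, rfl⟩ := h.trans ha a1 hb b1
  have e : Q ⊓ 𝐂[n * a * n⁻¹] = Q ⊓ 𝐂[a] := eq_of_le_of_card_le (le_inf inf_le_left k) (by
    rw [← cj_cent1, ← card_cj n (Q ⊓ 𝐂[a]), cj_inf, cj_eq_iff_mem_normalizer.2 (hN hn)])
  exact e.ge.trans inf_le_right

theorem J8.not_le (h : J8 S) (ho : Odd ♯Q) (hN : 𝐍(S) ≤ 𝐍(Q)) (hc : ¬ Q ≤ 𝐂(S)) (ha : a ∈ S)
    (a1 : a ≠ 1) : ¬ Q ⊓ 𝐂[a] ≤ 𝐂(S) := fun k =>
  hc (le_of_four h.elem (by rw [h.card]; norm_num) ho (le_normalizer.trans hN) fun b hb b1 => by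
    obtain ⟨n, hn, rfl⟩ := h.trans ha a1 hb b1
    have := cj_mono n k
    rwa [cj_inf, cj_cent1, cj_centralizer, cj_eq_iff_mem_normalizer.2 hn,
      cj_eq_iff_mem_normalizer.2 (hN hn)] at this)

theorem J8.norm_pcore (h : J8 S) (ho : Odd ♯W) (hN : 𝐍(S) ≤ 𝐍(W))
    (hW : ∀ D : Subgroup G, Odd ♯D → S ≤ 𝐍(D) → D ≤ W) (ha : a ∈ S) (a1 : a ≠ 1)
    (hc : W ⊓ 𝐂[a] = Oo 𝐂[a]) {r : ℕ} [Fact r.Prime] (hQ : ¬ core {r} W ≤ 𝐂(S)) :
    𝐂[a] ≤ 𝐍(core {r} W) := by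
  have hA := h.min.sim.isA
  have hX := h.min.sim.cent_ne_top a1
  have SX := h.le_cent ha
  have hS := h.syl_of_le SX
  have a2 := h.two ha a1
  obtain ⟨L, hL, c1, c2, -, -, -⟩ := h.cmp ha a1
  obtain ⟨τ, hτ, sg⟩ := hL.sing h.min hX hS
  rw [c2] at sg
  set Q := core {r} W with hQd
  have pQ : IsPGroup r Q := core_isPGroup W
  have QW : Q ≤ W := core_le _ _
  have WQ : W ≤ 𝐍(Q) := (core_nrm _ _).norm
  have oQ := odd_of_le QW ho
  have NQ : 𝐍(S) ≤ 𝐍(Q) := le_normalizer_core _ hN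
  have K0 := h.not_le oQ NQ hQ ha a1
  have K1 : ¬ S ⊓ L ≤ 𝐂(Q ⊓ 𝐂[a]) := fun k => K0 (cent_symm (sg.sup.ge.trans
    (sup_le k (zpowers_le.2 (mem_cent_iff.2 fun x hx => mem_cent1_iff.1 hx.2)))))
  -- the Sylow 2-subgroup of the centralizer of an invariant subgroup
  have syl : ∀ R : Subgroup G, 𝐂[a] ≤ 𝐍(R) → ¬ S ⊓ L ≤ 𝐂(R) →
      Syl 2 (S ⊓ 𝐂(R)) 𝐂(R) ∧ S ⊓ 𝐂(R) ≤ zpowers a := fun R hR k =>
    ⟨Syl.inf_of_nrm (h.syl_of_le (SX.trans hR)) ⟨cent_le_norm R, le_normalizer_centralizer le_rfl⟩,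
      (sg.le_or h.elem.1 inf_le_left (le_normalizer_inf (A := 𝐍(S) ⊓ 𝐂[a]) inf_le_left
        (inf_le_right.trans (le_normalizer_centralizer hR)) ⟨sg.nS, hL.le hτ⟩)).resolve_left
        fun e => k (e.trans inf_le_right)⟩
  set Qa := core {r} (Oo 𝐂[a])
  have XQa : 𝐂[a] ≤ 𝐍(Qa) := le_normalizer_core _ (core_nrm _ _).norm
  have QaW : Qa ≤ W := (core_le _ _).trans (hc.ge.trans inf_le_left)
  have q1 : Q ⊓ 𝐂[a] ≤ Qa := le_pcore ⟨(inf_le_inf_right _ QW).trans hc.le, hc.ge.trans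
    (le_normalizer_inf (inf_le_left.trans WQ) (inf_le_right.trans le_normalizer))⟩ (pQ.to_le inf_le_left)
  obtain ⟨s1, s2⟩ := syl Qa XQa fun k => K1 (k.trans (cent_anti q1))
  have h4 : ¬ 4 ∣ ♯𝐂(Qa) := fun k => by
    have e1 := s1.card_mul_relIndex
    have e2 := card_dvd_of_le' s2
    have e3 := s1.not_dvd
    rw [Nat.card_zpowers, a2] at e2
    rw [← e1] at k
    rcases (Nat.dvd_prime Nat.prime_two).1 e2 with e | e <;> rw [e] at k <;> omega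
  obtain ⟨K, k1, k2, k3, -, k4, -⟩ := JR.OD h4 a2 (mem_cent_iff.2 fun x hx =>
    mem_cent1_iff.1 (core_le _ _ (core_le _ _ hx)))
  have XK : 𝐂[a] ≤ 𝐍(K) := (le_normalizer_centralizer XQa).trans k3
  have KW := hW K k2 (SX.trans XK)
  have QK : Q ≤ K := fun x hx => k4 x (cent_symm (hA.le_cent (core_isPGroup _) pQ (QaW.trans WQ)) hx)
    (oQ.of_dvd_nat (Q.orderOf_dvd_natCard hx))
  set P := core {r} K
  have pP : IsPGroup r P := core_isPGroup K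
  have XP : 𝐂[a] ≤ 𝐍(P) := le_normalizer_core _ XK
  have PW : P ≤ W := (core_le _ _).trans KW
  have QP : Q ≤ P := le_pcore ⟨QK, KW.trans WQ⟩ pQ
  have aX : a ∈ 𝐂[a] := mem_cent1_self a
  have Xa : 𝐂[a] ≤ 𝐍(zpowers a) := (cent_zpowers a).ge.trans (cent_le_norm _)
  set T := ⁅P, zpowers a⁆
  have XT : 𝐂[a] ≤ 𝐍(T) := le_normalizer_commutator XP Xa
  have TP : T ≤ P := commutator_le_left' (zpowers_le.2 (XP aX))
  have FT : fit W ≤ 𝐂(T) := fit_le_of_forall_pcore fun l _ => by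
    by_cases e : l = r
    · subst e
      exact QP.trans ((comm_iff_le_cent.1 (hA.comm pP)).trans (cent_anti TP))
    · have nV := (core_nrm {l} W).norm
      have co := coprime_of_isPGroup_ne pP (core_isPGroup (p := l) W) (Ne.symm e)
      refine jb_inv a2 (odd_of_le (core_le _ _) ho) (hA.comm (core_isPGroup W))
        (le_normalizer_core _ (le_normalizer.trans hN) ha) (PW.trans nV) (hA.comm pP) (XP aX) co
        (le_cent_iff_commutator.2 (le_bot_iff.1 ((inf_eq_bot_of_coprime' co) ▸ le_inf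
          (commutator_le_right' (inf_le_right.trans XP))
          ((commutator_mono inf_le_left le_rfl).trans (commutator_le_left' (PW.trans nV))))))
  have QT : ∀ D ≤ Q, ⁅D, zpowers a⁆ ≤ T := fun D hD => commutator_mono (hD.trans QP) le_rfl
  have nD : ∀ b ∈ S, a ∈ 𝐍(Q ⊓ 𝐂[b]) := fun b hb =>
    le_normalizer_inf (le_normalizer.trans NQ) ((h.le_cent hb).trans le_normalizer) ha
  obtain ⟨t1, t2⟩ := syl T XT fun k => K1 fun f hf => by
    by_cases f1 : f = 1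
    · rw [f1]; exact one_mem _
    have b1 : a * f ≠ 1 := fun e => f1 (sg.inf.le ⟨hf, by
      rw [eq_inv_of_mul_eq_one_right e]; exact (zpowers a).inv_mem (mem_zpowers a)⟩)
    have hb := mul_mem ha hf.1
    have := h.cent_eq NQ ha a1 hb b1 (jb_comm a2 (odd_of_le inf_le_left oQ) (nD _ hb) fun x hx => by
      have x1 := mem_cent_iff.1 (k hf) x (QT _ inf_le_left hx)
      have x2 := mem_cent1_iff.1 (commutator_le_left' (zpowers_le.2 (nD _ hb)) hx).2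
      refine mem_cent1_iff.2 (mul_right_cancel (b := f) ?_)
      rw [mul_assoc, x2, mul_assoc, mul_assoc, x1])
    refine mem_cent_iff.2 fun x hx => mul_left_cancel (a := a) ?_
    rw [← mul_assoc, ← mem_cent1_iff.1 hx.2, mul_assoc, mem_cent1_iff.1 (this hx), mul_assoc]
  have aT : a ∉ 𝐂(T) := fun k => K0 fun x hx => mem_cent_iff.2 fun b hb => by
    by_cases b1 : b = 1
    · simp [b1]
    exact (mem_cent1_iff.1 (h.cent_eq NQ ha a1 hb b1 (jb_comm a2 (odd_of_le inf_le_left oQ) (nD _ hb)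
      fun y hy => mem_cent1_iff.2 (mem_cent_iff.1 k y (QT _ inf_le_left hy))) hx)).symm
  have oZ : Odd ♯𝐂(T) := by
    have e : S ⊓ 𝐂(T) = ⊥ := eq_bot_iff.2 fun x hx => (mem_zp2 a2 (t2 hx)).elim id fun e => absurd (e ▸ hx.2) aT
    rw [← Nat.not_even_iff_odd, even_iff_two_dvd]
    exact t1.eq_bot_iff.1 e
  have XZ : 𝐂[a] ≤ 𝐍(𝐂(T)) := le_normalizer_centralizer XT
  have ZW := hW _ oZ (SX.trans XZ)
  have e : core {r} 𝐂(T) = Q := by
    have Q1 : Q ≤ core {r} 𝐂(T) := le_pcore ⟨(pcore_le_fit W).trans FT, ZW.trans WQ⟩ pQ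
    have p1 : IsPGroup r (core {r} 𝐂(T)) := core_isPGroup _
    have f1 : fit W ≤ 𝐂(core {r} 𝐂(T)) := fit_le_of_forall_pcore fun l _ => by
      by_cases e : l = r
      · subst e
        exact Q1.trans (comm_iff_le_cent.1 (hA.comm p1))
      · exact le_cent_core_of_nrm ⟨(pcore_le_fit W).trans FT, ZW.trans (core_nrm _ _).norm⟩
          (piG_compl_of_isPGroup_ne (core_isPGroup W) e)
    refine le_antisymm ?_ Q1
    exact (le_core_of_nil (fit_nil W) ((le_inf ((core_le _ _).trans ZW) (cent_symm f1)).trans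
      (cent_fit_le (solv_of_odd ho))) (core_piG _ _)).trans (core_fit W).le
  rw [← e]
  exact le_normalizer_core _ XZ

theorem J8.se_or' (h : J8 S) : SE S ∨ ∀ a ∈ S, a ≠ 1 → Oo 𝐂[a] = ⊥ := by
  obtain ⟨ho, hc, hF⟩ := h.bal'.w1 h.elem le_rfl h.card.ge
  by_cases hW : W1 S = ⊥
  · exact Or.inr fun a ha a1 => le_bot_iff.1 (hW ▸ oo_le_W1 ha a1)
  left
  have hN := norm_le_norm_W1 S
  by_cases hb : ∀ a ∈ S, a ≠ 1 → ∀ L, Cmp 𝐂[a] L → ¬ Nb 𝐂[a] S L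
  · obtain ⟨a, ha, a1⟩ := exists_ne_one_of_ne_bot (H := S) fun e => by
      have := h.card; rw [e, card_bot] at this; omega
    by_cases hf : fit (W1 S) ≤ 𝐂(S)
    · refine h.se_of hW ho hN ha a1 ?_
      have := coprime_cent_Fitting (le_normalizer.trans hN) (cop2 h.elem.isPGroup ho) (solv_of_odd ho)
      have k : W1 S ≤ 𝐂[a] := (cent_symm ((le_inf le_rfl (cent_symm hf)).trans this)).trans (cent_le_cent1 ha)
      rw [← inf_eq_left.2 k, hc a ha a1]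
      exact (core_nrm _ _).norm
    · have : ∃ (r : ℕ) (_ : Fact r.Prime), ¬ core {r} (W1 S) ≤ 𝐂(S) := by
        by_contra k
        push Not at k
        exact hf (fit_le_of_forall_pcore fun q hq => k q hq)
      obtain ⟨r, _, hr⟩ := this
      exact h.se_of (fun e => hr (e.le.trans bot_le)) (odd_of_le (core_le _ _) ho)
        (le_normalizer_core _ hN) ha a1 (h.norm_pcore ho hN (fun D => h.le_W hb) ha a1 (hc a ha a1) hr)
  · push Not at hb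
    obtain ⟨a, ha, a1, L, hL, hb⟩ := hb
    have hX := h.min.sim.cent_ne_top a1
    have hS := h.syl_of_le (h.le_cent ha)
    obtain ⟨L', -, c1, c2, -, c4, -⟩ := h.cmp ha a1
    obtain rfl := c4 L hL
    have hO := (oo_le_W1 ha a1).trans le_normalizer
    refine h.se_of hW ho hN ha a1 (gen_le h.min hX hS hO (fun L1 h1 => ?_) (inf_le_right.trans hN))
    rw [c4 L1 h1]
    obtain ⟨k, hk, k1⟩ := exists_ne_one_of_ne_bot (H := S ⊓ L) fun e => by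
      rw [e, card_bot] at c1; omega
    have ka : k ∉ zpowers a := fun e => k1 ((hL.dec h.min hX hS).2.2.le ⟨hk, c2.ge e⟩)
    refine hb _ k hk k1 hO (inf_le_right.trans hN) ?_
    rw [← hF _ (sup_le (zpowers_le.2 ha) (zpowers_le.2 hk.1)) (card_fg h.elem ha a1 hk.1 ka).ge, c2]
    refine le_trans ?_ ((cent_le_norm _).trans (norm_le_norm_W1 _))
    rw [cent_sup, cent_zpowers k]
    exact inf_le_inf_right _ inf_le_right

end Cfsg.Agent.AG
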