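import Cfsg.Agent.AG.IR1
import Cfsg.Agent.AG.Del
import Cfsg.Agent.S0217

/-! The `5/2`-balanced signalizer functor. -/

set_option autoImplicit false
set_option linter.unusedSectionVars false

namespace Cfsg.Agent.AG

open Subgroup Cfsg.Agent.FT
open scoped commutatorElement

universe u
variable {G : Type u} [Group G] [Finite G] {S A E F F' B : Subgroup G}

/-- `[Δ(F), E] Δ(E)` -/
def TT (E F : Subgroup G) : Subgroup G := ⁅Del F, E⁆ ⊔ Del E
/-- the subgroup generated by the functor -/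
def WW (E : Subgroup G) : Subgroup G := ⨆ F : {F : Subgroup G // F ≤ E ∧ ♯F = 4}, TT E F

theorem cj_TT (g : G) (E F : Subgroup G) : cj g (TT E F) = TT (cj g E) (cj g F) := by
  rw [TT, TT, cj_sup, cj_commutator, cj_Del, cj_Del]

theorem TT_le_WW (hF : F ≤ E) (h4 : ♯F = 4) : TT E F ≤ WW E :=
  le_iSup (fun F : {F : Subgroup G // F ≤ E ∧ ♯F = 4} => TT E F) ⟨F, hF, h4⟩

theorem norm_le_norm_WW (E : Subgroup G) : 𝐍(E) ≤ 𝐍(WW E) := fun g hg => by
  refine mem_normalizer_of_cj_le (cj_le_iff_le_cj_inv.2 (iSup_le fun F => cj_le_iff_le_cj_inv.1 ?_))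
  rw [cj_TT, cj_eq_iff_mem_normalizer.2 hg]
  exact TT_le_WW ((cj_mono g F.2.1).trans (cj_eq_iff_mem_normalizer.2 hg).le) (by rw [card_cj, F.2.2])

/-- the functor theorem in subgroup form -/
theorem sft (hA : Abelem 2 A) (h8 : 8 ≤ ♯A) (θ : G → Subgroup G)
    (h1 : ∀ a ∈ A, a ≠ 1 → θ a ≤ 𝐂[a]) (h2 : ∀ a ∈ A, a ≠ 1 → Odd ♯(θ a))
    (h3 : ∀ a ∈ A, a ≠ 1 → A ≤ 𝐍(θ a))
    (h4 : ∀ a ∈ A, a ≠ 1 → ∀ b ∈ A, b ≠ 1 → θ a ⊓ 𝐂[b] ≤ θ b) :
    Odd ♯(⨆ a : {a : G // a ∈ A ∧ a ≠ 1}, θ a : Subgroup G) ∧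
      ∀ a ∈ A, a ≠ 1 → (⨆ b : {a : G // a ∈ A ∧ a ≠ 1}, θ b) ⊓ 𝐂[a] = θ a := by
  have := S0217.result (p := 2) A (fun a ha b hb => mem_cent_iff.1 (hA.le_cent hb) a ha) hA.2
    (by simpa using h8) θ h1
    (fun a ha h => by rw [← even_iff_two_dvd, Nat.not_even_iff_odd]; exact h2 a ha h)
    (fun a ha h b hb x hx => conj_mem_of_mem_normalizer (h3 a ha h hb) hx)
    (fun a ha h => solv_of_odd (h2 a ha h)) h4
  exact ⟨by rw [← Nat.not_even_iff_odd, even_iff_two_dvd]; exact this.1, this.2⟩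

namespace R3
variable (h : R3 S)
include h


theorem k1 (hE : E ≤ om 2 S) (h8 : 8 ≤ ♯E) (hB : B ≤ om 2 S) : Del E ⊓ 𝐂(B) ≤ Del B :=
  le_Del fun e he h1 => (inf_le_inf_left _ (cent_le_cent1 he)).trans
    (h.bal3 hE h8 (om_le 2 S (hB he)) (h.omA.orderOf_eq (hB he) h1))

theorem k2 (hF : F ≤ om 2 S) (h4 : 4 ≤ ♯F) (hB : B ≤ om 2 S) :
    ⁅Del F ⊓ 𝐂(B), om 2 S⁆ ≤ Del B :=
  le_Del fun e he h1 => (commutator_mono (inf_le_inf_left _ (cent_le_cent1 he)) (om_le 2 S)).trans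
    (h.bal2 hF h4 (om_le 2 S (hB he)) (h.omA.orderOf_eq (hB he) h1))

theorem nDel (hF : F ≤ om 2 S) : om 2 S ≤ 𝐍(Del F) :=
  (h.omA.le_cent.trans (cent_anti hF)).trans (cent_le_norm_Del F)

theorem tt_le (hF : F ≤ om 2 S) : TT (om 2 S) F ≤ Del F :=
  sup_le (commutator_le_left' (h.nDel hF)) (Del_anti hF)

theorem ntt (hF : F ≤ om 2 S) : om 2 S ≤ 𝐍(TT (om 2 S) F) :=
  le_normalizer_sup (right_le_normalizer_commutator _ _) (h.nDel le_rfl)

theorem k3 (h16 : 16 ≤ ♯(om 2 S)) (hF : F ≤ om 2 S) (h4 : ♯F = 4) :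
    TT (om 2 S) F ⊓ 𝐂(om 2 S) ≤ Del (om 2 S) := by
  have hF1 : F ≠ ⊥ := by rintro rfl; simp at h4
  have hg := h.min.sim.isA.gold (Z := Del (om 2 S)) h.omA (odd_Del hF1) (h.nDel hF)
    (inf_le_right.trans (cent_le_norm_Del _)) fun H hH h2 => by
      have h3 := card_mul_relIndex hH
      refine (inf_le_inf_right _ (h.k2 hF h4.ge hH)).trans (h.k1 hH ?_ le_rfl)
      rw [h2] at h3; omega
  rw [TT, inf_comm, inf_sup_of_le' (Del_le_cent _)
    (Or.inr ((Del_anti hF).trans (left_le_normalizer_commutator _ _)))]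
  exact sup_le (by rw [inf_comm]; exact hg) le_rfl

theorem k4 (h16 : 16 ≤ ♯(om 2 S)) (hF : F ≤ om 2 S) (h4 : ♯F = 4) (hB : B ≤ om 2 S) :
    TT (om 2 S) F ⊓ 𝐂(B) ≤ Del B := by
  have hF1 : F ≠ ⊥ := by rintro rfl; simp at h4
  refine le_of_cop h.omA.isPGroup (odd_of_le (inf_le_left.trans (h.tt_le hF)) (odd_Del hF1))
    (le_normalizer_inf (h.ntt hF) ((h.omA.le_cent.trans (cent_anti hB)).trans
      ((cent_le_norm B).trans (le_normalizer_centralizer le_rfl)))) ?_ ?_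
  · exact (commutator_mono (inf_le_inf_right _ (h.tt_le hF)) le_rfl).trans (h.k2 hF h4.ge hB)
  · exact ((inf_le_inf_right _ inf_le_left).trans (h.k3 h16 hF h4)).trans (Del_anti hB)

theorem k5 (h16 : 16 ≤ ♯(om 2 S)) (hF : F ≤ om 2 S) (h4 : ♯F = 4) (hB : B ≤ om 2 S) :
    TT (om 2 S) F ⊓ 𝐂(B) ≤ TT (om 2 S) B := by
  have hF1 : F ≠ ⊥ := by rintro rfl; simp at h4
  refine le_of_cop h.omA.isPGroup (odd_of_le (inf_le_left.trans (h.tt_le hF)) (odd_Del hF1))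
    (le_normalizer_inf (h.ntt hF) ((h.omA.le_cent.trans (cent_anti hB)).trans
      ((cent_le_norm B).trans (le_normalizer_centralizer le_rfl)))) ?_ ?_
  · exact (commutator_mono (h.k4 h16 hF h4 hB) le_rfl).trans le_sup_left
  · exact ((inf_le_inf_right _ inf_le_left).trans (h.k3 h16 hF h4)).trans le_sup_right
end R3

/-- the second functor -/
def Th (A : Subgroup G) (a : G) : Subgroup G :=
  ⨆ b : {b : G // b ∈ A ∧ b ∉ zpowers a}, TT A (zpowers a ⊔ zpowers (b : G))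

theorem Th_congr {a b : G} (h : zpowers a = zpowers b) : Th A a = Th A b := by
  have : ∀ Z Y : Subgroup G, Z = Y → (⨆ c : {c : G // c ∈ A ∧ c ∉ Z}, TT A (Z ⊔ zpowers (c : G))) =
      ⨆ c : {c : G // c ∈ A ∧ c ∉ Y}, TT A (Y ⊔ zpowers (c : G)) := by rintro Z Y rfl; rfl
  exact this _ _ h

theorem TT_le_Th {a b : G} (hb : b ∈ A) (hab : b ∉ zpowers a) :
    TT A (zpowers a ⊔ zpowers b) ≤ Th A a :=
  le_iSup (fun b : {b : G // b ∈ A ∧ b ∉ zpowers a} => TT A (zpowers a ⊔ zpowers (b : G))) ⟨b, hb, hab⟩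

namespace R3
variable (h : R3 S)
include h

theorem fg_le {a b : G} (ha : a ∈ om 2 S) (hb : b ∈ om 2 S) : zpowers a ⊔ zpowers b ≤ om 2 S :=
  sup_le (zpowers_le.2 ha) (zpowers_le.2 hb)

theorem th_le {a : G} (ha : a ∈ om 2 S) (h1 : a ≠ 1) : Th (om 2 S) a ≤ Oo 𝐂[a] :=
  iSup_le fun b => (h.tt_le (h.fg_le ha b.2.1)).trans
    (Del_le (mem_sup_left (mem_zpowers a)) h1)

theorem nth {a : G} (ha : a ∈ om 2 S) : om 2 S ≤ 𝐍(Th (om 2 S) a) := fun g hg =>
  mem_normalizer_of_cj_le (cj_le_iff_le_cj_inv.2 (iSup_le fun b => cj_le_iff_le_cj_inv.1 (by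
    rw [cj_eq_iff_mem_normalizer.2 (h.ntt (h.fg_le ha b.2.1) hg)]
    exact TT_le_Th b.2.1 b.2.2)))

theorem th_inf (h16 : 16 ≤ ♯(om 2 S)) {a b : G} (ha : a ∈ om 2 S) (h1 : a ≠ 1) (hb : b ∈ om 2 S)
    (hab : b ∉ zpowers a) : Th (om 2 S) a ⊓ 𝐂[b] = TT (om 2 S) (zpowers a ⊔ zpowers b) := by
  have hA := h.omA
  have ha2 : (♯(zpowers a)).Prime := by rw [Nat.card_zpowers, hA.orderOf_eq ha h1]; exact Nat.prime_two
  have hb1 : b ≠ 1 := by rintro rfl; exact hab (one_mem _)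
  have hb2 : (♯(zpowers b)).Prime := by rw [Nat.card_zpowers, hA.orderOf_eq hb hb1]; exact Nat.prime_two
  obtain ⟨U, hU0, hU1, hU2⟩ := H2.exists_complement_of_elementary (p := 2) (W := zpowers a)
    (U₀ := zpowers b) hA.1 hA.2 (zpowers_le.2 ha) (zpowers_le.2 hb) (by
      rcases inf_eq_bot_or_le_of_card_prime hb2 (zpowers a) with h2 | h2
      · exact h2
      · exact absurd (h2 (mem_zpowers b)) hab)
  have hUA : U ≤ om 2 S := hU2 ▸ le_sup_left
  have hnz : ∀ c ∈ U, c ≠ 1 → c ∉ zpowers a := fun c hc hc1 h2 =>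
    hc1 (mem_bot.1 (hU1 ▸ mem_inf.2 ⟨hc, h2⟩))
  have hU8 : 8 ≤ ♯U := by
    have := card_sup_of_inf_eq_bot (A := U) (B := zpowers a)
      ((zpowers_le.2 ha).trans ((hA.le_cent.trans (cent_anti hUA)).trans (cent_le_norm U))) hU1
    rw [hU2, Nat.card_zpowers, hA.orderOf_eq ha h1] at this
    omega
  have key := sft (hA.of_le hUA) hU8 (fun c => TT (om 2 S) (zpowers a ⊔ zpowers c))
    (fun c hc _ => (h.tt_le (h.fg_le ha (hUA hc))).trans ((Del_le_cent _).trans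
      (cent_le_cent1 (mem_sup_right (mem_zpowers c)))))
    (fun c hc _ => odd_of_le ((h.tt_le (h.fg_le ha (hUA hc))).trans
      (Del_le (mem_sup_left (mem_zpowers a)) h1)) (odd_oo _))
    (fun c hc _ => hUA.trans (h.ntt (h.fg_le ha (hUA hc))))
    (fun c hc hc1 d hd _ => by
      refine le_trans (le_inf inf_le_left ?_)
        (h.k5 h16 (h.fg_le ha (hUA hc)) (card_fg hA ha h1 (hUA hc) (hnz c hc hc1)) (h.fg_le ha (hUA hd)))
      rw [cent_sup, cent_zpowers, cent_zpowers]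
      exact inf_le_inf_right _ ((h.tt_le (h.fg_le ha (hUA hc))).trans ((Del_le_cent _).trans
        (cent_le_cent1 (mem_sup_left (mem_zpowers a))))))
  rw [← key.2 b (hU0 (mem_zpowers b)) hb1]
  congr 1
  refine le_antisymm (iSup_le fun c => ?_) (iSup_le fun c => TT_le_Th (hUA c.2.1) (hnz _ c.2.1 c.2.2))
  obtain ⟨c, hc, hca⟩ := c
  rw [← hU2] at hc
  obtain ⟨u, hu, z, hz, rfl⟩ := (mem_sup_of_le_normalizer'
    ((zpowers_le.2 ha).trans ((hA.le_cent.trans (cent_anti hUA)).trans (cent_le_norm U)))).1 hc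
  have hu1 : u ≠ 1 := by rintro rfl; exact hca (by simpa using hz)
  have he : zpowers a ⊔ zpowers (u * z) = zpowers a ⊔ zpowers u := by
    refine le_antisymm (sup_le le_sup_left (zpowers_le.2 (mul_mem (mem_sup_right (mem_zpowers u))
      (mem_sup_left hz)))) (sup_le le_sup_left (zpowers_le.2 ?_))
    have : u = (u * z) * z⁻¹ := by group
    nth_rw 2 [this]
    exact mul_mem (mem_sup_right (mem_zpowers _)) (inv_mem (mem_sup_left hz))
  simp only [he]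
  exact le_iSup (fun c : {c : G // c ∈ U ∧ c ≠ 1} => TT (om 2 S) (zpowers a ⊔ zpowers (c : G))) ⟨u, hu, hu1⟩

theorem ww (h16 : 16 ≤ ♯(om 2 S)) : Odd ♯(WW (om 2 S)) ∧
    ∀ F, F ≤ om 2 S → ♯F = 4 → WW (om 2 S) ⊓ 𝐂(F) ≤ TT (om 2 S) F := by
  have hA := h.omA
  have key := sft hA (by omega) (Th (om 2 S))
    (fun a ha h1 => (h.th_le ha h1).trans (core_le _ _))
    (fun a ha h1 => odd_of_le (h.th_le ha h1) (odd_oo _)) (fun a ha _ => h.nth ha)
    (fun a ha h1 b hb hb1 => by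
      by_cases hab : b ∈ zpowers a
      · have := eq_zpowers_of_card_prime
          (by rw [Nat.card_zpowers, hA.orderOf_eq ha h1]; exact Nat.prime_two) hab hb1
        refine inf_le_left.trans (le_of_eq ?_)
        exact Th_congr (by first | exact this | exact this.symm)
      · rw [h.th_inf h16 ha h1 hb hab, sup_comm]
        refine TT_le_Th ha fun h2 => hab ?_
        have := eq_zpowers_of_card_prime
          (by rw [Nat.card_zpowers, hA.orderOf_eq hb hb1]; exact Nat.prime_two) h2 h1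
        exact this ▸ mem_zpowers b)
  have he : WW (om 2 S) = ⨆ a : {a : G // a ∈ om 2 S ∧ a ≠ 1}, Th (om 2 S) a := by
    refine le_antisymm (iSup_le fun F => ?_) (iSup_le fun a => iSup_le fun b =>
      TT_le_WW (h.fg_le a.2.1 b.2.1) (card_fg hA a.2.1 a.2.2 b.2.1 b.2.2))
    obtain ⟨a, ha, b, hb, h1, hab, e⟩ := exists_fg (hA.of_le F.2.1) F.2.2
    rw [e]
    exact (TT_le_Th (F.2.1 hb) hab).trans
      (le_iSup (fun a : {a : G // a ∈ om 2 S ∧ a ≠ 1} => Th (om 2 S) a) ⟨a, F.2.1 ha, h1⟩)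
  refine ⟨he ▸ key.1, fun F hF h4 => ?_⟩
  obtain ⟨a, ha, b, hb, h1, hab, rfl⟩ := exists_fg (hA.of_le hF) h4
  rw [cent_sup, cent_zpowers, cent_zpowers, ← inf_assoc, he, key.2 a (hF ha) h1,
    h.th_inf h16 (hF ha) h1 (hF hb) hab]

theorem ww_eq (h16 : 16 ≤ ♯(om 2 S)) (hE : E ≤ om 2 S) (h8 : ♯E = 8) : WW E = WW (om 2 S) := by
  have hA := h.omA
  have hE1 : E ≠ ⊥ := by rintro rfl; simp at h8
  obtain ⟨ho, hw⟩ := h.ww h16
  refine le_antisymm (iSup_le fun F => ?_) ?_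
  · refine le_trans ?_ (TT_le_WW (F.2.1.trans hE) F.2.2)
    refine sup_le ((commutator_mono le_rfl hE).trans le_sup_left) ?_
    refine le_of_cop hA.isPGroup (odd_Del hE1) (h.nDel hE) ?_ ?_
    · exact (commutator_mono (Del_anti F.2.1) le_rfl).trans le_sup_left
    · exact (h.k1 hE h8.ge le_rfl).trans le_sup_right
  · refine le_of_hyp (hA.of_le hE) hE1 ho
      (hE.trans (le_normalizer.trans (norm_le_norm_WW _))) fun F hF h2 => ?_
    have h4 : ♯F = 4 := by omega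
    have hF1 : F ≠ ⊥ := by rintro rfl; simp at h4
    refine (hw F (hF.trans hE) h4).trans (le_trans ?_ (TT_le_WW hF h4))
    refine le_of_cop (hA.of_le hE).isPGroup (odd_of_le (h.tt_le (hF.trans hE)) (odd_Del hF1))
      (hE.trans (h.ntt (hF.trans hE))) ?_ ?_
    · exact (commutator_mono (h.tt_le (hF.trans hE)) le_rfl).trans le_sup_left
    · exact (h.k4 h16 (hF.trans hE) h4 hE).trans le_sup_right

theorem functor' (h16 : 16 ≤ ♯(om 2 S)) (ht : ¬ Triv S) :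
    ∃ M : Subgroup G, M ≠ ⊤ ∧ 𝐍(S) ≤ M ∧
      ∀ E : Subgroup G, E ≤ om 2 S → ♯E = 8 → 𝐍(E) ≤ M := by
  refine ⟨𝐍(WW (om 2 S)), h.min.sim.norm_ne_top (fun e => ht fun F hF h4 => ?_) (fun e => ?_),
    (le_normalizer_om 2 le_rfl).trans (norm_le_norm_WW _), fun E hE h8 => ?_⟩
  · exact le_cent_iff_commutator.2 (le_bot_iff.1 (e ▸ le_sup_left.trans (TT_le_WW hF h4)))
  · have := (h.ww h16).1
    rw [e, card_top] at this
    exact h.min.sim.not_solvable (odd_order_solvable this)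
  · rw [← h.ww_eq h16 hE h8]; exact norm_le_norm_WW E
end R3

end Cfsg.Agent.AG
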