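import Cfsg.Agent.AG.R2a
import Cfsg.Agent.AG.IT

/-! The unbalanced case. -/

set_option autoImplicit false
set_option linter.unusedSectionVars false

namespace Cfsg.Agent.AG

open Subgroup Cfsg.Agent.FT
open scoped commutatorElement

universe u
variable {G : Type u} [Group G] [Finite G] {S β β' M : Subgroup G}


namespace R3
variable (h : R3 S)
include h

theorem cent_le_of (h16 : 16 ≤ ♯(om 2 S)) (h1 : 𝐍(S) ≤ M)
    (h2 : ∀ E : Subgroup G, E ≤ om 2 S → ♯E = 8 → 𝐍(E) ≤ M) {b : G} (hb : b ∈ S)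
    (hb2 : orderOf b = 2)
    (hg : ∀ L, Cmp 𝐂[b] L → ♯(om 2 (S ⊓ cm 𝐂[b] L)) = 4 → Nb 𝐂[b] S L) : 𝐂[b] ≤ M := by
  have hA := h.omA
  have hG := h.min
  have hc : ∀ E : Subgroup G, E ≤ om 2 S → 8 ≤ ♯E → 𝐂(E) ≤ M := fun E hE h8 => by
    obtain ⟨F, hF, hF8⟩ := exists_eight_le (hA.of_le hE) h8
    exact (cent_anti hF).trans ((cent_le_norm F).trans (h2 F (hF.trans hE) hF8))
  have hX := hG.sim.cent_ne_top (ne_one_of_two hb2)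
  have hS := h.syl_cent hb
  have hO : Oo 𝐂[b] ≤ M := le_of_hyp hA (by intro e; rw [e] at h16; simp at h16) (odd_oo _)
    (le_normalizer_core _ (((om_le 2 S).trans hS.le).trans le_normalizer))
    fun B hB h3 => inf_le_right.trans (hc B hB (by omega))
  refine gen_le hG hX hS hO (fun L hL => ?_) (inf_le_right.trans h1)
  have hbl : Blk S _ _ := ⟨b, L, hb, hb2, hL, rfl, rfl⟩
  have hle : om 2 (S ⊓ cm 𝐂[b] L) ≤ om 2 S := om_mono inf_le_left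
  rcases eq_four_or (hA.of_le hle) (h.four_le hbl) with h4 | h8
  · obtain ⟨τ, hτ⟩ := h.sing hbl
    obtain ⟨k, hk, hk1⟩ := exists_ne_one_of_ne_bot (H := S ⊓ L) (by
      intro e; have := hτ.four; rw [e] at this; simp at this)
    have hkA : k ∈ om 2 S := hτ.elem.le_om inf_le_left hk
    refine hg L hL h4 M k hk hk1 hO (inf_le_right.trans h1) (le_trans ?_
      (hc (om 2 (S ⊓ cm 𝐂[b] L) ⊔ zpowers k) (sup_le hle (zpowers_le.2 hkA)) ?_))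
    · rw [cent_sup, cent_zpowers]
      exact inf_le_inf_right _ (inf_le_right.trans (cent_anti (om_le _ _)))
    · rw [H2.card_sup_zpowers_eq (p := 2) (cent_le_norm _ (cent_anti hle (hA.le_cent hkA)))
        (fun hm => hk1 (mem_bot.1 (hτ.inf ▸ mem_inf.2 ⟨hk, om_le _ _ hm⟩)))
        (by rw [hA.2 k hkA]; exact one_mem _), h4]
  · rw [← hL.cover hG hX hS]
    exact sup_le (inf_le_right.trans ((cent_anti (om_le _ _)).trans (hc _ hle h8))) hO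

theorem fblk_of_four (hb : Blk S β β') (h4 : ♯(om 2 β') = 4) : FBlk S β β' := by
  obtain ⟨W, W', hW, -, -, ⟨rfl, rfl⟩ | ⟨-, -, h8⟩⟩ := h.cover hb
  · exact hW
  · omega

theorem nb_of_same {b e : G} {L L' : Subgroup G} (hb : b ∈ S) (hb2 : orderOf b = 2)
    (hL : Cmp 𝐂[b] L) (h4 : ♯(om 2 (S ⊓ cm 𝐂[b] L)) = 4) (he : e ∈ S) (he2 : orderOf e = 2)
    (hL' : Cmp 𝐂[e] L') (e1 : S ⊓ L' = S ⊓ L) (e2 : S ⊓ cm 𝐂[e] L' = S ⊓ cm 𝐂[b] L)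
    (hn : Nb 𝐂[e] S L') : Nb 𝐂[b] S L := by
  obtain ⟨-, τ, hτF, hτ⟩ := h.fblk_of_four ⟨b, L, hb, hb2, hL, rfl, rfl⟩ h4
  obtain ⟨n1, -, n3⟩ := hτ.of_four h.min.sim h.syl hτF h4
  obtain ⟨n, hn1, hn2⟩ := n3 e (e2 ▸ ⟨he, self_mem_cm hL'.le⟩) he2 b ⟨hb, self_mem_cm hL.le⟩ hb2
  have c1 := hL'.cj n
  have c2 := hn.cj hL'.le n
  rw [cj_cent1, hn2] at c1 c2
  rw [cj_eq_iff_mem_normalizer.2 hn1] at c2
  obtain ⟨k, hk, hk1⟩ := exists_ne_one_of_ne_bot (H := S ⊓ L) (by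
    intro e; have := hτ.four; rw [e] at this; simp at this)
  have h3 : S ⊓ L ≤ cj n L' := by
    rw [← cj_eq_iff_mem_normalizer.2 (n1 hn1), ← e1]; exact cj_mono n inf_le_right
  rwa [hL.eq_of_inf c1 hk.2 (h3 hk) (hτ.elem.orderOf_eq hk hk1)]

theorem of_unbal' (hb : ¬ Bal S) (hM : M ≠ ⊤) (h1 : 𝐍(S) ≤ M)
    (h2 : ∀ E : Subgroup G, E ≤ om 2 S → ♯E = 8 → 𝐍(E) ≤ M) : SE S := by
  obtain ⟨e, Le, he, he2, hLe, he4, hen⟩ := h.unbal hb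
  have hγ : Blk S _ _ := ⟨e, Le, he, he2, hLe, rfl, rfl⟩
  have h16 := h.rk4 hγ
  by_cases hbad : ∀ b ∈ S, orderOf b = 2 → ∀ L, Cmp 𝐂[b] L → ♯(om 2 (S ⊓ cm 𝐂[b] L)) = 4 →
      Nb 𝐂[b] S L
  · exact ⟨M, hM, h1, fun b hb hb2 => h.cent_le_of h16 h1 h2 hb hb2 (hbad b hb hb2)⟩
  push Not at hbad
  obtain ⟨b, hb, hb2, L, hL, h4, hnb⟩ := hbad
  have hβ := h.fblk_of_four ⟨b, L, hb, hb2, hL, rfl, rfl⟩ h4
  obtain ⟨τ, hτF, hτ⟩ := hβ.2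
  have hne : S ⊓ L ≠ ⊥ := by intro e; have := hτ.four; rw [e] at this; simp at this
  refine te h.min h.syl (hτ.elem.le_om inf_le_left) hne (hτ.of_four h.min.sim h.syl hτF h4).1 hM h1
    fun c hc hc1 => ?_
  have hc2 := hτ.elem.orderOf_eq hc hc1
  refine h.cent_le_of h16 h1 h2 hc.1 hc2 fun L' hL' h4' => ?_
  by_contra hnb'
  have hδ := h.fblk_of_four ⟨c, L', hc.1, hc2, hL', rfl, rfl⟩ h4'
  obtain ⟨σ, -, hσ⟩ := hδ.2
  rcases h.eq_or hβ hδ with ⟨-, e2⟩ | ⟨l1, l2⟩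
  · exact hc1 (mem_bot.1 (hτ.inf ▸ mem_inf.2 ⟨hc, e2 ▸ ⟨hc.1, self_mem_cm hL'.le⟩⟩))
  have c1 := card_le_of_le' (hτ.elem.le_om l1)
  have c2 := card_le_of_le' (hσ.elem.le_om l2)
  obtain ⟨W, W', hW, -, -, hcase⟩ := h.cover hγ
  obtain ⟨ε, -, hε⟩ := hW.2
  rcases h.eq_or hW hβ with ⟨e1, e2⟩ | ⟨l3, -⟩
  · rcases hcase with ⟨e3, e4⟩ | ⟨-, h8, -⟩
    · exact hnb (h.nb_of_same hb hb2 hL h4 he he2 hLe (e3.trans e1) (e4.trans e2) hen)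
    · rw [e1] at h8; omega
  rcases h.eq_or hW hδ with ⟨e1, e2⟩ | ⟨l4, -⟩
  · rcases hcase with ⟨e3, e4⟩ | ⟨-, h8, -⟩
    · exact hnb' (h.nb_of_same hc.1 hc2 hL' h4' he he2 hLe (e3.trans e1) (e4.trans e2) hen)
    · rw [e1] at h8; omega
  have f1 := eq_of_le_of_card_le (hε.elem.le_om l3) (h4 ▸ hε.four)
  have f2 := eq_of_le_of_card_le (hσ.elem.le_om l2) (h4 ▸ hσ.four)
  have f3 : W ≤ ⊥ := hσ.inf ▸ le_inf (f1.trans f2.symm).le l4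
  have := hε.four
  rw [le_bot_iff.1 f3] at this
  simp at this
end R3

end Cfsg.Agent.AG
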