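import Cfsg.Agent.AG.IS2
import Cfsg.Agent.AG.Del
import Cfsg.Agent.JR.B1

/-! Section S3: the properties of the known groups inside an ambient group. -/

set_option autoImplicit false
set_option linter.unusedSectionVars false

namespace Cfsg.Agent.AG

open Subgroup Cfsg.Agent.FT
open scoped commutatorElement

universe u
variable {G : Type u} [Group G] [Finite G]

section am
variable {Y S : Subgroup G} {k s : G}

theorem am_cent (hk : k ∈ Y) : (𝐂[(⟨k, hk⟩ : Y)]).map Y.subtype = Y ⊓ 𝐂[k] := by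
  ext x
  constructor
  · rintro ⟨y, hy, rfl⟩
    exact ⟨y.2, mem_cent1_iff.2 (congrArg Subtype.val (mem_cent1_iff.1 hy))⟩
  · exact fun h => ⟨⟨x, h.1⟩, mem_cent1_iff.2 (Subtype.ext (mem_cent1_iff.1 h.2)), rfl⟩

theorem am_map (hk : k ∈ Y) : (Oo 𝐂[(⟨k, hk⟩ : Y)]).map Y.subtype = Oo (Y ⊓ 𝐂[k]) := by
  rw [← am_cent hk]; exact (L.piClass _).radOf_map_subtype _

theorem am_ord (hk : k ∈ Y) (h2 : orderOf k = 2) : orderOf (⟨k, hk⟩ : Y) = 2 := (orderOf_mk k hk).trans h2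

theorem am_syl (hS : Syl 2 S Y) : Syl 2 (S.subgroupOf Y) ⊤ := H1.sylow_isSylowIn_top hS.toSylow

theorem am_aut (h : Good Y) (hk : k ∈ Y) (h2 : orderOf k = 2) {d : G} (hd : d ∈ 𝐍(Y)) (ho : Odd (orderOf d))
    (hc : ∀ x ∈ Y ⊓ 𝐂[k], x * d = d * x) : d ∈ 𝐂(Y) := by
  have := h.aut (Y.normalizerMonoidHom ⟨d, hd⟩) ⟨k, hk⟩ (am_ord hk h2)
    (ho.of_dvd_nat ((orderOf_map_dvd _ _).trans (orderOf_mk d hd).dvd)) fun x hx => Subtype.ext (by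
      have := hc x (am_cent hk ▸ mem_map_of_mem _ hx)
      change d * x * d⁻¹ = x
      rw [← this, mul_inv_cancel_right])
  rwa [← MonoidHom.mem_ker, normalizerMonoidHom_ker, mem_subgroupOf] at this

theorem am_comm (h : Good Y) (hk : k ∈ Y) (h2 : orderOf k = 2) : Oo (Y ⊓ 𝐂[k]) ≤ 𝐂(Oo (Y ⊓ 𝐂[k])) := by
  rw [← am_map hk]
  exact comm_iff_le_cent.1 (comm_of_isCyclic (isCyclic_map (h.cyc _ (am_ord hk h2)) _))

theorem am_inv (h : Good Y) (hk : k ∈ Y) (h2 : orderOf k = 2) (hs : s ∈ Y) (s2 : orderOf s = 2) (ne : s ≠ k)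
    (hc : s * k = k * s) {x : G} (hx : x ∈ Oo (Y ⊓ 𝐂[k])) : s * x * s⁻¹ = x⁻¹ := by
  rw [← am_map hk] at hx
  obtain ⟨x, hx, rfl⟩ := hx
  exact congrArg Subtype.val (h.inv _ ⟨s, hs⟩ (am_ord hk h2) (am_ord hs s2)
    (fun e => ne (congrArg Subtype.val e)) (Subtype.ext hc) x hx)

theorem am_ti (h : Good Y) (hk : k ∈ Y) (h2 : orderOf k = 2) {x : G} (hx : x ∈ Oo (Y ⊓ 𝐂[k])) (h1 : x ≠ 1) :
    Y ⊓ 𝐂[x] ≤ 𝐂[k] := by
  rw [← am_map hk] at hx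
  obtain ⟨x, hx, rfl⟩ := hx
  exact fun y hy => mem_cent1_iff.2 (congrArg Subtype.val (mem_cent1_iff.1 (h.ti _ (am_ord hk h2) x hx
    (fun e => h1 (by rw [e, map_one])) (show (⟨y, hy.1⟩ : Y) ∈ _ from
      mem_cent1_iff.2 (Subtype.ext (mem_cent1_iff.1 hy.2))))))

theorem am_big (h : Good Y) (hS : Syl 2 S Y) (h4 : 4 < ♯S) (hk : k ∈ Y) (h2 : orderOf k = 2) :
    Oo (Y ⊓ 𝐂[k]) = ⊥ := by
  rw [← am_map hk, h.big _ (am_syl hS)
    (by rwa [Nat.card_congr (subgroupOfEquivOfLe hS.le).toEquiv]) _ (am_ord hk h2), Subgroup.map_bot]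

theorem am_gen (h : Good Y) (hS : Syl 2 S Y) (hk : k ∈ S) (h2 : orderOf k = 2) (h0 : Oo (Y ⊓ 𝐂[k]) ≠ ⊥)
    {M : Subgroup G} (h3 : Y ⊓ 𝐍(S) ≤ M) (h4 : Y ⊓ 𝐂[k] ≤ M) : Y ≤ M := by
  have := h.gen _ ⟨k, hS.le hk⟩ (am_syl hS) hk (am_ord _ h2) fun e => h0 (by
    rw [← am_map (hS.le hk), e, Subgroup.map_bot])
  have h5 : ⊤ ≤ M.subgroupOf Y := this ▸ sup_le (fun x hx => h3 ⟨x.2, mem_normalizer_of_conj_mem fun a ha =>
    conj_mem_of_mem_normalizer hx (x := ⟨a, hS.le ha⟩) ha⟩) fun x hx => h4 (am_cent (hS.le hk) ▸ mem_map_of_mem _ hx)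
  exact fun x hx => h5 (mem_top (⟨x, hx⟩ : Y))
end am

theorem two_cent {S H : Subgroup G} (hS : Syl 2 S H) (hc : S ≤ 𝐂(S)) {g : G} (hg : g ∈ H ⊓ 𝐍(S))
    (h : g * g ∈ 𝐂(S)) : g ∈ 𝐂(S) := by
  obtain ⟨a, b, e, ha, hb, pa, pb⟩ := exists_piPart {2} g
  have a1 : a ∈ 𝐂(S) := hc (hS.le_of_le_normalizer (piG_zpowers.2 pa).isPGroup
    (zpowers_le.2 (zpowers_le.2 hg ha).1) (zpowers_le.2 (zpowers_le.2 hg ha).2) (mem_zpowers a))
  obtain ⟨j, rfl⟩ := hb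
  rw [e]
  refine mul_mem a1 (s2_sq (by rw [← Nat.card_zpowers]; exact odd_iff_piG.2 (piG_zpowers.2 pb)) ?_)
  simpa only [← Commute.mul_zpow (Commute.refl g)] using zpow_mem h j

theorem eq_V4 {F : Subgroup G} {t s : G} (hf : JR.FG t s) (ht : t ∈ F) (hs : s ∈ F) (h4 : ♯F = 4) :
    F = JR.V4 t s := (eq_of_le_of_card_le (JR.V4_le.2 ⟨ht, hs⟩) (by rw [h4, JR.card_V4 hf])).symm

theorem fg_of {S : Subgroup G} (h : Abelem 2 S) {t s : G} (ht : t ∈ S) (hs : s ∈ S) (t1 : t ≠ 1) (s1 : s ≠ 1)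
    (ne : t ≠ s) : JR.FG t s :=
  ⟨h.orderOf_eq ht t1, h.orderOf_eq hs s1, mem_cent_iff.1 (h.le_cent hs) t ht, ne⟩

theorem four_pnil {S H : Subgroup G} (hS : Syl 2 S H) (he : Abelem 2 S) (h4 : ♯S = 4) {t : G} (ht : t ∈ S)
    (t1 : t ≠ 1) (hH : H ≤ 𝐂[t]) : PNil 2 H := by
  obtain ⟨s, hs, ns⟩ : ∃ s ∈ S, s ∉ zpowers t := by
    by_contra! d
    have := card_le_of_le' d
    rw [Nat.card_zpowers, he.orderOf_eq ht t1] at this
    omega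
  have hf := fg_of he ht hs t1 (fun e => ns (e ▸ one_mem _)) fun e => ns (e ▸ mem_zpowers _)
  refine Burnside_normal_complement hS fun g hg => two_cent hS he.le_cent hg ?_
  have e := eq_V4 hf ht hs h4
  have gt : g * t * g⁻¹ = t := by rw [mem_cent1_iff.1 (hH hg.1), mul_inv_cancel_right]
  have := conj_mem_of_mem_normalizer hg.2 hs
  rw [e, JR.cent_V4]
  refine ⟨mul_mem (hH hg.1) (hH hg.1), mem_cent1_iff.2 (mul_inv_eq_iff_eq_mul.1 ?_)⟩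
  rw [show g * g * s * (g * g)⁻¹ = g * (g * s * g⁻¹) * g⁻¹ by group]
  rcases (JR.mem_V4 hf).1 (e ▸ this) with d | d | d | d
  · exact absurd (by simpa using d) (JR.ne_one_of_two hf.u2)
  · exact absurd (by simpa using gt.trans d.symm) hf.ne
  · rw [d, d]
  · rw [d, ← conj_mul, gt, d, ← mul_assoc, hf.tt, one_mul]

variable {X L S D : Subgroup G}

theorem mem_cm' {x : G} : x ∈ cm X L ↔ x ∈ X ∧ coset (Oo X) x ∈ 𝐂(bar (Oo X) L) :=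
  and_congr_right fun hx => mem_unbar.trans (and_iff_right (s1_nO le_rfl hx))

theorem ord_coset {x : G} (hx : x ∈ X) (h2 : orderOf x = 2) : orderOf (coset (Oo X) x) = 2 :=
  ((Nat.dvd_prime Nat.prime_two).1 (h2 ▸ orderOf_coset_dvd (s1_nO le_rfl hx))).resolve_left fun e =>
    not_odd_of_inv ((coset_eq_one_iff (s1_nO le_rfl hx)).1 (orderOf_eq_one_iff.1 e)) h2 (odd_oo X)

theorem odd_coset {x : G} (hx : x ∈ X) (h2 : Odd (orderOf x)) : Odd (orderOf (coset (Oo X) x)) :=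
  h2.of_dvd_nat (orderOf_coset_dvd (s1_nO le_rfl hx))

theorem Cmp.card_bar (h : Cmp X L) (hS : Syl 2 S X) : ♯(bar (Oo X) (S ⊓ L)) = ♯(S ⊓ L : Subgroup G) :=
  card_bar_of_coprime (inf_le_right.trans h.nO.norm) (cop2 (h.syl hS).isPGroup (odd_oo X))

theorem Cmp.odd_nrm (h : Cmp X L) {E : Subgroup (Quo (Oo X))} (hE : E ⊴ bar (Oo X) L) (ho : Odd ♯E) : E = ⊥ :=
  (s1_nrm h.simple hE).resolve_right fun e => h.ci.not_isSolvable (e ▸ solv_of_odd ho)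

theorem Cmp.proj' (h : Cmp X L) {d k f : G} (hd : d ∈ X ⊓ 𝐍(L)) (hk : k ∈ L) (hf : f ∈ cm X L)
    (hc : d * (k * f) = (k * f) * d) : d * k * d⁻¹ * k⁻¹ ∈ Oo X := by
  have h1 : k⁻¹ * (d * k * d⁻¹) ∈ L ⊓ cm X L := mem_inf.2 ⟨mul_mem (inv_mem hk) (conj_mem_of_mem_normalizer hd.2 hk), by
    have : k⁻¹ * (d * k * d⁻¹) = f * (d * f * d⁻¹)⁻¹ := by
      calc _ = k⁻¹ * (d * (k * f)) * d⁻¹ * (d * f * d⁻¹)⁻¹ := by group
        _ = _ := by rw [hc]; group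
    rw [this]
    exact (cm X L).mul_mem hf ((cm X L).inv_mem
      (conj_mem_of_mem_normalizer (le_norm_cm h.le ⟨le_normalizer hd.1, hd.2⟩) hf))⟩
  rw [h.inf_cm] at h1
  convert h.nO.conj_mem hk h1 using 1
  group

theorem Cmp.bal0 (hG : Min G) (hX : X ≠ ⊤) (h : Cmp X L) (hS : Syl 2 S X) {a : G} (ha : a ∈ S)
    (ha2 : orderOf a = 2) (hD : D ≤ X ⊓ 𝐂[a]) (ho : Odd ♯D) (hn : X ⊓ 𝐂[a] ≤ 𝐍(D))
    (hc : ¬ D ≤ cm X L) : a ∉ cm X L ∧ ∃ k ∈ S ⊓ L, k ≠ 1 ∧ bar (Oo X) D ⊓ bar (Oo X) L ≠ ⊥ ∧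
      bar (Oo X) D ⊓ bar (Oo X) L ≤ Oo (bar (Oo X) L ⊓ 𝐂[coset (Oo X) k]) := by
  have cS := comm_iff_le_cent.1 (hG.sim.isA.comm hS.isPGroup)
  obtain ⟨n, d1, d2⟩ := h.dec hG hX hS
  have DX := hD.trans inf_le_left
  have DL := h.odd_le_norm hG hX hS DX ho ((le_inf hS.le (cS.trans (cent_le_cent1 ha))).trans hn)
  obtain ⟨k, hk, f, hf, rfl⟩ := (mem_sup_of_le_normalizer' (inf_le_left.trans (cS.trans
    ((cent_anti inf_le_left).trans (cent_le_norm _))))).1 (d1.ge ha)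
  have nk := h.nO.norm hk.2
  have e1 : bar (Oo X) L ⊓ 𝐂[coset (Oo X) k] ≤ 𝐍(bar (Oo X) D) := by
    refine le_trans (fun x hx => ?_) (bar_le_normalizer _ ((inf_le_inf_right _ h.le).trans hn))
    rw [bar_inf_cent1 (s1_nO hS.le ha) (by rw [ha2]; exact Nat.coprime_two_left.2 (odd_oo X)) h.ge,
      coset_mul nk (s1_nO hS.le hf.1)]
    exact ⟨hx.1, mem_cent1_comm.1 (mul_mem (mem_cent1_comm.1 hx.2) (cent_le_cent1 hx.1 (mem_cm'.1 hf.2).2))⟩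
  have e2 : bar (Oo X) D ≤ 𝐂[coset (Oo X) k] := fun x hx => by
    obtain ⟨d, hd, nd, rfl⟩ := mem_bar.1 hx
    have := coset_eq_one (h.proj' ⟨DX hd, DL hd⟩ hk.2 hf.2 (mem_cent1_iff.1 (hD hd).2))
    rw [coset_mul (mul_mem (mul_mem nd nk) (inv_mem nd)) (inv_mem nk), coset_conj nd nk, coset_inv nk,
      mul_inv_eq_one, mul_inv_eq_iff_eq_mul] at this
    exact mem_cent1_iff.2 this
  have e3 := bar_le_normalizer (Oo X) DL
  have e4 : bar (Oo X) D ⊓ bar (Oo X) L ⊴ bar (Oo X) L ⊓ 𝐂[coset (Oo X) k] :=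
    ⟨le_inf inf_le_right (inf_le_left.trans e2), le_normalizer_inf e1 (inf_le_left.trans le_normalizer)⟩
  have o := odd_of_le (inf_le_left (b := bar (Oo X) L)) (odd_bar ho (Oo X))
  have e5 : bar (Oo X) D ⊓ bar (Oo X) L = ⊥ → ∀ d ∈ D, ∀ x ∈ bar (Oo X) L ⊓ 𝐂[coset (Oo X) k],
      x * coset (Oo X) d = coset (Oo X) d * x := fun e d hd x hx => by
    have b := coset_mem_bar (Oo X) hd
    rw [← commutatorElement_eq_one_iff_mul_comm, ← mem_bot, ← e, commutatorElement_def]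
    exact mem_inf.2 ⟨mul_mem (conj_mem_of_mem_normalizer (e1 hx) b) (inv_mem b), by
      simpa only [mul_assoc] using mul_mem (mem_inf.1 hx).1 (conj_mem_of_mem_normalizer (e3 b) (inv_mem (mem_inf.1 hx).1))⟩
  have k1 : k ≠ 1 := by
    rintro rfl
    rw [coset_one, cent1_one, inf_top_eq] at e4 e5
    exact hc fun d hd => mem_cm'.2 ⟨DX hd, mem_cent_iff.2 (e5 (h.odd_nrm e4 o) d hd)⟩
  refine ⟨fun e => k1 (mem_bot.1 (d2 ▸ mem_inf.2 ⟨hk, hk.1, (mul_mem_cancel_right (mem_inf.1 hf).2).1 e⟩)), k, hk, k1,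
    fun e => hc fun d hd => mem_cm'.2 ⟨DX hd, am_aut (h.good hG hX) (coset_mem_bar _ hk.2) (ord_coset (hS.le hk.1) ?_)
      (e3 (coset_mem_bar _ hd)) (odd_coset (DX hd) (JR.odd_orderOf ho hd)) (e5 e d hd)⟩, le_oo_of_nrm e4 o⟩
  obtain ⟨τ, -, hτ⟩ := h.sing hG hX hS
  exact hτ.elem.orderOf_eq hk k1

theorem Cmp.nb_of (hG : Min G) (hX : X ≠ ⊤) (h : Cmp X L) (hS : Syl 2 S X) {k : G} (hk : k ∈ S ⊓ L)
    (k1 : k ≠ 1) (h0 : Oo (bar (Oo X) L ⊓ 𝐂[coset (Oo X) k]) ≠ ⊥) : ♯(S ⊓ L) = 4 ∧ Nb X S L := by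
  obtain ⟨τ, τL, hτ⟩ := h.sing hG hX hS
  have sb := (h.syl hS).bar h.nO.norm
  have nS := s1_nO hS.le
  refine ⟨le_antisymm (not_lt.1 fun d => h0 (am_big (h.good hG hX) sb (by rwa [h.card_bar hS])
    (coset_mem_bar _ hk.2) (ord_coset (hS.le hk.1) (hτ.elem.orderOf_eq hk k1)))) hτ.four,
    fun M k' hk' k1' m1 m2 m3 l hl => ?_⟩
  obtain ⟨i, rfl⟩ := hτ.tr k hk k1 k' hk' k1'
  have n1 := h.nO.norm (pow_mem τL i)
  have := am_gen (M := bar (Oo X) M) (h.good hG hX) sb (coset_mem_bar _ hk')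
    (ord_coset (hS.le hk'.1) (hτ.elem.orderOf_eq hk' k1')) (fun e => h0 (by
      rw [coset_conj n1 (h.nO.norm hk.2), ← cj_cent1, ← cj_eq_of_mem (coset_mem_bar (Oo X) (pow_mem τL i)),
        ← cj_inf] at e
      exact cj_eq_bot_iff.1 ((cj_core _ _ _).trans e))) (le_trans (fun x hx => by
      rw [bar_inf_norm nS (cop2 hS.isPGroup (odd_oo X)) (Or.inr (solv_of_odd (odd_oo X))) h.ge]
      refine ⟨hx.1, ?_⟩
      rw [← hτ.sup, bar_sup (inf_le_left.trans nS) (inf_le_left.trans nS)]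
      refine le_normalizer_sup (zpowers_le.2 hx.2) (zpowers_le.2 (cent_le_norm _ (mem_cent_iff.2 ?_))) (mem_zpowers x)
      intro z hz
      obtain ⟨y, hy, -, rfl⟩ := mem_bar.1 hz
      exact (mem_cent_iff.1 (mem_cm'.1 hy.2).2 x hx.1).symm) (bar_mono _ m2)) (le_trans (fun x hx => by
      have hA : S ⊓ cm X L ⊔ zpowers (τ ^ i * k * (τ ^ i)⁻¹) ≤ S := sup_le inf_le_left (zpowers_le.2 hk'.1)
      rw [inf_assoc, ← cent_zpowers, ← cent_sup, bar_inf_cent (hA.trans nS)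
        (cop2 (isPGroup_of_le hA hS.isPGroup) (odd_oo X)) (Or.inr (solv_of_odd (odd_oo X))) h.ge,
        bar_sup (inf_le_left.trans nS) (zpowers_le.2 (nS hk'.1)), bar_zpowers (nS hk'.1), cent_sup, cent_zpowers]
      refine ⟨hx.1, mem_cent_iff.2 ?_, hx.2⟩
      intro z hz
      obtain ⟨y, hy, -, rfl⟩ := mem_bar.1 hz
      exact (mem_cent_iff.1 (mem_cm'.1 hy.2).2 x hx.1).symm) (bar_mono _ m3))
  obtain ⟨m, hm, nm, e⟩ := mem_bar.1 (this (coset_mem_bar _ hl))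
  exact (mul_mem_cancel_left (inv_mem hm)).1 (m1 ((coset_eq_iff nm (h.nO.norm hl)).1 e))

/-- the centralizer of an involution of a component with Klein four Sylow `2`-subgroup -/
theorem Cmp.pnil (hG : Min G) (hX : X ≠ ⊤) (h : Cmp X L) (hS : Syl 2 S X) (h4 : ♯(S ⊓ L) = 4) {t : G}
    (ht : t ∈ S ⊓ L) (t1 : t ≠ 1) : Syl 2 (bar (Oo X) (S ⊓ L)) (bar (Oo X) L ⊓ 𝐂[coset (Oo X) t]) ∧
      PNil 2 (bar (Oo X) L ⊓ 𝐂[coset (Oo X) t]) := by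
  obtain ⟨τ, -, hτ⟩ := h.sing hG hX hS
  have he := abelem_bar hτ.elem (Oo X)
  have sb := ((h.syl hS).bar h.nO.norm).of_le (le_inf (bar_mono _ inf_le_right)
    (he.le_cent.trans (cent_le_cent1 (coset_mem_bar _ ht)))) inf_le_left
  exact ⟨sb, four_pnil sb he (by rwa [h.card_bar hS]) (coset_mem_bar _ ht)
    (JR.ne_one_of_two (ord_coset (hS.le ht.1) (hτ.elem.orderOf_eq ht t1))) inf_le_right⟩

theorem Cmp.v2' (hG : Min G) (hX : X ≠ ⊤) (h : Cmp X L) (hS : Syl 2 S X) (h4 : ♯(S ⊓ L) = 4) (hL : X ≤ 𝐍(L))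
    {t s x y : G} (ht : t ∈ S ⊓ L) (hs : s ∈ S ⊓ L) (ht2 : orderOf t = 2)
    (hx : x ∈ X) (hy : y ∈ X) (hxo : Odd (orderOf x)) (hyo : Odd (orderOf y))
    (hxy : x * y = y * x) (h1 : t * x = x * t) (h2 : s * x * s⁻¹ = x⁻¹)
    (h4' : t * y * t⁻¹ = y⁻¹) : x ∈ Oo X ∨ y ∈ Oo X := by
  have key : ∀ {x s}, x ∈ X → s ∈ L → Odd (orderOf x) → s * x * s⁻¹ = x⁻¹ → x ∈ L := fun {x s} hx hs o e =>
    s2_sq o (by
      convert mul_mem (conj_mem_of_mem_normalizer (hL hx) hs) (inv_mem hs) using 1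
      calc _ = x * (s * x * s⁻¹)⁻¹ := by rw [e, inv_inv]
        _ = _ := by group)
  have xL := key hx hs.2 hxo h2
  have yL := key hy ht.2 hyo h4'
  have n := fun {g} (hg : g ∈ L) => h.nO.norm hg
  by_contra! d
  obtain ⟨-, p2⟩ := h.pnil hG hX hS h4 ht (JR.ne_one_of_two ht2)
  have a := am_ti (h.good hG hX) (coset_mem_bar _ ht.2) (ord_coset (hS.le ht.1) ht2)
    (p2.mem_of_nrm (core_nrm _ _).norm ⟨coset_mem_bar _ xL, bar_cent1_le (n ht.2)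
      (coset_mem_bar _ (mem_cent1_iff.2 h1.symm))⟩ (piG_zpowers.1 (odd_iff_piG.1 (by
        rw [Nat.card_zpowers]; exact odd_coset hx hxo)))) (fun e => d.1 ((coset_eq_one_iff (n xL)).1 e))
    ⟨coset_mem_bar _ yL, bar_cent1_le (n xL) (coset_mem_bar _ (mem_cent1_iff.2 hxy.symm))⟩
  refine d.2 ((coset_eq_one_iff (n yL)).1 (JR.eq_one_of_odd (odd_coset hy hyo) ?_))
  rw [mul_eq_one_iff_eq_inv, ← coset_inv (n yL), ← h4', coset_conj (n ht.2) (n yL), ← mem_cent1_iff.1 a,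
    mul_inv_cancel_right]

end Cfsg.Agent.AG
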