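import Cfsg.Agent.AG.IV0
import Cfsg.Agent.JR.G1

/-! Section V1: helper lemmas. -/

set_option autoImplicit false
set_option linter.unusedSectionVars false
set_option linter.unusedVariables false

namespace Cfsg.Agent.AG

open Subgroup Cfsg.Agent.FT
open scoped commutatorElement

universe u
variable {G : Type u} [Group G] [Finite G]

variable {S P X K R Q : Subgroup G} {t s : G} {p : ℕ} [Fact p.Prime]

theorem v1_odd : PiG {2}ᶜ K ↔ Odd ♯K := by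
  rw [piG_compl_singleton, Nat.two_dvd_ne_zero, Nat.odd_iff]
theorem v1_oddO (X : Subgroup G) : Odd ♯(Oo X) := v1_odd.1 (core_piG _ X)
theorem v1_oddp (hp : p ≠ 2) (h : IsPGroup p R) : Odd ♯R := v1_odd.1 (piG_compl_of_isPGroup_ne h hp)
theorem V4.two (h : V4 S t s) : IsPGroup 2 S := h.syl.isPGroup
theorem V4.fg (h : V4 S t s) : JR.FG t s := ⟨h.t2, h.s2, h.comm, h.ne⟩
theorem V4.cop (h : V4 S t s) (hK : Odd ♯K) : (♯S).Coprime ♯K :=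
  coprime_of_isPGroup h.two (v1_odd.2 hK)
theorem V4.le_iff (h : V4 S t s) : S ≤ K ↔ t ∈ K ∧ s ∈ K :=
  ⟨fun a => ⟨a h.tS, a h.sS⟩, fun a x hx => by
    rcases h.mem.1 hx with rfl | rfl | rfl | rfl
    exacts [one_mem _, a.1, a.2, mul_mem a.1 a.2]⟩
theorem V4.le_cent (h : V4 S t s) : S ≤ 𝐂(S) := comm_iff_le_cent.1 (h.min.sim.isA.comm h.two)
theorem V4.le_centt (h : V4 S t s) : S ≤ 𝐂[t] := h.le_cent.trans (cent_le_cent1 h.tS)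
theorem V4.gen (h : V4 S t s) (hK : Odd ♯K) (hn : S ≤ 𝐍(K)) :
    K ≤ (K ⊓ 𝐂[t]) ⊔ (K ⊓ 𝐂[s]) ⊔ (K ⊓ 𝐂[t * s]) := JR.GEN hK h.fg (hn h.tS) (hn h.sS)

theorem v1_hall (h2 : IsPGroup 2 S) (hX : Oo X ⊔ S = X) : Hall {2}ᶜ (Oo X) X := by
  refine ⟨core_le _ _, core_piG _ _, ?_⟩
  have h1 : S ≤ 𝐍(Oo X) := (le_sup_right.trans hX.le).trans (core_nrm _ X).norm
  have h3 := relIndex_sup_of_le_normalizer h1
  rw [sup_comm, hX] at h3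
  rw [h3, compl_compl]
  exact (piG_singleton_iff.2 h2).relIndex _

theorem v1_le_oo (h2 : IsPGroup 2 S) (hX : Oo X ⊔ S = X) (hR : R ≤ X) (ho : Odd ♯R) : R ≤ Oo X :=
  (v1_hall h2 hX).le_core hR (v1_odd.2 ho)

theorem V4.ex (h : V4 S t s) (hp : p ≠ 2) (hX : Oo X ⊔ S = X) (hR : R ≤ X) (hr : IsPGroup p R)
    (hn : S ≤ 𝐍(R)) : ∃ P, Syl p P X ∧ R ≤ P ∧ S ≤ 𝐍(P) := by
  obtain ⟨P, a, b, c⟩ := exists_invariant_syl_ge ((le_sup_right.trans hX.le).trans (core_nrm _ X).norm)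
    (h.cop (v1_oddO X)) (Or.inl (isSolvable_of_nil h.two.isNilpotent)) hr
    (v1_le_oo h.two hX hR (v1_oddp hp hr)) hn
  exact ⟨P, a.trans_hall (v1_hall h.two hX) hp, b, c⟩

theorem V4.cj0 (h : V4 S t s) (hK : Odd ♯K) (hS : S ≤ 𝐍(K)) (hP : Syl p P K) (hn : S ≤ 𝐍(P))
    (hR : R ≤ K) (hr : IsPGroup p R) (hn' : S ≤ 𝐍(R)) : ∃ c ∈ K ⊓ 𝐂(S), H1.cj c R ≤ P := by
  obtain ⟨Q, a, b, c⟩ := exists_invariant_syl_ge hS (h.cop hK)
    (Or.inl (isSolvable_of_nil h.two.isNilpotent)) hr hR hn'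
  obtain ⟨d, hd, e⟩ := a.hall.exists_cent_cj_eq hP.hall hS (h.cop hK) (odd_order_solvable hK) c hn
  exact ⟨d, hd, e ▸ cj_mono d b⟩

theorem V4.cj1 (h : V4 S t s) (hp : p ≠ 2) (hX : Oo X ⊔ S = X) (hP : Syl p P X) (hn : S ≤ 𝐍(P))
    (hR : R ≤ X) (hr : IsPGroup p R) (hn' : S ≤ 𝐍(R)) : ∃ c ∈ X ⊓ 𝐂(S), H1.cj c R ≤ P := by
  obtain ⟨c, a, b⟩ := h.cj0 (v1_oddO X) ((le_sup_right.trans hX.le).trans (core_nrm _ X).norm)
    (hP.of_le (v1_le_oo h.two hX hP.le (v1_oddp hp hP.isPGroup)) (core_le _ _)) hn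
    (v1_le_oo h.two hX hR (v1_oddp hp hr)) hr hn'
  exact ⟨c, ⟨core_le _ _ a.1, a.2⟩, b⟩

/-- an element centralised by `t` and inverted by `s` -/
theorem V4.exy (h : V4 S t s) (hn : S ≤ 𝐍(P)) (h1 : ¬ P ⊓ 𝐂[t] ≤ 𝐂(S)) :
    ∃ y ∈ P, y ≠ 1 ∧ y ∈ 𝐂[t] ∧ s * y * s⁻¹ = y⁻¹ := by
  obtain ⟨x, hx, h2⟩ := SetLike.not_le_iff_exists.1 h1
  have s2 := JR.sq_of_two h.s2
  refine ⟨x⁻¹ * (s * x * s⁻¹), mul_mem (inv_mem hx.1) (conj_mem_of_mem_normalizer (hn h.sS) hx.1),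
    fun e => h2 ?_, mul_mem (inv_mem hx.2) (mul_mem (mul_mem (h.le_centt h.sS) hx.2)
      (inv_mem (h.le_centt h.sS))), ?_⟩
  · rw [h.centS]
    exact ⟨hx.2, mem_cent1_iff.2 (eq_mul_inv_iff_mul_eq.1 (inv_mul_eq_one.1 e))⟩
  · rw [show s * (x⁻¹ * (s * x * s⁻¹)) * s⁻¹ = s * x⁻¹ * (s * s) * s⁻¹ * x * (s * s)⁻¹ by group, s2]
    group

theorem V4.normy (h : V4 S t s) {y : G} (ho : Odd (orderOf y)) (h1 : y ≠ 1) (ht : y ∈ 𝐂[t])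
    (hs : s * y * s⁻¹ = y⁻¹) : S ≤ 𝐍(zpowers y) ∧ Oo 𝐍(zpowers y) ⊔ S = 𝐍(zpowers y) := by
  have ty := mem_cent1_iff.1 ht
  have a1 : S ≤ 𝐍(zpowers y) := h.le_iff.2
    ⟨JR.g1_nz (Or.inl (by rw [← ty, mul_inv_cancel_right])), JR.g1_nz (Or.inr hs)⟩
  refine ⟨a1, h.oo_sup a1 fun n hn => h.mem_cent hn.2 ?_⟩
  have ni : ∀ a : G, a * y * a⁻¹ = y⁻¹ → a ∉ 𝐂(zpowers y) := fun a e c => by
    rw [cent_zpowers, mem_cent1_iff] at c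
    rw [c, mul_inv_cancel_right] at e
    exact h1 (JR.eq_one_of_odd ho (mul_eq_one_iff_eq_inv.2 e))
  have a2 := conj_mem_of_mem_normalizer (le_normalizer_centralizer le_rfl hn.1)
    (show t ∈ 𝐂(zpowers y) by rw [cent_zpowers]; exact mem_cent1_comm.1 ht)
  rcases h.mem.1 (conj_mem_of_mem_normalizer hn.2 h.tS) with e | e | e | e
  · exact absurd (by simpa using e) (JR.ne_one_of_two h.t2)
  · exact mem_cent1_iff.2 (mul_inv_eq_iff_eq_mul.1 e)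
  · exact absurd (e ▸ a2) (ni s hs)
  · refine absurd (e ▸ a2) (ni _ ?_)
    rw [show t * s * y * (t * s)⁻¹ = t * (s * y * s⁻¹) * t⁻¹ by group, hs, ← conj_inv, ← ty,
      mul_inv_cancel_right]

theorem v1_inv_cj {c : G} (hc : c ∈ 𝐍(S)) (hn : S ≤ 𝐍(P)) : S ≤ 𝐍(H1.cj c P) := by
  rw [← cj_normalizer, ← cj_eq_iff_mem_normalizer.2 hc]; exact cj_mono c hn

theorem V4.inv_inf (h : V4 S t s) (hn : S ≤ 𝐍(P)) : S ≤ 𝐍(P ⊓ 𝐂[t]) :=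
  le_normalizer_inf hn (h.le_centt.trans le_normalizer)

/-- two invariant Sylow subgroups sharing an inverted element are conjugate under `C(S)` -/
theorem V4.cjy (h : V4 S t s) (hp : p ≠ 2) (hP : Syl p P ⊤) (hn : S ≤ 𝐍(P)) {y : G} (hy : y ∈ P)
    (h1 : y ≠ 1) (ht : y ∈ 𝐂[t]) (hs : s * y * s⁻¹ = y⁻¹) (hr : IsPGroup p R) (hn' : S ≤ 𝐍(R))
    (hyR : y ∈ R) : ∃ c ∈ 𝐂(S), H1.cj c R ≤ P := by
  obtain ⟨a, b⟩ := h.normy (JR.odd_orderOf (v1_oddp hp hP.isPGroup) hy) h1 ht hs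
  have key : ∀ R : Subgroup G, IsPGroup p R → y ∈ R → R ≤ 𝐍(zpowers y) := fun R c d =>
    ((comm_iff_le_cent.1 (h.min.sim.isA.comm c)).trans (cent_anti (zpowers_le.2 d))).trans (cent_le_norm _)
  obtain ⟨c, d, e⟩ := h.cj1 hp b (hP.of_le (key P hP.isPGroup hy) le_top) hn (key R hr hyR) hr hn'
  exact ⟨c, d.2, e⟩

theorem V4.sylt (h : V4 S t s) (hp : p ≠ 2) (hP : Syl p P ⊤) (hn : S ≤ 𝐍(P))
    (h1 : ¬ P ⊓ 𝐂[t] ≤ 𝐂(S)) : Syl p (P ⊓ 𝐂[t]) 𝐂[t] := by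
  obtain ⟨y, a, b, c, d⟩ := h.exy hn h1
  have pp : IsPGroup p (P ⊓ 𝐂[t] : Subgroup G) := isPGroup_of_le inf_le_left hP.isPGroup
  obtain ⟨R, e, f, g⟩ := h.ex hp h.cent_eq inf_le_right pp (h.inv_inf hn)
  obtain ⟨c', i, j⟩ := h.cjy hp hP hn a b c d e.isPGroup g (f ⟨a, c⟩)
  have k := e.cj_of_mem (cent_le_cent1 h.tS i)
  exact H1.isSylowIn_of_card_ge k pp inf_le_right (card_le_of_le (le_inf j k.le))

theorem V4.c1 (h : V4 S t s) (hp : p ≠ 2) (hP : Syl p P ⊤) (hn : S ≤ 𝐍(P))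
    (h1 : ¬ P ⊓ 𝐂[t] ≤ 𝐂(S)) (h2 : ¬ P ⊓ 𝐂[s] ≤ 𝐂(S)) :
    (∃ ρ ∈ 𝐍(S) ⊓ 𝐍(P), ρ ∉ 𝐂(S)) ∧ Syl p (P ⊓ 𝐂(S)) 𝐂(S) := by
  have a1 := h.sylt hp hP hn h1
  constructor
  · obtain ⟨ρ, b1, b2, -⟩ := h.rho
    have b3 := a1.cj ρ
    rw [cj_inf, cj_cent1, b2] at b3
    obtain ⟨c, c1, c2⟩ := h.symm.cj1 hp h.symm.cent_eq b3 (h.symm.inv_inf (v1_inv_cj b1 hn)) inf_le_right
      (isPGroup_of_le inf_le_left hP.isPGroup) (h.symm.inv_inf hn)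
    obtain ⟨y, d1, d2, d3, d4⟩ := h.symm.exy hn h2
    have b4 : c⁻¹ * ρ ∈ 𝐍(S) := mul_mem (inv_mem (cent_le_norm _ c1.2)) b1
    obtain ⟨c', e1, e2⟩ := h.symm.cjy (R := H1.cj (c⁻¹ * ρ) P) hp hP hn d1 d2 d3 d4
      (isPGroup_cj _ hP.isPGroup) (v1_inv_cj b4 hn) (by
        rw [cj_mul, mem_cj, inv_inv]; exact (c2 (conj_mem_cj ⟨d1, d3⟩)).1)
    rw [← cj_mul] at e2
    refine ⟨c' * (c⁻¹ * ρ), ⟨mul_mem (cent_le_norm _ e1) b4, mem_normalizer_of_cj_le e2⟩, fun f => ?_⟩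
    have f1 : ρ ∈ 𝐂(S) := by simpa using mul_mem (show c ∈ 𝐂(S) from c1.2) (mul_mem (inv_mem e1) f)
    rw [← mem_cent_iff.1 f1 t h.tS, mul_inv_cancel_right] at b2
    exact h.ne b2
  · have pp : IsPGroup p (P ⊓ 𝐂(S) : Subgroup G) := isPGroup_of_le inf_le_left hP.isPGroup
    obtain ⟨R, b⟩ := exists_syl p 𝐂(S)
    obtain ⟨c, c1, c2⟩ := h.cj1 hp h.cent_eq a1 (h.inv_inf hn) (b.le.trans (cent_le_cent1 h.tS))
      b.isPGroup ((cent_symm b.le).trans (cent_le_norm _))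
    have k := b.cj_of_mem c1.2
    exact H1.isSylowIn_of_card_ge k pp inf_le_right (card_le_of_le (le_inf (c2.trans inf_le_left) k.le))

theorem V4.card_eq (h : V4 S t s) {ρ : G} (h1 : ρ ∈ 𝐍(S)) (h2 : ρ ∈ 𝐍(Q)) (h3 : ρ ∉ 𝐂(S)) :
    ♯(Q ⊓ 𝐂[t] : Subgroup G) = ♯(Q ⊓ 𝐂[s] : Subgroup G) := by
  have key : ∀ (σ a b : G), σ ∈ 𝐍(Q) → σ * a * σ⁻¹ = b →
      ♯(Q ⊓ 𝐂[a] : Subgroup G) = ♯(Q ⊓ 𝐂[b] : Subgroup G) := fun σ a b c d => by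
    rw [← card_cj σ, cj_inf, cj_cent1, d, cj_eq_iff_mem_normalizer.2 c]
  rcases h.trans h1 h3 with ⟨a, -⟩ | ⟨-, a⟩
  · exact key ρ t s h2 a
  · exact (key ρ s t h2 a).symm

theorem V4.le_of_mem (h : V4 S t s) {ρ x : G} (h1 : ρ ∈ 𝐍(S)) (h2 : ρ ∈ 𝐍(K)) (h3 : ρ ∉ 𝐂(S))
    (hx : x ∈ S) (hK : x ∈ K) (x1 : x ≠ 1) : S ≤ K := by
  have key : ∀ {t s : G}, V4 S t s → t ∈ K → S ≤ K := fun h a => by
    have b := conj_mem_of_mem_normalizer h2 a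
    rcases h.trans h1 h3 with ⟨c, -⟩ | ⟨c, -⟩ <;> rw [c] at b
    · exact h.le_iff.2 ⟨a, b⟩
    · exact h.le_iff.2 ⟨a, by simpa using mul_mem (inv_mem a) b⟩
  rcases h.mem.1 hx with rfl | rfl | rfl | rfl
  exacts [absurd rfl x1, key h hK, key h.symm hK, key h.third.symm hK]

theorem v1_nrm_sup {Y Z : Subgroup G} (hZ : Z ⊴ Y) (hY : Y ≤ Z ⊔ (Y ⊓ 𝐍(Q))) (hK : K ≤ Y)
    (hn : Y ⊓ 𝐍(Q) ≤ 𝐍(K)) : Z ⊔ K ⊴ Y :=
  ⟨sup_le hZ.le hK, hY.trans (sup_le (le_sup_left.trans le_normalizer)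
    (le_normalizer_sup (inf_le_left.trans hZ.norm) hn))⟩

theorem V4.c2a (h : V4 S t s) (hp : p ≠ 2) (hP : Syl p P ⊤) (hn : S ≤ 𝐍(P))
    (h1 : ¬ P ⊓ 𝐂[t] ≤ 𝐂(S)) (h2 : ¬ P ⊓ 𝐂[s] ≤ 𝐂(S)) {Y L : Subgroup G} (hY : Y ≠ ⊤) (hPY : P ≤ Y)
    (hSY : S ≤ Y) (hL : Cmp Y L) :
    Group.IsSolvable (core {p}ᶜ Y) ∧ core {p}ᶜ Y ⊔ P ⊴ Y := by
  have hA := h.min.sim.isA
  have Pc := comm_iff_le_cent.1 (hA.comm hP.isPGroup)
  have oP := v1_oddp hp hP.isPGroup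
  have hS := h.syl_of_le hSY
  obtain ⟨-, -, -, f4⟩ := hL.four h.min hY hS h.card
  obtain ⟨ρ', r1, r2⟩ := SetLike.not_le_iff_exists.1 f4
  have ρY : ρ' ∈ Y := hL.le r1.1
  have On := core_nrm {2}ᶜ Y
  have oO := v1_oddO Y
  have hP' : Syl p (P ⊓ Oo Y) (Oo Y) := Syl.inf_of_nrm (hP.of_le hPY le_top) On
  have SO : S ≤ 𝐍(Oo Y) := hSY.trans On.norm
  have nP' : S ≤ 𝐍(P ⊓ Oo Y) := le_normalizer_inf hn SO
  obtain ⟨⟨ρ, a1, a2⟩, -⟩ := h.c1 hp hP hn h1 h2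
  obtain ⟨σ, b1, b2, b3⟩ : ∃ σ ∈ 𝐍(S), σ ∈ 𝐍(P ⊓ Oo Y) ∧ σ ∉ 𝐂(S) := by
    have k := hP'.cj_of_mem_normalizer (On.norm ρY)
    obtain ⟨c, c1, c2⟩ := h.cj0 oO SO hP' nP' k.le k.isPGroup (v1_inv_cj r1.2 nP')
    rw [← cj_mul] at c2
    exact ⟨c * ρ', mul_mem (cent_le_norm _ c1.2) r1.2, mem_normalizer_of_cj_le c2, fun e => r2 (by
      simpa using mul_mem (inv_mem (show c ∈ 𝐂(S) from c1.2)) e)⟩
  set P0 := P ⊓ 𝐂(S) with hP0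
  have cP : ∀ A B : Subgroup G, A ≤ P → B ≤ P → A ≤ 𝐍(B) := fun A B a b =>
    (a.trans Pc).trans ((cent_anti b).trans (cent_le_norm _))
  have tr : ∀ {a b : G}, V4 S a b → P ⊓ 𝐂[a] ≤ P0 ⊔ (P ⊓ Oo Y ⊓ 𝐂[a]) →
      P ⊓ 𝐂[b] ≤ P0 ⊔ (P ⊓ Oo Y ⊓ 𝐂[b]) := fun {a b} hv hg => by
    have e1 := hv.card_eq a1.1 a1.2 a2
    have e2 := hv.card_eq b1 b2 b3
    have key : ∀ c ∈ S, ♯(P0 ⊔ (P ⊓ Oo Y ⊓ 𝐂[c]) : Subgroup G) * ♯(P0 ⊓ Oo Y : Subgroup G) =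
        ♯P0 * ♯(P ⊓ Oo Y ⊓ 𝐂[c] : Subgroup G) := fun c hc => by
      have := card_sup_mul_card_inf (cP P0 (P ⊓ Oo Y ⊓ 𝐂[c]) inf_le_left (inf_le_left.trans inf_le_left))
      rwa [show P0 ⊓ (P ⊓ Oo Y ⊓ 𝐂[c]) = P0 ⊓ Oo Y from le_antisymm
        (inf_le_inf_left _ (inf_le_left.trans inf_le_right)) (le_inf inf_le_left (le_inf
          (inf_le_inf_right _ inf_le_left) (inf_le_left.trans (inf_le_right.trans (cent_le_cent1 hc)))))] at this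
    have e3 := key a hv.tS
    rw [e2, ← key b hv.sS] at e3
    have e4 := Nat.eq_of_mul_eq_mul_right Nat.card_pos e3
    refine (eq_of_le_of_card_le (sup_le (inf_le_inf_left _ (cent_le_cent1 hv.sS))
      (inf_le_inf_right _ inf_le_left)) ?_).ge
    rw [← e1, ← e4]; exact card_le_of_le hg
  have ng : ∀ {a b : G}, V4 S a b → ¬ P ⊓ 𝐂[a] ≤ P0 ⊔ (P ⊓ Oo Y ⊓ 𝐂[a]) →
      ∃ x ∈ P, x ∉ Oo Y ∧ a * x = x * a ∧ b * x * b⁻¹ = x⁻¹ := fun {a b} hv hg => by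
    obtain ⟨x, hx, x1⟩ := SetLike.not_le_iff_exists.1 hg
    have b2 := JR.sq_of_two hv.s2
    have c1 := conj_mem_of_mem_normalizer (hv.inv_inf hn hv.sS) hx
    have c2 : x * (b * x * b⁻¹) = b * x * b⁻¹ * x := mem_cent_iff.1 (Pc c1.1) x hx.1
    refine ⟨x⁻¹ * (b * x * b⁻¹), mul_mem (inv_mem hx.1) c1.1, fun e => x1 ?_,
      (mem_cent1_iff.1 (mul_mem (inv_mem hx) c1).2).symm, ?_⟩
    · refine JR.mem_of_sq_mem' (JR.odd_orderOf oP hx.1) ?_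
      have c3 : x * (b * x * b⁻¹) ∈ P0 := by
        refine ⟨mul_mem hx.1 c1.1, ?_⟩
        rw [SetLike.mem_coe, hv.centS]
        refine ⟨(mul_mem hx c1).2, mem_cent1_iff.2 ?_⟩
        calc x * (b * x * b⁻¹) * b = (b * b) * x * b⁻¹ * x := by
              rw [b2, one_mul, mul_assoc, inv_mul_cancel_right, JR.inv_of_two hv.s2, mul_assoc]
          _ = b * (b * x * b⁻¹ * x) := by group
          _ = _ := by rw [← c2]
      have := mul_mem (mem_sup_left c3 : _ ∈ P0 ⊔ (P ⊓ Oo Y ⊓ 𝐂[a]))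
        (mem_sup_right (inv_mem ⟨⟨(mul_mem (inv_mem hx) c1).1, e⟩, (mul_mem (inv_mem hx) c1).2⟩))
      simpa [mul_assoc] using this
    · rw [show b * (x⁻¹ * (b * x * b⁻¹)) * b⁻¹ = b * x⁻¹ * (b * b) * b⁻¹ * x * (b * b)⁻¹ by group, b2]
      group
  have gt : P ⊓ 𝐂[t] ≤ P0 ⊔ (P ⊓ Oo Y ⊓ 𝐂[t]) := by
    by_contra c1
    obtain ⟨x, x1, x2, x3, x4⟩ := ng h c1
    obtain ⟨y, y1, y2, y3, y4⟩ := ng h.symm fun c2 => c1 (tr h.symm c2)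
    rcases hL.v2 h.min hY hS h.card h.tS h.sS h.t2 h.s2 h.ne (hPY x1) (hPY y1) (JR.odd_orderOf oP x1)
      (JR.odd_orderOf oP y1) (mem_cent_iff.1 (Pc y1) x x1) x3 x4 y3 y4 with e | e
    exacts [x2 e, y2 e]
  have gP : P ≤ P0 ⊔ (P ⊓ Oo Y) := (h.gen oP hn).trans (sup_le (sup_le
    (gt.trans (sup_le_sup_left inf_le_left _)) ((tr h gt).trans (sup_le_sup_left inf_le_left _)))
    ((tr h.third gt).trans (sup_le_sup_left inf_le_left _)))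
  have Zn := core_nrm {p}ᶜ Y
  have ZP : ∀ A ≤ P, A ⊓ core {p}ᶜ Y = ⊥ := fun A a =>
    inf_eq_bot_of_coprime' (coprime_of_isPGroup (isPGroup_of_le a hP.isPGroup) (core_piG _ _))
  have nC : ¬ S ≤ 𝐂(P ⊓ Oo Y) := fun e =>
    h1 (inf_le_left.trans (gP.trans (sup_le inf_le_right (cent_symm e))))
  have odd : ∀ N : Subgroup G, N ⊴ Y → ¬ S ≤ N → N ≤ Oo Y := fun N a b => by
    refine le_core a (piG_compl_singleton.2 ((H1.IsSylowIn.eq_bot_iff (Syl.inf_of_nrm hS a)).1 ?_))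
    exact (eq_bot_iff_forall _).2 fun x hx => by_contra fun x1 =>
      b (h.le_of_mem r1.2 (a.norm ρY) r2 hx.1 hx.2 x1)
  have cz : ¬ S ≤ core {p}ᶜ Y ⊔ (Y ⊓ 𝐂(P ⊓ Oo Y)) := fun e => nC fun a ha => by
    obtain ⟨z, hz, c, hc, rfl⟩ := (mem_sup_of_le_normalizer' (inf_le_left.trans Zn.norm)).1 (e ha)
    refine mem_cent_iff.2 fun x hx => ?_
    have d1 := mem_cent_iff.1 hc.2 x hx
    have d2 : z * c * x * (z * c)⁻¹ * x⁻¹ = z * (x * z⁻¹ * x⁻¹) := by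
      rw [mul_assoc z c x, ← d1]; group
    have d3 : z * c * x * (z * c)⁻¹ * x⁻¹ = 1 := mem_bot.1 (ZP _ inf_le_left ▸
      mem_inf.2 ⟨mul_mem (conj_mem_of_mem_normalizer (nP' ha) hx) (inv_mem hx),
        d2 ▸ mul_mem hz (conj_mem_of_mem_normalizer (Zn.norm (hPY hx.1)) (inv_mem hz))⟩)
    rw [mul_inv_eq_one, mul_inv_eq_iff_eq_mul] at d3
    exact d3.symm
  have ZO := odd _ Zn fun e => cz (e.trans le_sup_left)
  have FR : Y ≤ core {p}ᶜ Y ⊔ (Y ⊓ 𝐍(P ⊓ Oo Y)) := by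
    refine (Syl.frattini' hP' On).ge.trans (sup_le (fun g hg => ?_) le_sup_right)
    obtain ⟨a, ha, b, hb, hb', rfl⟩ := JR.OP Fact.out (odd_order_solvable oO) hP'
      (fun x hx y hy => mem_cent_iff.1 (Pc hy.1) x hx.1) g hg
    exact mul_mem_sup (core_le_core_of_nrm On ha) ⟨On.le hb, hb'⟩
  have PO : P ≤ Oo Y := le_trans (le_sup_of_le_right (le_inf hPY (Pc.trans (cent_anti inf_le_left))))
    (odd _ (v1_nrm_sup Zn FR inf_le_left (le_normalizer_inf (inf_le_left.trans le_normalizer)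
      (le_normalizer_centralizer inf_le_right))) cz)
  rw [inf_of_le_left PO] at FR
  exact ⟨isSolvable_of_le ZO (odd_order_solvable oO), v1_nrm_sup Zn FR hPY inf_le_right⟩

theorem V4.c2 (h : V4 S t s) (hp : p ≠ 2) (hP : Syl p P ⊤) (hn : S ≤ 𝐍(P))
    (h1 : ¬ P ⊓ 𝐂[t] ≤ 𝐂(S)) (h2 : ¬ P ⊓ 𝐂[s] ≤ 𝐂(S)) {y : G} (hy : y ∈ P) (hy1 : y ≠ 1) :
    Group.IsSolvable (core {p}ᶜ 𝐂[y]) ∧ core {p}ᶜ 𝐂[y] ⊔ P ⊴ 𝐂[y] := by
  have hA := h.min.sim.isA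
  have Pc := comm_iff_le_cent.1 (hA.comm hP.isPGroup)
  have PY : P ≤ 𝐂[y] := Pc.trans (cent_le_cent1 hy)
  have hPY := hP.of_le PY le_top
  by_cases hs : Group.IsSolvable 𝐂[y]
  · exact ⟨isSolvable_of_le (core_le _ _) hs, hA.plen hPY hs⟩
  have Yt := h.min.sim.cent_ne_top hy1
  obtain ⟨L, hL⟩ := exists_cmp h.min Yt hs
  obtain ⟨S1, hS1⟩ := exists_syl 2 𝐂[y]
  obtain ⟨τ, -, hτ⟩ := hL.sing h.min Yt hS1
  obtain ⟨g, -, g1⟩ := h.syl.exists_cj_le hS1.isPGroup le_top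
  have g2 : H1.cj g S1 = S := eq_of_le_of_card_le g1 (by
    rw [card_cj, h.card]; exact hτ.four.trans (card_le_of_le inf_le_left))
  have g3 : g * y * g⁻¹ ∈ 𝐂(S) := by
    rw [← g2, ← cj_centralizer]; exact conj_mem_cj (le_cent1_iff.1 hS1.le)
  obtain ⟨c, c1, c2⟩ := (h.c1 hp hP hn h1 h2).2.exists_cj_le (Q := zpowers (g * y * g⁻¹))
    (by rw [← cj_zpowers]; exact isPGroup_cj _ (isPGroup_of_le (zpowers_le.2 hy) hP.isPGroup))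
    (zpowers_le.2 g3)
  have c3 := c2 (conj_mem_cj (mem_zpowers _))
  rw [show c * (g * y * g⁻¹) * c⁻¹ = c * g * y * (c * g)⁻¹ by group] at c3
  generalize c * g = a at c3
  have d1 := hL.cj a
  rw [cj_cent1] at d1
  obtain ⟨e1, e2⟩ := h.c2a hp hP hn h1 h2 (h.min.sim.cent_ne_top (conj_ne_one hy1))
    (Pc.trans (cent_le_cent1 c3.1)) (le_cent1_iff.2 c3.2) d1
  have e3 := e2.cj a⁻¹
  have e4 : H1.cj a⁻¹ 𝐂[a * y * a⁻¹] = 𝐂[y] := by rw [← cj_cent1, cj_inv_cj]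
  rw [cj_sup, cj_core, e4] at e3
  refine ⟨?_, ?_⟩
  · rw [← e4, ← cj_core]; exact Group.isSolvable_of_surjective (MonoidHom.subgroupMap_surjective _ _)
  · have e5 := hP.cj a⁻¹
    rw [cj_top] at e5
    obtain ⟨b, b1, b2⟩ := hPY.exists_cj_eq (e5.of_le (le_sup_right.trans e3.le) le_top)
    have e6 := cj_eq_iff_mem_normalizer.2 (e3.norm b1)
    rw [cj_sup, b2, cj_eq_iff_mem_normalizer.2 ((core_nrm _ _).norm b1)] at e6
    rwa [e6]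

theorem v1_bal (hA : IsA G) {Y D : Subgroup G} (hP : Syl p P Y) (hn : core {p}ᶜ Y ⊔ P ⊴ Y) (hD : D ≤ Y)
    (hd : PiG {p}ᶜ D) (hPD : P ≤ 𝐍(D)) : D ≤ core {p}ᶜ Y := by
  have Zn := core_nrm {p}ᶜ Y
  have Pc := comm_iff_le_cent.1 (hA.comm hP.isPGroup)
  have hall : ∀ Z E : Subgroup G, PiG {p}ᶜ Z → P ≤ 𝐍(Z) → Z ⊔ P = E → Hall {p}ᶜ Z E := fun Z E a b c => by
    refine ⟨le_sup_left.trans c.le, a, ?_⟩
    rw [← c, sup_comm, relIndex_sup_of_le_normalizer b, compl_compl]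
    exact (piG_singleton_iff.2 hP.isPGroup).relIndex _
  have FR : Y ≤ core {p}ᶜ Y ⊔ (Y ⊓ 𝐍(P)) := by
    have := Syl.frattini' (hP.of_le le_sup_right hn.le) hn
    rw [sup_assoc, sup_of_le_right (le_inf hP.le le_normalizer)] at this
    exact this.ge
  have a1 : ⁅D, P⁆ ≤ core {p}ᶜ Y := (hall _ _ (core_piG _ _) (hP.le.trans Zn.norm) rfl).le_of_nrm
    (hn.le.trans Zn.norm) ((commutator_mono le_rfl le_sup_right).trans
      (commutator_le_right' (hD.trans hn.norm))) (hd.of_le (commutator_le_left' hPD))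
  have a2 := hA.core_sup (X := Y ⊓ 𝐂(P)) (hP.of_le (le_inf hP.le Pc) inf_le_left)
    (inf_le_left.trans inf_le_right)
  have Kn := core_nrm {p}ᶜ (Y ⊓ 𝐂(P))
  have a3 : core {p}ᶜ (Y ⊓ 𝐂(P)) ≤ core {p}ᶜ Y := le_sup_right.trans (le_core
    (v1_nrm_sup Zn FR (Kn.le.trans inf_le_left) (le_normalizer_core _ (le_normalizer_inf
      (inf_le_left.trans le_normalizer) (le_normalizer_centralizer inf_le_right))))
    ((core_piG _ _).sup (core_piG _ _) ((Kn.le.trans inf_le_left).trans Zn.norm)))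
  have a4 : D ⊓ 𝐂(P) ≤ core {p}ᶜ (Y ⊓ 𝐂(P)) := (hall _ _ (core_piG _ _)
    ((le_inf hP.le Pc).trans Kn.norm) a2).le_core (inf_le_inf_right _ hD) (hd.of_le inf_le_left)
  exact (H2.centralizer_sup_of_commutator_le hPD (coprime_of_isPGroup hP.isPGroup hd)
    (Or.inl (isSolvable_of_nil hP.isPGroup.isNilpotent)) a1).trans (sup_le (a4.trans a3) le_rfl)

theorem v1_mul_le (hR : IsPGroup p R) (h : Q < R) : p * ♯Q ≤ ♯R := by
  have h1 : p ∣ Q.relIndex R := by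
    obtain ⟨n, hn⟩ := IsPGroup.iff_card.1 hR
    obtain ⟨k, -, hk⟩ := (Nat.dvd_prime_pow Fact.out).1 (hn ▸ relIndex_dvd_card' Q R)
    rcases k with _ | k
    · exact absurd (relIndex_eq_one.1 (by simpa using hk)) h.2
    · rw [hk]; exact dvd_pow_self p k.succ_ne_zero
  rw [← card_mul_relIndex h.le, mul_comm]
  exact Nat.mul_le_mul_left _ (Nat.le_of_dvd (Nat.pos_of_ne_zero index_ne_zero_of_finite) h1)

theorem V4.c3 (h : V4 S t s) (hp : p ≠ 2) (hP : Syl p P ⊤) (hn : S ≤ 𝐍(P))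
    (h1 : ¬ P ⊓ 𝐂[t] ≤ 𝐂(S)) (h2 : ¬ P ⊓ 𝐂[s] ≤ 𝐂(S)) :
    ∃ M : Subgroup G, M ≠ ⊤ ∧ ∀ R : Subgroup G, R ≤ P → R ≠ ⊥ → 𝐍(R) ≤ M := by
  have hA := h.min.sim.isA
  have Pc' := hA.comm hP.isPGroup
  have Pc := comm_iff_le_cent.1 Pc'
  have oP := v1_oddp hp hP.isPGroup
  obtain ⟨⟨ρ, a1, a2⟩, -⟩ := h.c1 hp hP hn h1 h2
  have pA : IsPGroup p (om p P) := isPGroup_of_le (om_le p P) hP.isPGroup
  have h3 : p ^ 3 ≤ ♯(om p P) := by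
    have b1 := JR.BR (odd_of_le (om_le p P) oP) h.fg (le_normalizer_om p hn h.tS) (le_normalizer_om p hn h.sS)
    have ρA : ρ ∈ 𝐍(om p P) := le_normalizer_om p le_rfl a1.2
    rw [← h.card_eq a1.1 ρA a2, ← h.third.card_eq a1.1 ρA a2] at b1
    obtain ⟨y, c1, c2, c3, c4⟩ := h.exy hn h1
    obtain ⟨x, hx, x1⟩ := exists_orderOf_eq_prime (H := zpowers y) Fact.out (dvd_card_of_isPGroup
      (isPGroup_of_le (zpowers_le.2 c1) hP.isPGroup) (by simpa using c2))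
    have b2 := v1_mul_le (Q := om p P ⊓ 𝐂[t] ⊓ 𝐂[s]) (isPGroup_of_le (inf_le_left (b := 𝐂[t])) pA)
      (lt_of_le_of_ne inf_le_left fun e => by
        have d1 : x ∈ om p P ⊓ 𝐂[t] ⊓ 𝐂[s] := e.ge ⟨mem_om (zpowers_le.2 c1 hx)
          (x1 ▸ pow_orderOf_eq_one x), zpowers_le.2 c3 hx⟩
        have d2 : s * x * s⁻¹ = x⁻¹ := by
          obtain ⟨i, rfl⟩ := hx
          simp only [← conj_zpow, c4, inv_zpow]
        rw [← mem_cent1_iff.1 d1.2, mul_inv_cancel_right] at d2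
        have d3 := JR.eq_one_of_odd (JR.odd_orderOf oP (zpowers_le.2 c1 hx)) (mul_eq_one_iff_eq_inv.2 d2)
        rw [d3, orderOf_one] at x1
        exact (Fact.out : p.Prime).one_lt.ne x1)
    have b3 := Nat.card_pos (α := (om p P ⊓ 𝐂[t] ⊓ 𝐂[s] : Subgroup G))
    generalize ♯(om p P ⊓ 𝐂[t] ⊓ 𝐂[s] : Subgroup G) = a at *
    have b4 : (p * a) * (p * a) * (p * a) ≤ ♯(om p P) * a ^ 2 :=
      b1 ▸ Nat.mul_le_mul (Nat.mul_le_mul b2 b2) b2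
    refine Nat.le_of_mul_le_mul_right (le_trans ?_ b4) (pow_pos b3 2)
    calc p ^ 3 * a ^ 2 = p ^ 3 * a ^ 2 * 1 := by ring
      _ ≤ p ^ 3 * a ^ 2 * a := Nat.mul_le_mul_left _ b3
      _ = _ := by ring
  have mA := fun {x : G} => mem_om_of_comm (p := p) (x := x) Pc'
  have hq : ∀ a ∈ P, P ≤ 𝐂[a] := fun a ha => Pc.trans (cent_le_cent1 ha)
  have c2 := fun a (ha : a ∈ om p P) (h0 : a ≠ 1) => h.c2 hp hP hn h1 h2 (om_le p P ha) h0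
  have k1 := (S0217.result (om p P) (fun a ha b hb => mem_cent_iff.1 (Pc (om_le p P hb)) a (om_le p P ha))
    (fun a ha => (mA.1 ha).2) h3 (fun a => core {p}ᶜ 𝐂[a]) (fun a _ _ => core_le _ _)
    (fun a _ _ => piG_compl_singleton.1 (core_piG _ _))
    (fun a ha _ b hb x hx => (core_nrm _ _).conj_mem (hq a (om_le p P ha) (om_le p P hb)) hx)
    (fun a ha h0 => (c2 a ha h0).1) (fun a ha _ b hb h0 =>
      v1_bal hA (hP.of_le (hq b (om_le p P hb)) le_top) (c2 b hb h0).2 inf_le_right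
        ((core_piG _ _).of_le inf_le_left) (le_normalizer_inf
          ((hq a (om_le p P ha)).trans (core_nrm _ _).norm) ((hq b (om_le p P hb)).trans le_normalizer)))).1
  set W := ⨆ a : {a : G // a ∈ om p P ∧ a ≠ 1}, core {p}ᶜ 𝐂[a.1] with hW
  have k2 : 𝐍(P) ≤ 𝐍(W) := fun g hg => by
    refine mem_normalizer_of_cj_le ?_
    rw [cj_le_iff_le_cj_inv]
    refine iSup_le fun a => ?_
    rw [← cj_le_iff_le_cj_inv, cj_core, cj_cent1]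
    exact le_iSup (fun a : {a : G // a ∈ om p P ∧ a ≠ 1} => core {p}ᶜ 𝐂[a.1]) ⟨g * a * g⁻¹,
      conj_mem_of_mem_normalizer (le_normalizer_om p le_rfl hg) a.2.1, conj_ne_one a.2.2⟩
  have P0 : P ≠ ⊥ := fun e => h1 (by simp [e])
  refine ⟨W ⊔ 𝐍(P), fun e => ?_, fun R hR R0 => ?_⟩
  · by_cases e1 : W = ⊥
    · rw [e1, bot_sup_eq] at e
      refine h.min.sim.norm_ne_top P0 (fun e2 => JR.not_mem_of_odd oP h.t2 (e2 ▸ mem_top t)) e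
    · refine h.min.sim.norm_ne_top e1 (fun e2 => k1 ?_) (eq_top_iff.2 (e.ge.trans (sup_le le_normalizer k2)))
      exact (dvd_card_of_isPGroup hP.isPGroup P0).trans (card_dvd_of_le' (e2 ▸ le_top))
  · refine le_trans (le_inf le_top le_rfl) ((hA.norm_le hP hR).trans (sup_le ?_
      (inf_le_right.trans le_sup_right)))
    obtain ⟨a, ha, a1⟩ := exists_ne_one_of_ne_bot (om_ne_bot_of_isPGroup (isPGroup_of_le hR hP.isPGroup) R0)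
    have b1 := (c2 a (om_mono hR ha) a1).2
    have b2 := hP.of_le (hq a (hR (om_le _ _ ha))) le_top
    refine inf_le_right.trans ((cent_le_cent1 (om_le _ _ ha)).trans
      ((Syl.frattini' (b2.of_le le_sup_right b1.le) b1).ge.trans (sup_le (sup_le ?_ ?_) ?_)))
    · exact (le_iSup (fun a : {a : G // a ∈ om p P ∧ a ≠ 1} => core {p}ᶜ 𝐂[a.1])
        ⟨a, om_mono hR ha, a1⟩).trans le_sup_left
    · exact le_normalizer.trans le_sup_right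
    · exact inf_le_right.trans le_sup_right

theorem V4.coatom' (h : V4 S t s) : IsCoatom 𝐂[t] := by
  have hA := h.min.sim.isA
  have H0 := h.min.sim.cent_ne_top (JR.ne_one_of_two h.t2)
  obtain ⟨M, hM, HM⟩ := (eq_top_or_exists_le_coatom 𝐂[t]).resolve_left H0
  by_cases e : M = 𝐂[t]
  · exact e ▸ hM
  exfalso
  have a1 := h.not_le hM.1 HM
  have SM := h.le_centt.trans HM
  have a2 := h.oo_sup SM a1
  have On := core_nrm {2}ᶜ M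
  have oO := v1_oddO M
  have a3 : ¬ fit (Oo M) ≤ 𝐂[t] := fun c => e (le_antisymm (a2.ge.trans (sup_le ?_ h.le_centt)) HM)
  · obtain ⟨q, _, a4⟩ : ∃ (q : ℕ) (_ : Fact q.Prime), ¬ core {q} (Oo M) ≤ 𝐂[t] := by
      by_contra c
      push Not at c
      exact a3 (fit_le_of_forall_pcore fun q i => c q i)
    have Qn : core {q} (Oo M) ⊴ M := On.core _
    have Qp := core_isPGroup (p := q) (Oo M)
    have Q0 : core {q} (Oo M) ≠ ⊥ := fun c => a4 (c ▸ bot_le)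
    have oQ := odd_of_le (core_le {q} _) oO
    generalize core {q} (Oo M) = Q at *
    have q2 : q ≠ 2 := by
      rintro rfl
      exact (Nat.not_even_iff_odd.2 oQ) (even_iff_two_dvd.2 (dvd_card_of_isPGroup Qp Q0))
    have NQ := h.min.sim.norm_eq hM Q0 Qn
    obtain ⟨R, b1, -, b2⟩ := h.ex q2 h.cent_eq bot_le IsPGroup.of_bot (le_normalizer_of_conj_mem (by simp))
    obtain ⟨P, c1, c2, c3⟩ := h.ex q2 a2 (b1.le.trans HM) b1.isPGroup b2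
    have QP : Q ≤ P := c1.le_of_normal Qp Qn.le Qn.norm
    have hP : Syl q P ⊤ := JR.AG.syl hA Fact.out Qp (NQ ▸ cent_le_norm _) c1
    have key : ∀ {s : G}, V4 S t s → ¬ Q ⊓ 𝐂[s] ≤ 𝐂[t] → False := fun {s} h d => by
      have d2 : ¬ P ⊓ 𝐂[s] ≤ 𝐂(S) := fun f => d ((inf_le_inf_right _ QP).trans (f.trans (cent_le_cent1 h.tS)))
      have d1 : ¬ P ⊓ 𝐂[t] ≤ 𝐂(S) := fun f => d2 ?_
      · obtain ⟨⟨ρ, f1, f2⟩, -⟩ := h.c1 q2 hP c3 d1 d2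
        obtain ⟨M', g1, g2⟩ := h.c3 q2 hP c3 d1 d2
        have g3 : M' = M := by
          by_contra g4
          exact g1 (hM.2 _ (lt_of_le_of_ne (NQ ▸ g2 Q QP Q0) (Ne.symm g4)))
        exact f2 (a1 ⟨g3 ▸ g2 P le_rfl (ne_bot_of_le QP Q0) f1.2, f1.1⟩)
      · obtain ⟨ρ, -, f2, -⟩ := h.rho
        have f3 := b1.cj ρ
        rw [cj_cent1, f2] at f3
        have f4 := f3.card_le (Q := P ⊓ 𝐂[s]) (isPGroup_of_le inf_le_left hP.isPGroup) inf_le_right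
        rw [card_cj] at f4
        have f5 : R ≤ P ⊓ 𝐂[s] := le_inf c2 ((le_inf c2 b1.le).trans (f.trans (cent_le_cent1 h.sS)))
        exact (eq_of_le_of_card_le f5 f4).ge.trans ((le_inf c2 b1.le).trans f)
    exact a4 ((h.gen oQ (SM.trans Qn.norm)).trans (sup_le (sup_le inf_le_right
      (by_contra (key h))) (by_contra (key h.third))))
  · rw [← cent_zpowers] at c ⊢
    have tO : zpowers t ≤ 𝐍(Oo M) := zpowers_le.2 (On.norm (SM h.tS))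
    refine H2.le_centralizer_of_commutator_le_centralizer tO
      (coprime_of_isPGroup (JR.two_zpowers h.t2) (core_piG _ _)) (le_trans ?_ c)
    refine le_trans (le_inf (commutator_le_left' tO) ?_) (cent_fit_le (odd_order_solvable oO))
    exact (commutator_mono le_rfl (cent_symm c)).trans (commutator_le_right'
      (le_normalizer_centralizer (fit_nrm _).norm))

end Cfsg.Agent.AG
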