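import Cfsg.Agent.MC.BG

/-! Columns of generalized decomposition numbers on the section of an involution (Klein four Sylow
`2`-subgroups): the argument of `MC/BG` with a weaker hypothesis. -/

set_option autoImplicit false
set_option linter.unusedSectionVars false

namespace Cfsg.Agent.AG

open Subgroup Cfsg.Agent.FT Cfsg.Agent.MC
open scoped Classical ComplexConjugate

universe u
variable {G : Type u} [Group G] [Finite G] {K E : Subgroup G} {t s x y g : G}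
  {χ ψ θ l m : G → ℂ}

structure Sec3 (K E : Subgroup G) (t s : G) : Prop extends Sec K t where
  nE : E ⊴ K
  der : ⁅K, K⁆ ≤ E
  off' : ∀ χ ∈ Irr ⊤, ∀ l ∈ IrrK K E, ∀ θ ∈ Irr K, θ ∉ IrrK K E → ∀ b b' : ℤ,
    bq K t χ θ = b → bq K t χ l = b' → Odd b' → Even b
  inv : ∀ l ∈ IrrK K E, ∀ g ∈ 𝐂[t], cjf g l = l
  s2 : orderOf s = 2
  st : s ∈ 𝐂[t]
  ne : t ≠ s
  cnj : ∀ u : G, orderOf u = 2 → IsConj t u
  ex : ∃ x ∈ E, x ≠ 1 ∧ s * x * s⁻¹ = x⁻¹

namespace Sec3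

variable (h : Sec3 K E t s)
include h

theorem oddE : Odd ♯E := odd_of_le h.nE.le h.odd

theorem lin (hl : l ∈ IrrK K E) : Lin K l := lin_of_irrK h.der hl

theorem off (hχ : χ ∈ Irr ⊤) (hl : l ∈ IrrK K E) (hθ : θ ∈ Irr K) (h1 : θ ∉ IrrK K E) {b b' : ℤ}
    (e : bq K t χ θ = b) (e' : bq K t χ l = b') (ho : Odd b') : Even b :=
  h.off' χ hχ l hl θ hθ h1 b b' e e' ho

theorem same (hχ : χ ∈ Irr ⊤) (hψ : ψ ∈ Irr ⊤) (hl : l ∈ IrrK K E) (hm : m ∈ IrrK K E)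
    {b b' c c' : ℤ} (e : bq K t χ l = b) (e' : bq K t χ m = b') (f : bq K t ψ l = c)
    (f' : bq K t ψ m = c') (ho : Odd b) (ho' : Odd b') : Even (c - c') := by
  have k : ∀ l ∈ IrrK K E, ∀ c : ℤ, bq K t ψ l = c → ∃ n : ℤ, (∑ c ∈ els (K : Set G),
      (if Odd (orderOf c) then conj (ψ c) else 0) * l c) / l 1 = (♯K * (2 * n - c) : ℤ) := by
    intro l hl c f
    obtain ⟨n, hn⟩ := bg_par h.t2 h.cent h.tK (h.lin hl).char (irr_vchar hψ)
    refine ⟨n, ?_⟩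
    have := dot_symm_int (n := 2 * n - c) (by push_cast; exact eq_sub_of_add_eq (f ▸ hn))
    rw [(h.lin hl).one, div_one, Int.cast_mul, ← this, dot, Int.cast_natCast,
      mul_inv_cancel_left₀ (cardC_ne_zero K)]
    exact Finset.sum_congr rfl fun x hx => by
      rw [if_pos (h.odd.of_dvd_nat (orderOf_dvd_card' (mem_els.1 hx))), mul_comm]
  obtain ⟨n, hn⟩ := k l hl c f
  obtain ⟨n', hn'⟩ := k m hm c' f'
  have := h.lemM2 (a := fun c => if Odd (orderOf c) then conj (ψ c) else 0) hχ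
    ⟨fun x hx => absurd (mem_top x) hx, fun g hg x => by
      simp only [Br.orderOf_cj, cfJ (irr_CF hψ) hg]⟩
    (fun x => by
      split_ifs
      exacts [isIntegral_aut (starRingEnd ℂ) (isIntegral_char (irr_char hψ) x), isIntegral_zero])
    (fun x hx => by_contra fun e => hx (if_neg e)) (irrK_irr hl) (irrK_irr hm) e e' hn hn'
  rw [← mul_sub] at this
  simp only [Int.even_mul, Int.not_even_iff_odd.2 ho, Int.not_even_iff_odd.2 ho', Int.even_coe_nat,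
    Nat.not_even_iff_odd.2 h.odd, false_or] at this
  rw [Int.even_iff] at this ⊢
  omega

theorem four (hχ : χ ∈ CF ⊤) (hy : y ∈ K) : χ (t * y) = ∑ θ ∈ Irr K, bq K t χ θ * θ y := by
  have := congrFun (cf_sum_irr (φ := Res K fun y => χ (t * y)) (mem_CF'.2 ⟨Res_supp _ _,
    fun g hg x hx => by
      rw [Res_of_mem _ (mul_mem (mul_mem hg hx) (inv_mem hg)), Res_of_mem _ hx,
        ← cfJ hχ (mem_top g) (t * x), ← mul_assoc g, mem_cent1_iff.1 (h.cent hg)]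
      simp only [mul_assoc]⟩)) y
  simpa [Res_of_mem _ hy, dot_Res_left, bq] using this

theorem orth4 (hl : l ∈ IrrK K E) (hm : m ∈ IrrK K E) :
    ∑ χ ∈ Irr ⊤, bq K t χ l * conj (bq K t χ m) = if l = m then 4 else 0 := by
  rw [h.orth (irr_supp (irrK_irr hl)) (irr_supp (irrK_irr hm)), Finset.sum_congr rfl fun g hg => by
    rw [h.inv l hl _ (inv_mem (mem_els.1 hg))], sum_els_const, h.card,
    dot_irr (irrK_irr hm) (irrK_irr hl)]
  have := cardC_ne_zero K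
  by_cases e : l = m
  · simp [e]; field_simp
  · simp [e, Ne.symm e]

theorem vconst (hl : l ∈ IrrK K E) : ∑ χ ∈ Irr ⊤, bq K t χ l * (χ t ^ 2 / χ 1) =
    ∑ χ ∈ Irr ⊤, bq K t χ (triv K) * (χ t ^ 2 / χ 1) := by
  have k : ∀ l, bq K t (Br.prs (Br.cls ⊤ t)) l = ♯(⊤ : Subgroup G) / (♯(⊤ ⊓ 𝐂[t] : Subgroup G)) ^ 2 *
      ∑ χ ∈ Irr ⊤, bq K t χ l * (χ t ^ 2 / χ 1) := fun l => by
    rw [cf_sum_irr (Br.prs_CF (mem_top t)), bq_sum, Finset.mul_sum]
    exact Finset.sum_congr rfl fun χ hχ => by rw [Br.dot_prs (mem_top t) (bg_sq h.t2) hχ]; ring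
  refine mul_left_cancel₀ (div_ne_zero (cardC_ne_zero (⊤ : Subgroup G)) (pow_ne_zero 2 (cardC_ne_zero
    (⊤ ⊓ 𝐂[t] : Subgroup G)))) ?_
  rw [← k, ← k, bq, bq, dot, dot]
  refine congrArg _ (Finset.sum_congr rfl fun y hy => ?_)
  replace hy := mem_els.1 hy
  by_cases e : Br.prs (Br.cls ⊤ t) (t * y) = 0
  · rw [e, zero_mul, zero_mul]
  obtain ⟨a, ha, e⟩ := Finset.exists_ne_zero_of_sum_ne_zero e
  have sq : ∀ b ∈ Br.cls ⊤ t, b⁻¹ = b := by
    rintro _ ⟨k, -, rfl⟩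
    simp [mul_assoc, inv_eq_of_mul_eq_one_right (bg_sq h.t2)]
  have e1 := sq _ (mem_els.1 ha)
  have e2 := sq _ (by_contra fun k => e (if_neg k))
  have e3 : a * (t * y) * a⁻¹ = t * y⁻¹ := by
    rw [e1] at e2
    rw [← mem_cent1_iff.1 (h.cent (inv_mem hy)), ← e2, mul_inv_rev, mul_assoc, ← mul_inv_rev,
      inv_eq_iff_mul_eq_one.1 e1]
    simp [inv_eq_of_mul_eq_one_right (bg_sq h.t2)]
  have e4 := h.ti (inv_mem hy) hy e3
  have e5 := cjf_conj a l y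
  rw [← mul_assoc, mem_cent1_iff.1 e4, mul_assoc, mul_assoc, mul_right_inj, ← mul_assoc] at e3
  rw [h.inv l hl a e4, e3, (h.lin hl).map_inv hy] at e5
  rw [triv_of_mem hy, bg_root (h.odd.of_dvd_nat (orderOf_dvd_card' hy)) ((h.lin hl).pow_orderOf hy)
    (by rw [← mul_inv_cancel₀ ((h.lin hl).ne_zero hy), e5])]

theorem mod4 (hχ : χ ∈ Irr ⊤) : ∃ n : ℤ, χ 1 + 3 * χ t = 4 * n := by
  have k : ∀ u, orderOf u = 2 → χ u = χ t := fun u hu => by
    obtain ⟨g, rfl⟩ := isConj_iff.1 (h.cnj u hu)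
    exact cfJ (irr_CF hχ) (mem_top g) t
  have h1 : t ∉ zpowers s := fun e => by
    have := eq_zpowers_of_card_prime (X := zpowers s) (by
      rw [Nat.card_zpowers, h.s2]; exact Nat.prime_two) e (bg_ne h.t2)
    obtain ⟨n, hn, e⟩ := Finset.mem_image.1 ((mem_zpowers_iff_mem_range_orderOf).1 e)
    rw [h.s2, Finset.mem_range] at hn
    interval_cases n
    exacts [bg_ne h.t2 (by simpa using e.symm), h.ne (by simpa using e.symm)]
  obtain ⟨n, hn⟩ := bg_par h.t2 (zpowers_le.2 h.st) h1 (triv_mem_Char _) (irr_vchar hχ)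
  rw [bq, bg_zp h.s2, bg_zp h.s2, mul_one, k s h.s2, k (t * s) (orderOf_eq_prime (by
    rw [sq, mul_assoc, ← mul_assoc s, mem_cent1_iff.1 h.st, mul_assoc, bg_sq h.s2, mul_one,
      bg_sq h.t2]) fun e => h1 (eq_inv_of_mul_eq_one_left e ▸ inv_mem (mem_zpowers s)))] at hn
  exact ⟨n, by linear_combination 2 * hn⟩

theorem real (hχ : χ ∈ Irr ⊤) (hx : s * x * s⁻¹ = x⁻¹) : conj (χ x) = χ x := by
  rw [← char_inv (irr_char hχ), ← hx, cfJ (irr_CF hχ) (mem_top s)]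

variable [IsSimpleGroup G]

theorem eq_triv (hχ : χ ∈ Irr ⊤) (h1 : ∀ x ∈ E, s * x * s⁻¹ = x⁻¹ → χ x = χ 1) : χ = triv ⊤ := by
  obtain ⟨x, a, b, c⟩ := h.ex
  exact (irr_eq_triv_iff hχ).2 (((nrm_top_iff.1 (cker_irr_nrm hχ)).eq_bot_or_eq_top.resolve_left
    (ne_bot_of_mem (mem_cker_char (irr_char hχ) (mem_top x) (h1 x a c)) b)).ge)

theorem deg1 (hχ : χ ∈ Irr ⊤) (h1 : deg χ = 1) : χ = triv ⊤ := h.eq_triv hχ fun x hx hs => by
  have hl := lin_of_deg (irr_char hχ) h1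
  rw [hl.one]
  exact bg_root (h.oddE.of_dvd_nat (orderOf_dvd_card' hx)) (hl.pow_orderOf (mem_top x))
    (by rw [← hl.mul_conj (mem_top x), h.real hχ hs])

theorem deg3 (hχ : χ ∈ Irr ⊤) (h1 : deg χ = 3) (h2 : ∀ x ∈ E, χ (t * x) = -1) : False := by
  have h3 : χ 1 = 3 := by rw [irr_one hχ, h1]; rfl
  have := h.eq_triv hχ fun x hx hs => ?_
  · rw [this, triv_of_mem (mem_top _)] at h3; norm_num at h3
  obtain ⟨S, s1, s2, -⟩ := char_val (irr_char hχ) (mem_top (t * x))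
  have c : Commute t x := (mem_cent1_iff.1 (h.cent (h.nE.le hx))).symm
  have e1 : (t * x) ^ ♯E = t := by
    obtain ⟨k, hk⟩ := h.oddE
    rw [c.mul_pow, pow_card_eq_one'' hx, hk, pow_succ, pow_mul, pow_two, bg_sq h.t2]; simp
  have e2 : ∀ z ∈ S, z ^ ♯E = 1 ∨ z ^ ♯E = -1 := fun z hz => sq_eq_one_iff.1 (by
    obtain ⟨k, hk⟩ := orderOf_dvd_of_pow_eq_one (show (t * x) ^ (♯E * 2) = 1 by
      rw [pow_mul, e1, sq, bg_sq h.t2])
    rw [← pow_mul, hk, pow_mul, s1 z hz, one_pow])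
  have a0 := s2 0
  have a1 := s2 1
  have a2 := s2 ♯E
  have a3 := s2 (♯E + 1)
  have a4 := h.real hχ hs
  rw [pow_succ, e1, ← mul_assoc, bg_sq h.t2, one_mul] at a3
  rw [e1, ← mul_one t, h2 1 (one_mem _)] at a2
  rw [pow_one, h2 x hx] at a1
  obtain ⟨a, b, c, rfl⟩ := Multiset.card_eq_three.1 (show S.card = 3 by
    simp only [pow_zero, h3, Multiset.map_const', Multiset.sum_replicate, nsmul_eq_mul, mul_one] at a0
    exact_mod_cast a0.symm)
  simp only [Multiset.insert_eq_cons, Multiset.map_cons, Multiset.map_singleton, Multiset.sum_cons,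
    Multiset.sum_singleton, pow_succ, pow_zero] at a1 a2 a3
  rw [h3]
  rcases e2 a (by simp) with ha | ha <;> rcases e2 b (by simp) with hb | hb <;>
    rcases e2 c (by simp) with hc | hc <;> rw [ha, hb, hc] at a2 a3
  all_goals first
    | (norm_num at a2; done)
    | exact bg_three h.oddE ha a4 (by linear_combination a3 + a1)
    | exact bg_three h.oddE hb a4 (by linear_combination a3 + a1)
    | exact bg_three h.oddE hc a4 (by linear_combination a3 + a1)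

end Sec3

theorem Sec3.cases [IsSimpleGroup G] (h : Sec3 K E t s) (hl : l ∈ IrrK K E) : ∃ V : ℚ,
    ∑ χ ∈ Irr ⊤, bq K t χ l * (χ t ^ 2 / χ 1) = V ∧
    ((l ≠ triv K ∧ (V = 0 ∨ ∃ Y : ℤ, Y % 4 = 3 ∧ V = 8 / Y)) ∨ ∃ X : Fin 4 → ℤ, ∑ i, X i = 0 ∧
      V = ∑ i, (1 / X i : ℚ) ∧ (∀ i, X i % 4 = 1 ∧ X i ≠ -3) ∧ (l ≠ triv K → ∀ i, X i ≠ 1) ∧
      (l = triv K → ∃ j, X j = 1 ∧ ∀ i, i ≠ j → X i ≠ 1)) := by
  have : ∀ θ χ, ∃ n : ℤ, θ ∈ Irr K → χ ∈ Irr ⊤ → bq K t χ θ = n := fun θ χ => by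
    by_cases e : θ ∈ Irr K ∧ χ ∈ Irr ⊤
    · exact (h.cint (irr_vchar e.2) (irr_char e.1)).imp fun _ k _ _ => k
    · exact ⟨0, fun a b => absurd ⟨a, b⟩ e⟩
  choose A hA using this
  have tri : ∀ θ ∈ Irr K, ∀ χ ∈ Irr ⊤, A θ χ = 0 ∨ Sg (A θ χ) := fun θ hθ χ hχ =>
    h.tri hθ (fun χ => hA θ χ hθ) hχ
  have orth : ∀ m ∈ IrrK K E, ∀ n ∈ IrrK K E, ∑ χ ∈ Irr ⊤, A m χ * A n χ = if m = n then 4 else 0 :=
    fun m hm n hn => by
      have := h.orth4 hm hn
      rw [Finset.sum_congr rfl (g := fun χ => ((A m χ * A n χ : ℤ) : ℂ)) fun χ hχ => by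
        simp [hA _ χ (irrK_irr hm) hχ, hA _ χ (irrK_irr hn) hχ]] at this
      exact_mod_cast this
  have hl' := irrK_irr hl
  have c4 : ((Irr ⊤).filter fun χ => A l χ ≠ 0).card = 4 := by
    have := orth l hl l hl
    rw [if_pos rfl, Finset.sum_congr rfl (g := fun χ => if A l χ ≠ 0 then 1 else 0) fun χ hχ => by
      rcases tri l hl' χ hχ with e | e | e <;> simp [e], Finset.sum_boole] at this
    exact_mod_cast this
  obtain ⟨e, inj, e1, e2, e3⟩ : ∃ e : Fin 4 → G → ℂ, Function.Injective e ∧ (∀ i, e i ∈ Irr ⊤) ∧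
      (∀ i, Sg (A l (e i))) ∧ ∀ χ ∈ Irr ⊤, A l χ ≠ 0 → ∃ i, e i = χ := by
    let f := (Finset.equivFinOfCardEq c4).symm
    have k := fun i => Finset.mem_filter.1 (f i).2
    exact ⟨fun i => f i, Subtype.val_injective.comp f.injective, fun i => (k i).1, fun i =>
      (tri l hl' _ (k i).1).resolve_left (k i).2, fun χ hχ e =>
        ⟨f.symm ⟨χ, Finset.mem_filter.2 ⟨hχ, e⟩⟩, by simp⟩⟩
  have sm : ∀ {R : Type} [AddCommMonoid R] (F : (G → ℂ) → R), (∀ χ ∈ Irr ⊤, A l χ = 0 → F χ = 0) →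
      ∑ χ ∈ Irr ⊤, F χ = ∑ i, F (e i) := fun F k => by
    rw [← Finset.sum_image (s := Finset.univ) inj.injOn]
    refine (Finset.sum_subset (fun χ hχ => ?_) fun χ hχ k' => k χ hχ (by_contra fun a => k' ?_)).symm
    · obtain ⟨i, -, rfl⟩ := Finset.mem_image.1 hχ; exact e1 i
    · simpa using e3 χ hχ a
  have sup : ∀ m ∈ IrrK K E, (∀ i, A m (e i) = 0) ∨
      (∀ i, Sg (A m (e i))) ∧ ∀ χ ∈ Irr ⊤, A l χ = 0 → A m χ = 0 := fun m hm => by
    refine or_iff_not_imp_left.2 fun k => ?_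
    obtain ⟨i, hi⟩ := not_forall.1 k
    have m1 := irrK_irr hm
    have k1 := fun χ hχ => Int.even_iff.1 (h.same (e1 i) hχ hl hm (hA _ _ hl' (e1 i))
      (hA _ _ m1 (e1 i)) (hA _ χ hl' hχ) (hA _ χ m1 hχ) (e2 i).odd
      ((tri m m1 _ (e1 i)).resolve_left hi).odd)
    refine ⟨fun j => (tri m m1 _ (e1 j)).resolve_left fun a => ?_, fun χ hχ a => ?_⟩
    · have := k1 _ (e1 j); rcases e2 j with b | b <;> omega
    · have := k1 _ hχ; rcases tri m m1 χ hχ with b | b | b <;> omega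
  have val : ∀ i, ∀ y ∈ K, e i (t * y) = ∑ m ∈ IrrK K E, A m (e i) * m y := fun i y hy => by
    rw [h.four (irr_CF (e1 i)) hy, ← Finset.sum_subset (IrrK_subset K E) fun θ hθ k => ?_]
    · exact Finset.sum_congr rfl fun m hm => by rw [hA _ _ (irrK_irr hm) (e1 i)]
    have := Int.even_iff.1 (h.off (e1 i) hl hθ k (hA _ _ hθ (e1 i)) (hA _ _ hl' (e1 i)) (e2 i).odd)
    rw [hA _ _ hθ (e1 i), show A θ (e i) = 0 by rcases tri θ hθ _ (e1 i) with b | b | b <;> omega]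
    simp
  obtain ⟨c, hc⟩ : ∃ c : Fin 4 → ℤ, ∀ i, c i = ∑ m ∈ IrrK K E, A l (e i) * A m (e i) := ⟨_, fun _ => rfl⟩
  obtain ⟨X, hX⟩ : ∃ X : Fin 4 → ℤ, ∀ i, X i = A l (e i) * deg (e i) := ⟨_, fun _ => rfl⟩
  have c1 : ∀ i, (c i : ℂ) = A l (e i) * e i t := fun i => by
    rw [← mul_one t, val i 1 (one_mem _), hc, Finset.mul_sum, Int.cast_sum]
    exact Finset.sum_congr rfl fun m hm => by rw [(h.lin hm).one]; simp
  have x1 : ∀ i, (X i : ℂ) = A l (e i) * e i 1 := fun i => by rw [hX, irr_one (e1 i)]; simp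
  have x2 : ∀ i, (X i + 3 * c i) % 4 = 0 := fun i => by
    obtain ⟨n, hn⟩ := h.mod4 (e1 i)
    have : X i + 3 * c i = 4 * (A l (e i) * n) := by
      exact_mod_cast (show (X i + 3 * c i : ℂ) = 4 * (A l (e i) * n) by
        rw [c1, x1]; linear_combination A l (e i) * hn)
    omega
  have x3 : ∀ m ∈ IrrK K E, ∑ i, X i * (A l (e i) * A m (e i)) = 0 := fun m hm => by
    rcases sup m hm with k | ⟨-, k⟩
    · simp [k]
    have := h.deg0 m
    rw [sm _ fun χ hχ a => by rw [hA _ _ (irrK_irr hm) hχ, k χ hχ a]; simp, Finset.sum_congr rfl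
      (g := fun i => ((X i * (A l (e i) * A m (e i)) : ℤ) : ℂ)) fun i _ => by
        rw [hX, mul_mul_mul_comm, (e2 i).mul_self, hA _ _ (irrK_irr hm) (e1 i), irr_one (e1 i)]
        simp] at this
    exact_mod_cast this
  have t1 : ∀ m ∈ IrrK K E, A m (triv ⊤) = if triv K = m then 1 else 0 := fun m hm => by
    have := hA _ _ (irrK_irr hm) (triv_mem_Irr ⊤)
    rw [bq, dot_congr (φ' := triv K) (fun x hx => by rw [triv_of_mem hx, triv_of_mem (mem_top _)])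
      fun _ _ => rfl, dot_irr (triv_mem_Irr K) (irrK_irr hm)] at this
    exact_mod_cast this.symm
  refine ⟨∑ i, (c i : ℚ) ^ 2 / X i, ?_, ?_⟩
  · rw [sm _ fun χ hχ a => by rw [hA _ _ hl' hχ, a]; simp]
    push_cast
    refine Finset.sum_congr rfl fun i _ => ?_
    rw [c1, x1, hA _ _ hl' (e1 i)]
    rcases e2 i with a | a <;> simp [a, div_neg]
  by_cases k : ∀ m ∈ IrrK K E, m ≠ l → ∀ i, A m (e i) = 0
  · have c2 : ∀ i, c i = 1 := fun i => by
      rw [hc, Finset.sum_eq_single_of_mem l hl fun m hm a => by rw [k m hm a, mul_zero],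
        (e2 i).mul_self]
    have x4 : ∀ i, X i = 1 → e i = triv ⊤ := fun i a => h.deg1 (e1 i) (by
      rw [hX] at a; rcases e2 i with b | b <;> rw [b] at a <;> omega)
    refine .inr ⟨X, by simpa [fun i => (e2 i).mul_self] using x3 l hl, by simp [c2],
      fun i => ⟨by have := x2 i; rw [c2] at this; omega, fun a => ?_⟩, fun a i b => ?_, fun a => ?_⟩
    · have b : A l (e i) = -1 ∧ deg (e i) = 3 := by
        rw [hX] at a; rcases e2 i with b | b <;> rw [b] at a ⊢ <;> omega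
      refine h.deg3 (e1 i) b.2 fun x hx => ?_
      rw [val i x (h.nE.le hx), Finset.sum_eq_single_of_mem l hl fun m hm a => by simp [k m hm a],
        b.1, (h.lin hl).mem_cker.1 (irrK_ker hl hx)]
      simp
    · have := e2 i
      rw [x4 i b, t1 l hl, if_neg (Ne.symm a)] at this
      simp [Sg] at this
    · obtain ⟨j, hj⟩ := e3 _ (triv_mem_Irr ⊤) (by rw [t1 l hl, if_pos a.symm]; exact one_ne_zero)
      exact ⟨j, by rw [hX, hj, t1 l hl, if_pos a.symm, deg_triv]; rfl, fun i ij b => ij (inj ((x4 i b).trans hj.symm))⟩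
  refine .inl ⟨fun a => k fun m hm b => (sup m hm).resolve_right fun ⟨b1, _⟩ => ?_, ?_⟩
  · obtain ⟨j, hj⟩ := e3 _ (triv_mem_Irr ⊤) (by rw [t1 l hl, if_pos a.symm]; exact one_ne_zero)
    have := b1 j
    rw [hj, t1 m hm, if_neg fun b' => b (b'.symm.trans a.symm)] at this
    simp [Sg] at this
  refine (or_assoc.2 (bg_comb (IrrK K E) (fun m i => A l (e i) * A m (e i)) X c hl
    (fun i => (e2 i).mul_self) (fun m hm => (sup m hm).imp (fun a i => by rw [a, mul_zero])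
      fun a i => (e2 i).mul (a.1 i)) (fun m hm n hn a => ?_) x3 hc ?_ (x2 0))).resolve_right
    fun a => k fun m hm b i => ?_
  · rcases sup m hm with b | ⟨-, b⟩
    · simp [b]
    have := orth m hm n hn
    rw [if_neg a, sm _ fun χ hχ a => by rw [b χ hχ a, zero_mul]] at this
    simpa only [mul_mul_mul_comm (A l _) _ (A l _), fun i => (e2 i).mul_self, one_mul] using this
  · have := deg_irr_pos (e1 0)
    rw [hX]; rcases e2 0 with b | b <;> rw [b] <;> omega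
  · have := a m hm b i
    rcases e2 i with b | b <;> simpa [b] using this

theorem Sec3.triv_eq [IsSimpleGroup G] (h : Sec3 K E t s) (hl : l ∈ IrrK K E) : l = triv K := by
  by_contra k
  obtain ⟨V, v1, v2⟩ := h.cases hl
  obtain ⟨W, w1, w2⟩ := h.cases (triv_mem_IrrK h.nE.le)
  obtain rfl : V = W := by exact_mod_cast v1.symm.trans ((h.vconst hl).trans w1)
  obtain ⟨X, x1, x2, x3, -, x4⟩ := w2.resolve_left fun a => a.1 rfl
  obtain ⟨j, x4, x5⟩ := x4 rfl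
  have n : ∀ i, i ≠ j → X i % 4 = 1 ∧ X i ≠ 1 ∧ X i ≠ -3 := fun i a => ⟨(x3 i).1, x5 i a, (x3 i).2⟩
  simp only [Fin.sum_univ_four] at x1 x2
  obtain ⟨a1, a2⟩ : 3 / 5 ≤ V ∧ ∀ Y : ℤ, Y % 4 = 3 → V ≠ 8 / Y := by
    fin_cases j <;> simp only [Fin.zero_eta, Fin.mk_one, Fin.reduceFinMk] at x4 n <;>
      rw [x4] at x1 x2
    · exact bg_num1 (by omega) (n 1 (by decide)) (n 2 (by decide)) (n 3 (by decide)) (by rw [x2]; simp)
    · exact bg_num1 (by omega) (n 0 (by decide)) (n 2 (by decide)) (n 3 (by decide))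
        (by rw [x2]; push_cast; ring)
    · exact bg_num1 (by omega) (n 0 (by decide)) (n 1 (by decide)) (n 3 (by decide))
        (by rw [x2]; push_cast; ring)
    · exact bg_num1 (by omega) (n 0 (by decide)) (n 1 (by decide)) (n 2 (by decide))
        (by rw [x2]; push_cast; ring)
  rcases v2 with ⟨-, a | ⟨Y, y1, y2⟩⟩ | ⟨Z, z1, z2, z3, z4, -⟩
  · linarith
  · exact a2 Y y1 y2
  · simp only [Fin.sum_univ_four] at z1 z2
    have m : ∀ i, Z i % 4 = 1 ∧ Z i ≠ 1 ∧ Z i ≠ -3 := fun i => ⟨(z3 i).1, z4 k i, (z3 i).2⟩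
    linarith [bg_num2 z1 (m 0) (m 1) (m 2) (m 3)]

end Cfsg.Agent.AG
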